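import Groth.Agent.Sga7.H244.Laws3

/-!
# `IsMinimal` from translations, a law and an inverse
-/

set_option autoImplicit false

universe u v

open CategoryTheory CategoryTheory.Limits MonoidalCategory CartesianMonoidalCategory AlgebraicGeometry
  MonObj

namespace Groth.Agent.Sga7.H244

open Charts

section Final

variable {R K : Type u} [CommRing R] [IsLocalRing R] [Field K] [Algebra R K]
  {A : Over (Spec (CommRingCat.of K))} [GrpObj A]

omit [GrpObj A] in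
/-- A relation out of a chart with irreducible special fibre in terms of an open subset. -/
theorem Rel.exists_opens {C D : Chart R K A}
    {F : ∀ T : Over (Spec (CommRingCat.of K)), (T ⟶ A) → (T ⟶ A)} (r : Rel C D F) {ξ : C.X}
    (hξ : Irr C ξ) : ∃ (V : C.X.Opens) (_ : ξ ∈ V) (g : V.toScheme ⟶ D.X),
      IsOpenImmersion g ∧ g ≫ D.x = V.ι ≫ C.x ∧
      ∀ (T : Over (Spec (CommRingCat.of K))) (t : T.left ⟶ V.toScheme)
        (h₁ : (t ≫ g) ≫ D.x = T.hom ≫ gen R K)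
        (h₂ : (t ≫ V.ι) ≫ C.x = T.hom ≫ gen R K),
        D.pt (t ≫ g) h₁ = F T (C.pt (t ≫ V.ι) h₂) := by
  obtain ⟨z, hz⟩ := r.ex
  have hmem : ξ ∈ r.j₁.opensRange := (hξ.2 _ hz).mem_open r.j₁.isOpenEmbedding.isOpen_range ⟨z, rfl⟩
  have e1 : r.j₁.isoOpensRange.inv ≫ r.j₁ = r.j₁.opensRange.ι := r.j₁.isoOpensRange_inv_comp
  refine ⟨r.j₁.opensRange, hmem, r.j₁.isoOpensRange.inv ≫ r.j₂, inferInstance, ?_, ?_⟩
  · rw [Category.assoc, ← r.w, ← Category.assoc, e1]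
  · intro T t h₁ h₂
    have e2 : (t ≫ r.j₁.isoOpensRange.inv) ≫ r.j₂ = t ≫ r.j₁.isoOpensRange.inv ≫ r.j₂ :=
      Category.assoc _ _ _
    have e3 : (t ≫ r.j₁.isoOpensRange.inv) ≫ r.j₁ = t ≫ r.j₁.opensRange.ι := by
      rw [Category.assoc, e1]
    have k1 : ((t ≫ r.j₁.isoOpensRange.inv) ≫ r.j₂) ≫ D.x = T.hom ≫ gen R K := by rw [e2, h₁]
    have k2 : ((t ≫ r.j₁.isoOpensRange.inv) ≫ r.j₁) ≫ C.x = T.hom ≫ gen R K := by rw [e3, h₂]
    rw [← pt_congr D e2 k1 h₁, r.pt T _ k2 k1, pt_congr C e3 k2 h₂]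

/-- A law in terms of an open subset of the product. -/
theorem Law.exists_opens {C : Chart R K A} {d : 𝟙_ (Over (Spec (CommRingCat.of K))) ⟶ A}
    (L : Law C C C d) :
    ∃ (U : (pullback C.x C.x).Opens) (m : U.toScheme ⟶ C.X)
      (h : m ≫ C.x = (U.ι ≫ pullback.fst C.x C.x) ≫ C.x)
      (h' : m ≫ C.x = (U.ι ≫ pullback.snd C.x C.x) ≫ C.x),
      (∃ p ∈ U, (pullback.fst C.x C.x ≫ C.x).base p = IsLocalRing.closedPoint R) ∧
      IsOpenImmersion (pullback.lift (U.ι ≫ pullback.fst C.x C.x) m h.symm) ∧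
      IsOpenImmersion (pullback.lift m (U.ι ≫ pullback.snd C.x C.x) h') ∧
      ∀ (T : Over (Spec (CommRingCat.of K))) (t : T.left ⟶ U.toScheme)
        (h₀ : (t ≫ m) ≫ C.x = T.hom ≫ gen R K)
        (h₁ : (t ≫ U.ι ≫ pullback.fst C.x C.x) ≫ C.x = T.hom ≫ gen R K)
        (h₂ : (t ≫ U.ι ≫ pullback.snd C.x C.x) ≫ C.x = T.hom ≫ gen R K),
        C.pt (t ≫ m) h₀ = C.pt (t ≫ U.ι ≫ pullback.fst C.x C.x) h₁ *
          C.pt (t ≫ U.ι ≫ pullback.snd C.x C.x) h₂ * (toUnit T ≫ d) := by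
  let j := pullback.lift L.u₁ L.u₂ L.w₁₂
  let e := j.isoOpensRange
  have e1 : e.inv ≫ j = j.opensRange.ι := j.isoOpensRange_inv_comp
  have ef : j.opensRange.ι ≫ pullback.fst C.x C.x = e.inv ≫ L.u₁ := by
    rw [← e1, Category.assoc, pullback.lift_fst]
  have es : j.opensRange.ι ≫ pullback.snd C.x C.x = e.inv ≫ L.u₂ := by
    rw [← e1, Category.assoc, pullback.lift_snd]
  have w1 : (e.inv ≫ L.m) ≫ C.x = (j.opensRange.ι ≫ pullback.fst C.x C.x) ≫ C.x := by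
    rw [ef, Category.assoc, Category.assoc, L.w₁₃]
  have w2 : (e.inv ≫ L.m) ≫ C.x = (j.opensRange.ι ≫ pullback.snd C.x C.x) ≫ C.x := by
    rw [es, Category.assoc, Category.assoc, L.w₃₂]
  refine ⟨j.opensRange, e.inv ≫ L.m, w1, w2, ?_, ?_, ?_, ?_⟩
  · obtain ⟨z, hz⟩ := L.ex
    refine ⟨j z, ⟨z, rfl⟩, ?_⟩

    rw [← Scheme.Hom.comp_apply, pullback.lift_fst_assoc, L.w₁₃, Scheme.Hom.comp_apply, hz]
  · rw [comp_lift_eq C.x C.x e.inv L.u₁ L.m L.w₁₃ w1.symm ef rfl]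
    infer_instance
  · rw [comp_lift_eq C.x C.x e.inv L.m L.u₂ L.w₃₂ w2 rfl es]
    infer_instance
  · intro T t h₀ h₁ h₂
    have a0 : (t ≫ e.inv) ≫ L.m = t ≫ e.inv ≫ L.m := Category.assoc _ _ _
    have a1 : (t ≫ e.inv) ≫ L.u₁ = t ≫ j.opensRange.ι ≫ pullback.fst C.x C.x := by
      rw [ef, Category.assoc]
    have a2 : (t ≫ e.inv) ≫ L.u₂ = t ≫ j.opensRange.ι ≫ pullback.snd C.x C.x := by
      rw [es, Category.assoc]
    have k0 : ((t ≫ e.inv) ≫ L.m) ≫ C.x = T.hom ≫ gen R K := by rw [a0, h₀]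
    have k1 : ((t ≫ e.inv) ≫ L.u₁) ≫ C.x = T.hom ≫ gen R K := by rw [a1, h₁]
    have k2 : ((t ≫ e.inv) ≫ L.u₂) ≫ C.x = T.hom ≫ gen R K := by rw [a2, h₂]
    rw [← pt_congr C a0 k0 h₀, ← pt_congr C a1 k1 h₁, ← pt_congr C a2 k2 h₂, L.pt T _ k1 k2 k0]

theorem alg1 {H : Type v} [CommGroup H] (a b d : H) : a * b * d * d = a * d * (b * d) := by
  rw [_root_.mul_mul_mul_comm, _root_.mul_assoc (a * b)]

theorem alg2 {H : Type v} [CommGroup H] (a e d : H) : a⁻¹ * e * d = (a * d)⁻¹ * (d * (e * d)) := by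
  rw [mul_inv, _root_.mul_assoc, _root_.mul_assoc, inv_mul_cancel_left]

variable {I : Type v}

theorem isMinimal_twist [IsSepClosed (IsLocalRing.ResidueField R)] [IsCommMonObj A]
    (Y : I → Chart R K A) (C : Chart R K A)
    (hsm : Smooth C.x) (haff : IsAffine C.X) (hop : IsOpenImmersion C.φ) (ξ : C.X) (hξ : Irr C ξ)
    (htr : ∀ c, ∃ i, Nonempty (Rel C (Y i) (tr c)))
    (d e : 𝟙_ (Over (Spec (CommRingCat.of K))) ⟶ A) (L : Law C C C d) (r : Rel C C (iv e)) :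
    IsMinimal Y (twist C d) ξ where
  smooth := hsm
  affine := haff
  openImmersion := inferInstance
  «over» := hξ.1
  generic := hξ.2
  geomIrred := geometricallyIrreducible_special C.x ξ hξ.1 hξ.2
  trans c := by
    obtain ⟨i, ⟨s⟩⟩ := htr (d * c)
    obtain ⟨V, hV, g, hg, hgx, hpt⟩ := s.exists_opens hξ
    refine ⟨i, V, hV, g, hg, hgx, fun T t h₁ h₂ => ?_⟩
    refine (hpt T t h₁ h₂).trans ?_
    have := twist_pt C d (t ≫ V.ι) h₂
    refine Eq.trans ?_ (congrArg (· * (toUnit T ≫ c)) this.symm)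
    change C.pt (t ≫ V.ι) h₂ * (toUnit T ≫ (d * c)) = C.pt (t ≫ V.ι) h₂ * (toUnit T ≫ d) * (toUnit T ≫ c)
    rw [MonObj.comp_mul, _root_.mul_assoc]
  law := by
    obtain ⟨U, m, h, h', hp, ho₁, ho₂, hpt⟩ := L.exists_opens
    refine ⟨U, m, h, h', hp, ho₁, ho₂, fun T t h₀ h₁ h₂ => ?_⟩
    have t0 := twist_pt C d (t ≫ m) h₀
    have t1 := twist_pt C d (t ≫ U.ι ≫ pullback.fst C.x C.x) h₁
    have t2 := twist_pt C d (t ≫ U.ι ≫ pullback.snd C.x C.x) h₂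
    refine t0.trans (Eq.trans ?_ (congrArg₂ (· * ·) t1.symm t2.symm))
    exact (congrArg (· * (toUnit T ≫ d)) (hpt T t h₀ h₁ h₂)).trans (alg1 _ _ _)
  inv := by
    obtain ⟨V, hV, g, hg, hgx, hpt⟩ := r.exists_opens hξ
    refine ⟨d * (e * d), V, hV, g, hg, hgx, fun T t h₁ h₂ => ?_⟩
    have t1 := twist_pt C d (t ≫ g) h₁
    have t2 := twist_pt C d (t ≫ V.ι) h₂
    refine t1.trans (Eq.trans ?_ (congrArg (fun z => z⁻¹ * (toUnit T ≫ (d * (e * d)))) t2.symm))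
    refine (congrArg (· * (toUnit T ≫ d)) (hpt T t h₁ h₂)).trans ?_
    have e1 : toUnit T ≫ (d * (e * d)) = (toUnit T ≫ d) * ((toUnit T ≫ e) * (toUnit T ≫ d)) := by
      rw [MonObj.comp_mul, MonObj.comp_mul]
    refine Eq.trans ?_ (congrArg (fun z => (C.pt (t ≫ V.ι) h₂ * (toUnit T ≫ d))⁻¹ * z) e1.symm)
    exact alg2 _ _ _

end Final

end Groth.Agent.Sga7.H244
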