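import Groth.Agent.Sga7.H244.Stage4
import Groth.Agent.Sga7.H244.Laws4
import Groth.Agent.Sga7.H479.WeakNeronK
import Mathlib.AlgebraicGeometry.Group.Abelian

/-!
# N3: existence of a minimal chart
-/

set_option autoImplicit false

universe u v

open CategoryTheory CategoryTheory.Limits MonoidalCategory CartesianMonoidalCategory AlgebraicGeometry
  MonObj

namespace Groth.Agent.Sga7.H244

open Charts

section Affine

variable {R K : Type u} [CommRing R] [Field K] [Algebra R K]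
  {A : Over (Spec (CommRingCat.of K))}

/-- An affine smooth chart is isomorphic to a ring chart. -/
theorem exists_RC (C : Chart R K A) (hsm : Smooth C.x) (haff : IsAffine C.X)
    (hop : IsOpenImmersion C.φ) :
    ∃ (W : RC R K A) (e : C.X ≅ (ofRing W.p).X), e.hom ≫ (ofRing W.p).x = C.x ∧
      ∀ (T : Over (Spec (CommRingCat.of K))) (t : T.left ⟶ C.X)
        (h : t ≫ C.x = T.hom ≫ gen R K)
        (h' : (t ≫ e.hom) ≫ (ofRing W.p).x = T.hom ≫ gen R K),
        (ofRing W.p).pt (t ≫ e.hom) h' = C.pt t h := by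
  let B := Γ(C.X, ⊤)
  let e : C.X ≅ Spec (CommRingCat.of B) := C.X.isoSpec
  let ψ : CommRingCat.of R ⟶ CommRingCat.of B := Spec.preimage (e.inv ≫ C.x)
  have hψ : Spec.map ψ = e.inv ≫ C.x := Spec.map_preimage _
  let _ : Algebra R B := ψ.hom.toAlgebra
  have hx : Spec.map (CommRingCat.ofHom (algebraMap R B)) = e.inv ≫ C.x := hψ
  have hx' : e.hom ≫ Spec.map (CommRingCat.ofHom (algebraMap R B)) = C.x := by
    rw [hx, Iso.hom_inv_id_assoc]
  have hsmB : Algebra.Smooth R B := by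
    have h : Smooth (Spec.map (CommRingCat.ofHom (algebraMap R B))) := by rw [hx]; infer_instance
    rw [HasRingHomProperty.Spec_iff (P := @Smooth)] at h
    exact RingHom.smooth_algebraMap.mp h
  let T₀ : Over (Spec (CommRingCat.of K)) := SpecOver K (G R K B)
  let g₀ : T₀.left ⟶ C.X := Spec.map (CommRingCat.ofHom (algebraMap B (G R K B))) ≫ e.inv
  have hg₀ : g₀ ≫ C.x = T₀.hom ≫ gen R K := by
    rw [Category.assoc, ← hx]
    exact (isPullback_gen (K := K) B).w
  have hpb : IsPullback g₀ T₀.hom C.x (gen R K) := by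
    refine IsPullback.of_iso (isPullback_gen (R := R) (K := K) B) (Iso.refl _) e.symm (Iso.refl _)
      (Iso.refl _) ?_ ?_ ?_ ?_
    · change _ ≫ e.inv = 𝟙 _ ≫ g₀
      rw [Category.id_comp]
    · change _ ≫ 𝟙 _ = 𝟙 _ ≫ T₀.hom
      rw [Category.id_comp, Category.comp_id]
      rfl
    · change _ ≫ 𝟙 _ = e.inv ≫ C.x
      rw [Category.comp_id, hx]
    · change _ ≫ 𝟙 _ = 𝟙 _ ≫ _
      rw [Category.id_comp, Category.comp_id]
  let p : T₀ ⟶ A := C.pt g₀ hg₀
  have hiso : IsIso (C.isPullback.lift g₀ T₀.hom hg₀) := by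
    let i := hpb.isoIsPullback _ _ C.isPullback
    have : C.isPullback.lift g₀ T₀.hom hg₀ = i.hom := by
      apply C.isPullback.hom_ext
      · rw [IsPullback.lift_fst, IsPullback.isoIsPullback_hom_fst]
      · rw [IsPullback.lift_snd, IsPullback.isoIsPullback_hom_snd]
    rw [this]
    infer_instance
  have hpo : IsOpenImmersion p.left := by
    change IsOpenImmersion (C.isPullback.lift g₀ T₀.hom hg₀ ≫ C.φ)
    infer_instance
  let W : RC R K A := { B := B, p := p }
  refine ⟨W, e, hx', ?_⟩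
  intro T t h h'
  refine (pt_ofRing' p (t ≫ e.hom) h').trans ?_
  let l : T ⟶ T₀ := liftOver (t ≫ e.hom) h'
  have hl : l.left ≫ g₀ = t := by
    change (isPullback_gen B).lift _ _ _ ≫ Spec.map _ ≫ e.inv = t
    rw [← Category.assoc, IsPullback.lift_fst, Category.assoc, Iso.hom_inv_id, Category.comp_id]
  have h'' : (l.left ≫ g₀) ≫ C.x = T.hom ≫ gen R K := by rw [hl, h]
  refine (pt_comp C l g₀ hg₀ h'').symm.trans (pt_congr C hl _ _)

end Affine

section Final

variable {R K : Type u} [CommRing R] [IsDomain R] [IsDiscreteValuationRing R] [Field K] [Algebra R K]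
  [IsFractionRing R K]

/-- The weak Néron property of charts through which all sections factor. -/
theorem wnp_of_sections [HenselianLocalRing R] [IsSepClosed (IsLocalRing.ResidueField R)]
    {A : Over (Spec (CommRingCat.of K))} [IsSeparated A.hom]
    {I : Type v} [Finite I] (Y : I → Chart R K A) (hsm : ∀ i, Smooth (Y i).x)
    (haff : ∀ i, IsAffine (Y i).X) (hop : ∀ i, IsOpenImmersion (Y i).φ)
    (H : ∀ c : 𝟙_ (Over (Spec (CommRingCat.of K))) ⟶ A, ∃ (i : I)
      (t : Spec (CommRingCat.of R) ⟶ (Y i).X) (_ : t ≫ (Y i).x = 𝟙 _)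
      (h : (gen R K ≫ t) ≫ (Y i).x =
        (𝟙_ (Over (Spec (CommRingCat.of K)))).hom ≫ gen R K), (Y i).pt (gen R K ≫ t) h = c) :
    WNP Y := by
  intro Z hZ ζ hζ hζ'
  have hqc : ∀ i, QuasiCompact (Y i).x := fun i => by
    have := haff i
    infer_instance
  obtain ⟨i, U, hU, g, gK, hg, hgK, hgφ, hpt⟩ := Sga7.H479.WeakNeron.exists_extension K A.hom
    (X := fun i => (Y i).X) (XK := fun i => (Y i).XK)
    (fun i => (Y i).x) (fun i => (Y i).jX) (fun i => (Y i).xK) (fun i => (Y i).isPullback)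
    (fun i => (Y i).φ) (fun i => (Y i).hφ) (fun s hs => by
      let c : 𝟙_ (Over (Spec (CommRingCat.of K))) ⟶ A := Over.homMk s hs
      obtain ⟨i, t, ht, h, hc⟩ := H c
      refine ⟨i, t, ht, (Y i).isPullback.lift (gen R K ≫ t) (𝟙_ (Over (Spec (CommRingCat.of K)))).hom h,
        (Y i).isPullback.lift_fst _ _ _, ?_⟩
      exact congrArg (fun f => f.left) hc) Z.x Z.jX Z.xK Z.isPullback Z.φ Z.hφ ζ hζ hζ'
  refine ⟨i, U, hU, g, hg, fun T t h₁ h₂ => ?_⟩
  ext1
  exact hpt T.left t (Z.isPullback.lift (t ≫ U.ι) T.hom h₂) ((Y i).isPullback.lift (t ≫ g) T.hom h₁)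
    (Z.isPullback.lift_fst _ _ _) ((Y i).isPullback.lift_fst _ _ _)

/-- Existence of a minimal chart. -/
theorem exists_isMinimal [HenselianLocalRing R] [IsSepClosed (IsLocalRing.ResidueField R)]
    {A : Over (Spec (CommRingCat.of K))} [GrpObj A] [IsCommMonObj A] [IsSeparated A.hom]
    [LocallyOfFiniteType A.hom]
    {I : Type v} [Finite I] (Y : I → Chart R K A) (hsm : ∀ i, Smooth (Y i).x)
    (haff : ∀ i, IsAffine (Y i).X) (hop : ∀ i, IsOpenImmersion (Y i).φ)
    (H : ∀ c : 𝟙_ (Over (Spec (CommRingCat.of K))) ⟶ A, ∃ (i : I)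
      (t : Spec (CommRingCat.of R) ⟶ (Y i).X) (_ : t ≫ (Y i).x = 𝟙 _)
      (h : (gen R K ≫ t) ≫ (Y i).x =
        (𝟙_ (Over (Spec (CommRingCat.of K)))).hom ≫ gen R K), (Y i).pt (gen R K ≫ t) h = c) :
    ∃ (C : Chart R K A) (ξ : C.X), IsMinimal Y C ξ := by
  obtain ⟨ϖ, hϖ⟩ := IsDiscreteValuationRing.exists_irreducible R
  have hR : EtCoh.IsStrictlyHenselianLocalRing R := ⟨inferInstance, inferInstance⟩
  obtain ⟨T⟩ := TanChart.nonempty (A := A)
  have hY := wnp_of_sections Y hsm haff hop H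
  choose W e hex hept using fun i => exists_RC (Y i) (hsm i) (haff i) (hop i)
  -- the weak Néron property of the ring charts
  have hW : WNP (fun i => ofRing (W i).p) := by
    intro Z hZ ζ hζ hζ'
    obtain ⟨i, U, hU, g, hg, hpt⟩ := hY Z hZ ζ hζ hζ'
    refine ⟨i, U, hU, g ≫ (e i).hom, ?_, fun T t h₁ h₂ => ?_⟩
    · rw [Category.assoc, hex i, hg]
    · have h3 : (t ≫ g) ≫ (Y i).x = T.hom ≫ gen R K := by
        rw [Category.assoc, hg, ← Category.assoc, h₂]
      have h4 : ((t ≫ g) ≫ (e i).hom) ≫ (ofRing (W i).p).x = T.hom ≫ gen R K := by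
        rw [Category.assoc (t ≫ g), hex i, h3]
      have e1 : t ≫ g ≫ (e i).hom = (t ≫ g) ≫ (e i).hom := (Category.assoc _ _ _).symm
      exact (pt_congr (ofRing (W i).p) e1 h₁ h4).trans ((hept i T (t ≫ g) h3 h4).trans (hpt T t h3 h₂))
  -- a chart with non-empty special fibre
  obtain ⟨i₁, t₁, ht₁, -⟩ := H 1
  let y₁ : PrimeSpectrum (W i₁).B := (t₁ ≫ (e i₁).hom) (IsLocalRing.closedPoint R)
  have hy₁ : algebraMap R (W i₁).B ϖ ∈ y₁.asIdeal := by
    refine (map_eq_closedPoint_iff hϖ (B := (W i₁).B) y₁).mp ?_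
    change (ofRing (W i₁).p).x ((t₁ ≫ (e i₁).hom) (IsLocalRing.closedPoint R)) = _
    rw [Scheme.Hom.comp_apply]
    refine apply_of_section _ _ _ ?_ _
    rw [hex i₁, ht₁]
  have hy₁p : y₁.asIdeal.IsPrime := y₁.isPrime
  obtain ⟨n₀, i₀, ξ₀, hξ₀p, hξ₀, hn₀, hlow⟩ := exists_minimal T hϖ W i₁ y₁.asIdeal hy₁
  obtain ⟨s, hs, hmc⟩ := exists_isMC T hϖ (W i₀).p ξ₀ hξ₀ hn₀
  let C₁ : Chart R K A := ofRing (res (S' := G R K (Localization.Away s)) (W i₀).p)
  have hsmB := hmc.smooth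
  have hopB := hmc.openImmersion
  have hC₁ : MinP T ϖ n₀ C₁ := ⟨_, inferInstance, inferInstance, _, hmc, rfl⟩
  obtain ⟨d, e', ⟨L⟩, ⟨r⟩⟩ := exists_law_inv hR (MinP T ϖ n₀)
    (fun C ⟨B, _, _, p, hp, hC⟩ => by
      subst hC
      have := hp.smooth
      exact smooth_ofRing p)
    (fun C ⟨B, _, _, p, hp, hC⟩ => by
      subst hC
      exact hp.irr T hϖ)
    (fun C C' hC hC' => exists_law T hϖ hW hlow C C' hC hC')
    (fun C hC => exists_inv T hϖ hW hlow C hC) C₁ hC₁
  obtain ⟨ξ, hξ⟩ := hmc.irr T hϖ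
  refine ⟨twist C₁ d, ξ, isMinimal_twist Y C₁ (smooth_ofRing _) ?_ hopB ξ hξ ?_ d e' L r⟩
  · change IsAffine (Spec (CommRingCat.of (Localization.Away s)))
    infer_instance
  · intro c
    obtain ⟨i, r, z, y, hzy, hy, -⟩ := exists_rel_away T hϖ hW hlow hmc c
    refine ⟨i, ⟨?_⟩⟩
    let r' : Rel (ofRing (W i).p) (Y i) (fun T x => x) :=
      { Z := (Y i).X
        j₁ := (e i).hom
        j₂ := 𝟙 _
        open₁ := inferInstance
        open₂ := inferInstance
        w := by rw [hex i, Category.id_comp]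
        ex := ⟨(e i).inv (y : Spec (CommRingCat.of (W i).B)), by
          rw [← Scheme.Hom.comp_apply, ← Scheme.Hom.comp_apply, Iso.inv_hom_id_assoc]
          exact (map_eq_closedPoint_iff hϖ (B := (W i).B) y).mpr hy⟩
        pt := fun T t h₁ h₂ => by
          have h3 : t ≫ (Y i).x = T.hom ≫ gen R K := by rw [← h₂, Category.comp_id]
          exact (pt_congr (Y i) (Category.comp_id t) h₂ h3).trans (hept i T t h3 h₁).symm }
    exact r.comp r' ⟨z, (e i).inv (y : Spec (CommRingCat.of (W i).B)), by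
      rw [hzy]
      change y = ((e i).inv ≫ (e i).hom) y
      rw [Iso.inv_hom_id]
      rfl, by
      rw [hzy]
      exact (map_eq_closedPoint_iff hϖ (B := (W i).B) y).mpr hy⟩

/-- **N3**. -/
theorem n3 [HenselianLocalRing R] [IsSepClosed (IsLocalRing.ResidueField R)] : N3 R K := by
  intro A _ _ _ I _ Y hsm haff hop H
  have := isCommMonObj_of_isProper_of_geometricallyIntegral A
  exact exists_isMinimal Y hsm haff hop H

end Final

end Groth.Agent.Sga7.H244
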