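import Groth.Prelude.Def_SGA7IX
import Mathlib.AlgebraicGeometry.Geometrically.Irreducible
import Mathlib.AlgebraicGeometry.Geometrically.Integral
import Mathlib.RingTheory.DiscreteValuationRing.Basic
import Mathlib.RingTheory.Henselian
import Mathlib.FieldTheory.IsSepClosed

/-!
# Charts of the weak Neron model and the statement of the output of N3 (minimal charts)

`R` a ring (a strictly henselian DVR in the applications), `K` any fraction field, `A` a group object
of `Over (Spec K)`.

* `Chart R K A` : an `R`-scheme `X` with a pullback square `XK` along `Spec K ⟶ Spec R` and a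
  `K`-morphism `φ : XK ⟶ A`.
* `Chart.pt` : for a `K`-scheme `T` and `g : T ⟶ X` over `R` the induced `K`-morphism `T ⟶ A`.
* `IsMinimal Y C ξ` : the properties (a)(b)(c) of a minimal chart `C` with generic point `ξ` of its
  special fibre, with respect to the finite family `Y` of charts.
-/

set_option autoImplicit false

universe u v

open CategoryTheory CategoryTheory.Limits MonoidalCategory CartesianMonoidalCategory AlgebraicGeometry MonObj

namespace Groth.Agent.Sga7.H244.Charts

section Defs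

variable (R K : Type u) [CommRing R] [Field K] [Algebra R K]

/-- The morphism `Spec K ⟶ Spec R`. -/
noncomputable abbrev gen : Spec (CommRingCat.of K) ⟶ Spec (CommRingCat.of R) :=
  Spec.map (CommRingCat.ofHom (algebraMap R K))

/-- A chart: an `R`-scheme `X`, its generic fibre `XK` (an arbitrary pullback square), and a
`K`-morphism `φ : XK ⟶ A`. -/
structure Chart (A : Over (Spec (CommRingCat.of K))) where
  X : Scheme.{u}
  x : X ⟶ Spec (CommRingCat.of R)
  XK : Scheme.{u}
  jX : XK ⟶ X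
  xK : XK ⟶ Spec (CommRingCat.of K)
  isPullback : IsPullback jX xK x (gen R K)
  φ : XK ⟶ A.left
  hφ : φ ≫ A.hom = xK

variable {R K} {A : Over (Spec (CommRingCat.of K))}

/-- The `A`-valued point of the `K`-scheme `T` attached to an `R`-morphism `T ⟶ C.X`. -/
noncomputable def Chart.pt (C : Chart R K A) {T : Over (Spec (CommRingCat.of K))}
    (g : T.left ⟶ C.X) (h : g ≫ C.x = T.hom ≫ gen R K) : T ⟶ A :=
  Over.homMk (C.isPullback.lift g T.hom h ≫ C.φ)
    (by rw [Category.assoc, C.hφ, IsPullback.lift_snd])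

end Defs

section Output

variable {R K : Type u} [CommRing R] [IsLocalRing R] [Field K] [Algebra R K]
  {A : Over (Spec (CommRingCat.of K))} [GrpObj A] {I : Type v}

/-- The output of N3: `C` is a smooth affine chart with (geometrically) irreducible non-empty special
fibre with generic point `ξ` such that
* `trans`: (a) for every `c ∈ A(K)` some open neighbourhood of `ξ` is mapped by an open immersion `g`
  into some chart `Y i` with `φ_i g = φ_C · c`;
* `law`: (b) the group law of `A` extends to `μ : U ⟶ C.X`, `U ⊆ C.X ×_R C.X` open meeting the special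
  fibre, such that `(pr₁, μ)` and `(μ, pr₂)` are open immersions;
* `inv`: (c) the inverse extends, up to a translation, to an open immersion of a neighbourhood of
  `ξ` into `C.X`. -/
structure IsMinimal (Y : I → Chart R K A) (C : Chart R K A) (ξ : C.X) : Prop where
  smooth : Smooth C.x
  affine : IsAffine C.X
  openImmersion : IsOpenImmersion C.φ
  over : C.x.base ξ = IsLocalRing.closedPoint R
  generic : ∀ y : C.X, C.x.base y = IsLocalRing.closedPoint R → ξ ⤳ y
  geomIrred : GeometricallyIrreducible (pullback.snd C.x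
    (Spec.map (CommRingCat.ofHom (algebraMap R (IsLocalRing.ResidueField R)))))
  trans : ∀ c : 𝟙_ (Over (Spec (CommRingCat.of K))) ⟶ A,
    ∃ (i : I) (V : C.X.Opens) (_ : ξ ∈ V) (g : V.toScheme ⟶ (Y i).X),
      IsOpenImmersion g ∧ g ≫ (Y i).x = V.ι ≫ C.x ∧
      ∀ (T : Over (Spec (CommRingCat.of K))) (t : T.left ⟶ V.toScheme)
        (h₁ : (t ≫ g) ≫ (Y i).x = T.hom ≫ gen R K)
        (h₂ : (t ≫ V.ι) ≫ C.x = T.hom ≫ gen R K),
        (Y i).pt (t ≫ g) h₁ = C.pt (t ≫ V.ι) h₂ * (toUnit T ≫ c)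
  law : ∃ (U : (pullback C.x C.x).Opens) (m : U.toScheme ⟶ C.X)
      (h : m ≫ C.x = (U.ι ≫ pullback.fst C.x C.x) ≫ C.x)
      (h' : m ≫ C.x = (U.ι ≫ pullback.snd C.x C.x) ≫ C.x),
      (∃ p ∈ U, (pullback.fst C.x C.x ≫ C.x).base p = IsLocalRing.closedPoint R) ∧
      IsOpenImmersion (pullback.lift (U.ι ≫ pullback.fst C.x C.x) m h.symm) ∧
      IsOpenImmersion (pullback.lift m (U.ι ≫ pullback.snd C.x C.x) h') ∧
      ∀ (T : Over (Spec (CommRingCat.of K))) (t : T.left ⟶ U.toScheme)
        (h₀ : (t ≫ m) ≫ C.x = T.hom ≫ gen R K)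
        (h₁ : (t ≫ U.ι ≫ pullback.fst C.x C.x) ≫ C.x = T.hom ≫ gen R K)
        (h₂ : (t ≫ U.ι ≫ pullback.snd C.x C.x) ≫ C.x = T.hom ≫ gen R K),
        C.pt (t ≫ m) h₀ = C.pt (t ≫ U.ι ≫ pullback.fst C.x C.x) h₁ *
          C.pt (t ≫ U.ι ≫ pullback.snd C.x C.x) h₂
  inv : ∃ (c : 𝟙_ (Over (Spec (CommRingCat.of K))) ⟶ A) (V : C.X.Opens) (_ : ξ ∈ V)
      (g : V.toScheme ⟶ C.X),
      IsOpenImmersion g ∧ g ≫ C.x = V.ι ≫ C.x ∧
      ∀ (T : Over (Spec (CommRingCat.of K))) (t : T.left ⟶ V.toScheme)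
        (h₁ : (t ≫ g) ≫ C.x = T.hom ≫ gen R K)
        (h₂ : (t ≫ V.ι) ≫ C.x = T.hom ≫ gen R K),
        C.pt (t ≫ g) h₁ = (C.pt (t ≫ V.ι) h₂)⁻¹ * (toUnit T ≫ c)

end Output

/-- The statement of N3: from a finite family of smooth affine charts with `A(K) = ⋃ X_i(R)` there is a
minimal chart. (The conclusion only uses `IsMinimal`.) -/
def N3 (R K : Type u) [CommRing R] [IsDomain R] [IsDiscreteValuationRing R] [HenselianLocalRing R]
    [IsSepClosed (IsLocalRing.ResidueField R)] [Field K] [Algebra R K] [IsFractionRing R K] :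
    Prop :=
  ∀ (A : Over (Spec (CommRingCat.of K))) [GrpObj A] [IsProper A.hom] [GeometricallyIntegral A.hom]
    (I : Type) [Finite I] (Y : I → Chart R K A),
    (∀ i, Smooth (Y i).x) → (∀ i, IsAffine (Y i).X) → (∀ i, IsOpenImmersion (Y i).φ) →
    (∀ c : 𝟙_ (Over (Spec (CommRingCat.of K))) ⟶ A, ∃ (i : I)
      (t : Spec (CommRingCat.of R) ⟶ (Y i).X) (_ : t ≫ (Y i).x = 𝟙 _)
      (h : (gen R K ≫ t) ≫ (Y i).x =
        (𝟙_ (Over (Spec (CommRingCat.of K)))).hom ≫ gen R K), (Y i).pt (gen R K ≫ t) h = c) →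
    ∃ (C : Chart R K A) (ξ : C.X), IsMinimal Y C ξ

end Groth.Agent.Sga7.H244.Charts
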