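import Groth.Agent.Sga7.H244.SqZero
import Mathlib.RingTheory.Noetherian.Basic
import Mathlib.RingTheory.Ideal.Cotangent
import Mathlib.LinearAlgebra.Basis.VectorSpace
import Mathlib.LinearAlgebra.FiniteDimensional.Defs

/-!
# Coordinates at an augmentation `ε : B ⟶ K`
-/

set_option autoImplicit false

namespace Groth.Agent.Sga7.H244

/-- Elements `b i ∈ ker ε` whose classes form a basis of `m/m²`, with the dual functionals. -/
structure Coord (K B : Type*) [Field K] [CommRing B] [Algebra K B] (ε : B →ₐ[K] K) where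
  d : ℕ
  b : Fin d → B
  c : Fin d → B →ₗ[K] K
  ε_b : ∀ j, ε (b j) = 0
  c_b : ∀ i j, c i (b j) = if i = j then 1 else 0
  c_mul : ∀ i x y, c i (x * y) = ε x * c i y + ε y * c i x
  span : ∀ x : B, ε x = 0 → x - ∑ i, c i x • b i ∈ (RingHom.ker ε) ^ 2

namespace Coord

variable {K B : Type*} [Field K] [CommRing B] [Algebra K B] {ε : B →ₐ[K] K}

theorem c_one (C : Coord K B ε) (i : Fin C.d) : C.c i 1 = 0 := by
  have := C.c_mul i 1 1
  simpa using this

theorem c_algebraMap (C : Coord K B ε) (i : Fin C.d) (k : K) : C.c i (algebraMap K B k) = 0 := by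
  rw [Algebra.algebraMap_eq_smul_one, map_smul, C.c_one, smul_zero]

variable {S N : Type*} [CommRing S] [AddCommGroup N] [Module S N] [Algebra K S]

theorem snd_eq_zero_of_mem_sq (φ : B →ₐ[K] SZ S N)
    (h : ∀ x, (φ x).fst = algebraMap K S (ε x)) (x : B) (hx : x ∈ (RingHom.ker ε) ^ 2) :
    (φ x).snd = 0 := by
  rw [pow_two] at hx
  induction hx using Submodule.mul_induction_on' with
  | mem_mul_mem m hm n hn =>
    have hm' : ε m = 0 := hm
    have hn' : ε n = 0 := hn
    rw [map_mul, SZ.snd_mul, h, h, hm', hn', map_zero, zero_smul, zero_smul, add_zero]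
  | add x _ y _ h1 h2 => rw [map_add, SZ.snd_add, h1, h2, add_zero]

/-- A map `B ⟶ S ⊕ N` over the augmentation is determined by the images of the coordinates. -/
theorem hom_ext (C : Coord K B ε) (φ ψ : B →ₐ[K] SZ S N)
    (h : ∀ x, (φ x).fst = algebraMap K S (ε x)) (h' : ∀ x, (ψ x).fst = algebraMap K S (ε x))
    (hb : ∀ i, (φ (C.b i)).snd = (ψ (C.b i)).snd) : φ = ψ := by
  have key : ∀ (χ : B →ₐ[K] SZ S N) (_ : ∀ x, (χ x).fst = algebraMap K S (ε x)) (x : B),
      (χ x).snd = ∑ i, algebraMap K S (C.c i (x - algebraMap K B (ε x))) • (χ (C.b i)).snd := by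
    intro χ hχ x
    have h0 : ε (x - algebraMap K B (ε x)) = 0 := by
      rw [map_sub, AlgHom.commutes, Algebra.algebraMap_self, RingHom.id_apply, sub_self]
    have h1 := snd_eq_zero_of_mem_sq χ hχ _ (C.span _ h0)
    have h2 : x = (x - algebraMap K B (ε x) -
        ∑ i, C.c i (x - algebraMap K B (ε x)) • C.b i) +
        ∑ i, C.c i (x - algebraMap K B (ε x)) • C.b i + algebraMap K B (ε x) := by ring
    have sndsum : ∀ (f : Fin C.d → SZ S N), (∑ i, f i).snd = ∑ i, (f i).snd := by
      intro f
      exact map_sum (⟨⟨fun z => z.snd, rfl⟩, fun _ _ => rfl⟩ : SZ S N →+ N) f _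
    conv_lhs => rw [h2, map_add, map_add, AlgHom.commutes, SZ.snd_add, SZ.snd_add, h1,
      SZ.snd_algebraMap, zero_add, add_zero, map_sum, sndsum]
    refine Finset.sum_congr rfl fun i _ => ?_
    rw [Algebra.smul_def, map_mul, AlgHom.commutes, SZ.snd_mul, SZ.fst_algebraMap,
      SZ.snd_algebraMap, smul_zero, add_zero]
  refine AlgHom.ext fun x => SZ.ext ?_ ?_
  · rw [h, h']
  · rw [key φ h, key ψ h']
    exact Finset.sum_congr rfl fun i _ => by rw [hb]

/-- The map `B ⟶ S ⊕ N` over the augmentation with prescribed images of the coordinates. -/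
noncomputable def hom (C : Coord K B ε) (n : Fin C.d → N) : B →ₐ[K] SZ S N where
  toFun x := ⟨algebraMap K S (ε x), ∑ i, algebraMap K S (C.c i x) • n i⟩
  map_one' := by
    ext
    · simp
    · simp [C.c_one]
  map_mul' x y := by
    ext
    · simp
    · simp only [SZ.snd_mul, C.c_mul, map_add, map_mul, add_smul, Finset.sum_add_distrib,
        mul_smul, ← Finset.smul_sum]
  map_zero' := by
    ext
    · simp
    · simp
  map_add' x y := by
    ext
    · simp
    · simp [add_smul, Finset.sum_add_distrib]
  commutes' x := by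
    ext
    · simp
    · simp [C.c_algebraMap]

theorem hom_fst (C : Coord K B ε) (n : Fin C.d → N) (x : B) :
    (C.hom (S := S) n x).fst = algebraMap K S (ε x) := rfl

theorem hom_snd_b (C : Coord K B ε) (n : Fin C.d → N) (j : Fin C.d) :
    (C.hom (S := S) n (C.b j)).snd = n j := by
  change ∑ i, algebraMap K S (C.c i (C.b j)) • n i = n j
  rw [Finset.sum_eq_single j]
  · rw [C.c_b, if_pos rfl, map_one, one_smul]
  · intro i _ hi
    rw [C.c_b, if_neg hi, map_zero, zero_smul]
  · intro h
    exact absurd (Finset.mem_univ j) h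

/-- Coordinates exist if `B` is noetherian. -/
theorem nonempty (K B : Type*) [Field K] [CommRing B] [Algebra K B] (ε : B →ₐ[K] K)
    [IsNoetherianRing B] : Nonempty (Coord K B ε) := by
  classical
  let m : Ideal B := RingHom.ker ε
  let W : Submodule K B := (m ^ 2).restrictScalars K ⊔ Submodule.span K {1}
  have hW : ∀ x, x ∈ W ↔ ∃ (k : K), x - algebraMap K B k ∈ m ^ 2 := by
    intro x
    constructor
    · intro hx
      obtain ⟨y, hy, z, hz, rfl⟩ := Submodule.mem_sup.mp hx
      obtain ⟨k, rfl⟩ := Submodule.mem_span_singleton.mp hz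
      refine ⟨k, ?_⟩
      rw [Algebra.algebraMap_eq_smul_one, add_sub_cancel_right]
      exact hy
    · rintro ⟨k, hk⟩
      rw [← sub_add_cancel x (algebraMap K B k)]
      refine Submodule.add_mem_sup hk (Submodule.mem_span_singleton.mpr ⟨k, ?_⟩)
      rw [Algebra.algebraMap_eq_smul_one]
  let V := B ⧸ W
  let π : B →ₗ[K] V := W.mkQ
  have hm2 : ∀ x ∈ m ^ 2, ε x = 0 := fun x hx => Ideal.pow_le_self two_ne_zero hx
  -- a finite generating set of `m`
  obtain ⟨G, hG⟩ : m.FG := (isNoetherianRing_iff_ideal_fg B).mp inferInstance m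
  have hspan : Submodule.span K (π '' (G : Set B)) = ⊤ := by
    rw [eq_top_iff]
    rintro v -
    obtain ⟨x, rfl⟩ := Submodule.mkQ_surjective W v
    have h1 : π x = π (x - algebraMap K B (ε x)) := by
      rw [← sub_eq_zero, ← map_sub]
      refine (Submodule.Quotient.mk_eq_zero _).mpr ((hW _).mpr ⟨ε x, ?_⟩)
      simp
    have h2 : x - algebraMap K B (ε x) ∈ m := by
      change ε _ = 0
      rw [map_sub, AlgHom.commutes, Algebra.algebraMap_self, RingHom.id_apply, sub_self]
    change π x ∈ _
    rw [h1]
    rw [← hG] at h2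
    generalize x - algebraMap K B (ε x) = y at h2
    induction h2 using Submodule.span_induction with
    | mem y hy => exact Submodule.subset_span ⟨y, hy, rfl⟩
    | zero => rw [map_zero]; exact Submodule.zero_mem _
    | add y z _ _ h1 h2 => rw [map_add]; exact Submodule.add_mem _ h1 h2
    | smul a y hy h =>
      have hym : y ∈ m := by rw [← hG]; exact hy
      have : π (a • y) = ε a • π y := by
        rw [← sub_eq_zero, ← map_smul, ← map_sub]
        refine (Submodule.Quotient.mk_eq_zero _).mpr ((hW _).mpr ⟨0, ?_⟩)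
        have e1 : a • y - ε a • y - algebraMap K B 0 = (a - algebraMap K B (ε a)) * y := by
          rw [smul_eq_mul, Algebra.smul_def (ε a) y, map_zero, sub_zero, sub_mul]
        rw [e1, pow_two]
        refine Ideal.mul_mem_mul ?_ hym
        change ε _ = 0
        rw [map_sub, AlgHom.commutes, Algebra.algebraMap_self, RingHom.id_apply, sub_self]
      rw [this]
      exact Submodule.smul_mem _ _ h
  let bs := Module.Basis.ofSpan (K := K) (s := π '' (G : Set B)) (by rw [hspan])
  have hbs := Module.Basis.ofSpan_subset (K := K) (s := π '' (G : Set B)) (by rw [hspan])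
  have hfin : Finite (π '' (G : Set B)) := (G.finite_toSet.image π).to_subtype
  let idx := ((linearIndepOn_empty K id).extend (Set.empty_subset (π '' (G : Set B))))
  have hsub : idx ⊆ π '' (G : Set B) := (linearIndepOn_empty K id).extend_subset _
  have hfin' : Finite idx := ((G.finite_toSet.image π).subset hsub).to_subtype
  obtain ⟨d, ⟨e⟩⟩ := Finite.exists_equiv_fin idx
  let bas : Module.Basis (Fin d) K V := bs.reindex e
  have hbas : ∀ j, ∃ x ∈ G, π x = bas j := by
    intro j
    have : bas j ∈ π '' (G : Set B) := by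
      rw [Module.Basis.reindex_apply]
      exact hbs ⟨_, rfl⟩
    exact this
  choose b hbG hb using hbas
  have hbm : ∀ j, ε (b j) = 0 := fun j => by
    have : b j ∈ m := by rw [← hG]; exact Ideal.subset_span (hbG j)
    exact this
  have hker : ∀ x, π x = 0 → ε x = 0 → x ∈ m ^ 2 := by
    intro x hx hx'
    obtain ⟨k, hk⟩ := (hW x).mp ((Submodule.Quotient.mk_eq_zero _).mp hx)
    have := hm2 _ hk
    rw [map_sub, AlgHom.commutes, Algebra.algebraMap_self, RingHom.id_apply, hx', zero_sub,
      neg_eq_zero] at this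
    rwa [this, map_zero, sub_zero] at hk
  refine ⟨⟨d, b, fun i => (bas.coord i) ∘ₗ π, hbm, ?_, ?_, ?_⟩⟩
  · intro i j
    change bas.coord i (π (b j)) = _
    rw [hb, Module.Basis.coord_apply, Module.Basis.repr_self, Finsupp.single_apply]
    simp only [eq_comm]
  · intro i x y
    change bas.coord i (π (x * y)) = _ * bas.coord i (π y) + _ * bas.coord i (π x)
    have : π (x * y) = ε x • π y + ε y • π x := by
      rw [← sub_eq_zero, ← map_smul, ← map_smul, ← map_add, ← map_sub]
      refine (Submodule.Quotient.mk_eq_zero _).mpr ((hW _).mpr ⟨-(ε x * ε y), ?_⟩)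
      have e1 : x * y - (ε x • y + ε y • x) - algebraMap K B (-(ε x * ε y)) =
          (x - algebraMap K B (ε x)) * (y - algebraMap K B (ε y)) := by
        rw [Algebra.smul_def, Algebra.smul_def, map_neg, map_mul]; ring
      rw [e1, pow_two]
      refine Ideal.mul_mem_mul ?_ ?_ <;>
      · change ε _ = 0
        rw [map_sub, AlgHom.commutes, Algebra.algebraMap_self, RingHom.id_apply, sub_self]
    rw [this, map_add, map_smul, map_smul, smul_eq_mul, smul_eq_mul]
  · intro x hx
    refine hker _ ?_ ?_
    · rw [map_sub, map_sum, sub_eq_zero]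
      conv_lhs => rw [← bas.sum_repr (π x)]
      refine Finset.sum_congr rfl fun i _ => ?_
      rw [map_smul, hb]
      rfl
    · rw [map_sub, hx, map_sum, zero_sub, neg_eq_zero]
      refine Finset.sum_eq_zero fun i _ => ?_
      rw [map_smul, hbm, smul_zero]

end Coord

end Groth.Agent.Sga7.H244
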