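import Groth.Agent.Sga7.H244.Dlog
import Mathlib.LinearAlgebra.Pi

/-!
# Logarithmic derivatives with values in Kähler differentials
-/

set_option autoImplicit false

universe u

open CategoryTheory CategoryTheory.Limits MonoidalCategory CartesianMonoidalCategory AlgebraicGeometry
  MonObj KaehlerDifferential

namespace Groth.Agent.Sga7.H244

/-- Restriction of a point. -/
noncomputable abbrev res {K S S' : Type u} [CommRing K] [CommRing S] [CommRing S'] [Algebra K S]
    [Algebra K S'] [Algebra S S'] [IsScalarTower K S S'] {A : Over (Spec (CommRingCat.of K))}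
    (p : SpecOver K S ⟶ A) : SpecOver K S' ⟶ A :=
  specMap (IsScalarTower.toAlgHom K S S') ≫ p

namespace TanChart

variable {K : Type u} [Field K] {A : Over (Spec (CommRingCat.of K))} [GrpObj A] (T : TanChart A)

/-- The logarithmic derivative `A(S) ⟶ Ω[S⁄K'] ^ d` relative to `K'`. -/
noncomputable def dlog (K' : Type u) {S : Type u} [CommRing K'] [Algebra K K'] [CommRing S]
    [Algebra K S] [Algebra K' S] [IsScalarTower K K' S] (p : SpecOver K S ⟶ A) :
    Fin T.C.d → Ω[S⁄K'] :=
  T.dlogD ((KaehlerDifferential.D K' S).restrictScalars K) p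

variable {K' S : Type u} [CommRing K'] [Algebra K K'] [CommRing S] [Algebra K S] [Algebra K' S]
  [IsScalarTower K K' S]
variable {K'' S' : Type u} [CommRing K''] [Algebra K K''] [CommRing S'] [Algebra K S']
  [Algebra K'' S'] [IsScalarTower K K'' S'] [Algebra K' K''] [Algebra S S'] [Algebra K' S']
  [IsScalarTower K' K'' S'] [IsScalarTower K' S S'] [IsScalarTower K S S']

theorem dlog_res (p : SpecOver K S ⟶ A) (i : Fin T.C.d) :
    T.dlog K'' (res (S' := S') p) i = KaehlerDifferential.map K' K'' S S' (T.dlog K' p i) := by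
  refine T.dlogD_map (IsScalarTower.toAlgHom K S S')
    (KaehlerDifferential.map K' K'' S S').toAddMonoidHom ?_ _ _ ?_ p i
  · intro s n
    change KaehlerDifferential.map K' K'' S S' (s • n) = _
    rw [map_smul]
    change s • _ = (algebraMap S S' s) • _
    rw [algebraMap_smul]
    rfl
  · intro s
    change KaehlerDifferential.D K'' S' (algebraMap S S' s) =
      KaehlerDifferential.map K' K'' S S' (KaehlerDifferential.D K' S s)
    rw [KaehlerDifferential.map_D]

theorem dlog_mul [IsCommMonObj A] (p q : SpecOver K S ⟶ A) :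
    T.dlog K' (p * q) = T.dlog K' p + T.dlog K' q :=
  T.dlogD_mul _ p q

theorem dlog_one : T.dlog K' (1 : SpecOver K S ⟶ A) = 0 := T.dlogD_one _

theorem dlog_inv [IsCommMonObj A] (p : SpecOver K S ⟶ A) :
    T.dlog K' p⁻¹ = - T.dlog K' p :=
  T.dlogD_inv _ p

/-- Constant points have trivial logarithmic derivative. -/
theorem dlog_const (p : SpecOver K K' ⟶ A) :
    T.dlog K' (res (S' := S) p) = 0 := by
  funext i
  refine (T.dlogD_map (N := K') (IsScalarTower.toAlgHom K K' S) (0 : K' →+ Ω[S⁄K']) ?_
    (0 : Derivation K K' K') _ ?_ p i).trans ?_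
  · intro s n; simp
  · intro s
    change KaehlerDifferential.D K' S (algebraMap K' S s) = 0
    exact Derivation.map_algebraMap _ s
  · rfl

/-- The logarithmic derivatives of the tautological point of an affine open form a basis. -/
theorem exists_basis {B : Type u} [CommRing B] [Algebra K B] (j : SpecOver K B ⟶ A)
    [IsOpenImmersion j.left] :
    ∃ b : Module.Basis (Fin T.C.d) B Ω[B⁄K], ∀ i, b i = T.dlog K j i := by
  let ω : Fin T.C.d → Ω[B⁄K] := T.dlog K j
  obtain ⟨D, hD⟩ := T.exists_dlogD_eq (N := Fin T.C.d → B) j (fun i => Pi.single i 1)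
  let L : Ω[B⁄K] →ₗ[B] (Fin T.C.d → B) := D.liftKaehlerDifferential
  let Φ : (Fin T.C.d → B) →ₗ[B] Ω[B⁄K] := (Pi.basisFun B (Fin T.C.d)).constr B ω
  -- functoriality in the module
  have hfun : ∀ {N : Type u} [AddCommGroup N] [Module B N] [Module K N] [IsScalarTower K B N]
      (l : Ω[B⁄K] →ₗ[B] N) (D' : Derivation K B N)
      (hD' : ∀ s, D' s = l (KaehlerDifferential.D K B s)) (i : Fin T.C.d),
      T.dlogD D' j i = l (ω i) := by
    intro N _ _ _ _ l D' hD' i
    have := T.dlogD_map (AlgHom.id K B) l.toAddMonoidHom (fun s n => map_smul l s n)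
      ((KaehlerDifferential.D K B).restrictScalars K) D' hD' j i
    rw [specMap_id, Category.id_comp] at this
    exact this
  have h1 : ∀ i, L (ω i) = Pi.single i 1 := fun i => by
    rw [← hfun L D (fun s => (D.liftKaehlerDifferential_comp_D s).symm) i, hD]
  have hΦ : ∀ i, Φ (Pi.single i 1) = ω i := fun i => by
    have := (Pi.basisFun B (Fin T.C.d)).constr_basis B ω i
    rwa [Pi.basisFun_apply] at this
  have h2 : ∀ i, Φ (L (ω i)) = ω i := fun i => by rw [h1, hΦ]
  have h3 : Φ ∘ₗ L = LinearMap.id := by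
    apply Derivation.liftKaehlerDifferential_unique
    have : T.dlogD ((Φ ∘ₗ L).compDer (KaehlerDifferential.D K B)) j =
        T.dlogD ((LinearMap.id (R := B) (M := Ω[B⁄K])).compDer (KaehlerDifferential.D K B)) j := by
      funext i
      rw [hfun (Φ ∘ₗ L) _ (fun s => rfl) i, hfun LinearMap.id _ (fun s => rfl) i]
      exact h2 i
    exact T.dlogD_injective j this
  have h4 : L ∘ₗ Φ = LinearMap.id := by
    refine (Pi.basisFun B (Fin T.C.d)).ext fun i => ?_
    rw [Pi.basisFun_apply, LinearMap.comp_apply, hΦ, h1]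
    rfl
  let e : (Fin T.C.d → B) ≃ₗ[B] Ω[B⁄K] := LinearEquiv.ofLinearMap Φ L h3 h4
  refine ⟨(Pi.basisFun B (Fin T.C.d)).map e, fun i => ?_⟩
  rw [Module.Basis.map_apply, Pi.basisFun_apply]
  exact hΦ i

end TanChart

end Groth.Agent.Sga7.H244
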