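import Mathlib.RingTheory.Kaehler.TensorProduct
import Mathlib.RingTheory.Etale.Kaehler
import Mathlib.RingTheory.TensorProduct.IsBaseChangeFree
import Mathlib.LinearAlgebra.Determinant
import Mathlib.LinearAlgebra.Matrix.Basis
import Mathlib.RingTheory.Filtration
import Mathlib.RingTheory.Smooth.Flat

/-!
# The index of a frame of differentials

`HasIdx R K O S ϖ θ n`: `θ : Fin d → Ω[S⁄K]` is given by a matrix of determinant `ϖ^n * unit(O)` in the
image of a basis of `Ω[O⁄R]`.
-/

set_option autoImplicit false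

open KaehlerDifferential TensorProduct Module

namespace Groth.Agent.Sga7.H244.Index

section KB

variable (R R' O O' : Type*) [CommRing R] [CommRing R'] [CommRing O] [CommRing O']
  [Algebra R O] [Algebra R R'] [Algebra R' O'] [Algebra O O'] [Algebra R O']
  [IsScalarTower R R' O'] [IsScalarTower R O O']

/-- `O' ⊗ Ω[O⁄R] ⟶ Ω[O'⁄R']` is an isomorphism. -/
def KB : Prop := IsBaseChange O' (KaehlerDifferential.map R R' O O')

variable {R R' O O'} in
/-- The image basis. -/
noncomputable def KB.basis (h : KB R R' O O') {ι : Type*} (b : Basis ι O Ω[O⁄R]) :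
    Basis ι O' Ω[O'⁄R'] :=
  IsBaseChange.basis b h

variable {R R' O O'} in
theorem KB.basis_apply (h : KB R R' O O') {ι : Type*} (b : Basis ι O Ω[O⁄R]) (i : ι) :
    h.basis b i = KaehlerDifferential.map R R' O O' (b i) :=
  IsBaseChange.basis_apply b h i

end KB

section KBlemmas

theorem KB.of_formallyEtale (R O O' : Type*) [CommRing R] [CommRing O] [CommRing O']
    [Algebra R O] [Algebra O O'] [Algebra R O'] [IsScalarTower R O O'] [Algebra.FormallyEtale O O'] :
    KB R R O O' :=
  KaehlerDifferential.isBaseChange_of_formallyEtale R O O'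

theorem KB.of_isPushout (R R' O O' : Type*) [CommRing R] [CommRing R'] [CommRing O] [CommRing O']
    [Algebra R O] [Algebra R R'] [Algebra R' O'] [Algebra O O'] [Algebra R O']
    [IsScalarTower R R' O'] [IsScalarTower R O O'] [Algebra.IsPushout R R' O O'] :
    KB R R' O O' := by
  refine IsBaseChange.of_equiv (KaehlerDifferential.tensorKaehlerEquiv R R' O O') ?_
  have key : ((KaehlerDifferential.tensorKaehlerEquiv R R' O O').toLinearMap.restrictScalars O) ∘ₗ
      (TensorProduct.mk O O' Ω[O⁄R] 1) = KaehlerDifferential.map R R' O O' := by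
    apply Derivation.liftKaehlerDifferential_unique
    ext x
    simp
  intro x
  exact LinearMap.congr_fun key x

theorem map_map (R R' R'' O O' O'' : Type*) [CommRing R] [CommRing R'] [CommRing R''] [CommRing O]
    [CommRing O'] [CommRing O'']
    [Algebra R O] [Algebra R R'] [Algebra R' O'] [Algebra O O'] [Algebra R O']
    [IsScalarTower R R' O'] [IsScalarTower R O O']
    [Algebra R' R''] [Algebra R'' O''] [Algebra O' O''] [Algebra R' O'']
    [IsScalarTower R' R'' O''] [IsScalarTower R' O' O'']
    [Algebra R R''] [Algebra O O''] [Algebra R O''] [IsScalarTower R R'' O'']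
    [IsScalarTower R O O''] [IsScalarTower O O' O''] (x : Ω[O⁄R]) :
    KaehlerDifferential.map R' R'' O' O'' (KaehlerDifferential.map R R' O O' x) =
      KaehlerDifferential.map R R'' O O'' x := by
  have key : ((KaehlerDifferential.map R' R'' O' O'').restrictScalars O) ∘ₗ
      (KaehlerDifferential.map R R' O O') = KaehlerDifferential.map R R'' O O'' := by
    apply Derivation.liftKaehlerDifferential_unique
    ext x
    simp [← IsScalarTower.algebraMap_apply]
  exact LinearMap.congr_fun key x

theorem KB.trans {R R' R'' O O' O'' : Type*} [CommRing R] [CommRing R'] [CommRing R''] [CommRing O]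
    [CommRing O'] [CommRing O'']
    [Algebra R O] [Algebra R R'] [Algebra R' O'] [Algebra O O'] [Algebra R O']
    [IsScalarTower R R' O'] [IsScalarTower R O O']
    [Algebra R' R''] [Algebra R'' O''] [Algebra O' O''] [Algebra R' O'']
    [IsScalarTower R' R'' O''] [IsScalarTower R' O' O'']
    [Algebra R R''] [Algebra O O''] [Algebra R O''] [IsScalarTower R R'' O'']
    [IsScalarTower R O O''] [IsScalarTower O O' O'']
    (h : KB R R' O O') (h' : KB R' R'' O' O'') : KB R R'' O O'' := by
  have := IsBaseChange.comp h h'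
  have key : ((KaehlerDifferential.map R' R'' O' O'').restrictScalars O) ∘ₗ
      (KaehlerDifferential.map R R' O O') = KaehlerDifferential.map R R'' O O'' :=
    LinearMap.ext fun x => map_map R R' R'' O O' O'' x
  rw [key] at this
  exact this

theorem KB.of_trans {R R' R'' O O' O'' : Type*} [CommRing R] [CommRing R'] [CommRing R''] [CommRing O]
    [CommRing O'] [CommRing O'']
    [Algebra R O] [Algebra R R'] [Algebra R' O'] [Algebra O O'] [Algebra R O']
    [IsScalarTower R R' O'] [IsScalarTower R O O']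
    [Algebra R' R''] [Algebra R'' O''] [Algebra O' O''] [Algebra R' O'']
    [IsScalarTower R' R'' O''] [IsScalarTower R' O' O'']
    [Algebra R R''] [Algebra O O''] [Algebra R O''] [IsScalarTower R R'' O'']
    [IsScalarTower R O O''] [IsScalarTower O O' O'']
    (h : KB R R' O O') (h' : KB R R'' O O'') : KB R' R'' O' O'' := by
  have key : ((KaehlerDifferential.map R' R'' O' O'').restrictScalars O) ∘ₗ
      (KaehlerDifferential.map R R' O O') = KaehlerDifferential.map R R'' O O'' :=
    LinearMap.ext fun x => map_map R R' R'' O O' O'' x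
  refine IsBaseChange.of_comp h ?_
  rw [key]
  exact h'

theorem KB.bijective_mapBaseChange {R O O' : Type*} [CommRing R] [CommRing O] [CommRing O']
    [Algebra R O] [Algebra O O'] [Algebra R O'] [IsScalarTower R O O'] (h : KB R R O O') :
    Function.Bijective (KaehlerDifferential.mapBaseChange R O O') := by
  have : (KaehlerDifferential.mapBaseChange R O O') = (IsBaseChange.equiv h).toLinearMap := by
    ext x
    simp [IsBaseChange.equiv_tmul]
  rw [this]
  exact (IsBaseChange.equiv h).bijective

end KBlemmas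

section Idx

variable (R K O S : Type*) [CommRing R] [CommRing K] [CommRing O] [CommRing S]
  [Algebra R K] [Algebra R O] [Algebra R S] [Algebra K S] [Algebra O S]
  [IsScalarTower R K S] [IsScalarTower R O S]

/-- The frame `θ` of `Ω[S⁄K]` has index `n` with respect to `Ω[O⁄R]`. -/
def HasIdx (ϖ : R) {d : ℕ} (θ : Fin d → Ω[S⁄K]) (n : ℤ) : Prop :=
  ∃ (b : Basis (Fin d) O Ω[O⁄R]) (M : Matrix (Fin d) (Fin d) S) (u : Oˣ) (p q : ℕ),
    (∀ i, θ i = ∑ j, M i j • KaehlerDifferential.map R K O S (b j)) ∧
    (algebraMap R S ϖ) ^ p * M.det = (algebraMap R S ϖ) ^ q * algebraMap O S u ∧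
    n = (q : ℤ) - p

end Idx

section Transfer

variable {R K O S R' K' O' S' : Type*} [CommRing R] [CommRing K] [CommRing O] [CommRing S]
  [Algebra R K] [Algebra R O] [Algebra R S] [Algebra K S] [Algebra O S]
  [IsScalarTower R K S] [IsScalarTower R O S]
  [CommRing R'] [CommRing K'] [CommRing O'] [CommRing S']
  [Algebra R' K'] [Algebra R' O'] [Algebra R' S'] [Algebra K' S'] [Algebra O' S']
  [IsScalarTower R' K' S'] [IsScalarTower R' O' S']
  [Algebra R R'] [Algebra K K'] [Algebra O O'] [Algebra S S']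
  [Algebra R O'] [IsScalarTower R R' O'] [IsScalarTower R O O']
  [Algebra K S'] [IsScalarTower K K' S'] [IsScalarTower K S S']
  [Algebra O S'] [IsScalarTower O S S'] [IsScalarTower O O' S']
  [Algebra R S'] [IsScalarTower R S S'] [IsScalarTower R R' S']
  [Algebra R K'] [IsScalarTower R K' S'] [IsScalarTower R O S']

/-- Base change of the index along a square of rings which is an isomorphism on differentials. -/
theorem HasIdx.map {ϖ : R} {d : ℕ} {θ : Fin d → Ω[S⁄K]} {n : ℤ} (h : HasIdx R K O S ϖ θ n)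
    (hKB : KB R R' O O') (θ' : Fin d → Ω[S'⁄K'])
    (hθ : ∀ i, KaehlerDifferential.map K K' S S' (θ i) = θ' i) :
    HasIdx R' K' O' S' (algebraMap R R' ϖ) θ' n := by
  obtain ⟨b, M, u, p, q, h1, h2, h3⟩ := h
  refine ⟨hKB.basis b, (algebraMap S S').mapMatrix M, Units.map (algebraMap O O').toMonoidHom u,
    p, q, ?_, ?_, h3⟩
  · intro i
    rw [← hθ, h1, map_sum]
    refine Finset.sum_congr rfl fun j _ => ?_
    rw [map_smul, map_map, KB.basis_apply, map_map, RingHom.mapMatrix_apply, Matrix.map_apply,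
      algebraMap_smul]
  · have := congrArg (algebraMap S S') h2
    rw [map_mul, map_mul, map_pow, map_pow, RingHom.map_det] at this
    simp only [← IsScalarTower.algebraMap_apply] at this ⊢
    rw [this, IsScalarTower.algebraMap_apply O O' S']
    rfl

end Transfer

section Compare

variable {R K O S R' K' V S' : Type*} [CommRing R] [CommRing K] [CommRing O] [CommRing S]
  [Algebra R K] [Algebra R O] [Algebra R S] [Algebra K S] [Algebra O S]
  [IsScalarTower R K S] [IsScalarTower R O S]
  [CommRing R'] [CommRing K'] [CommRing V] [CommRing S']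
  [Algebra R' K'] [Algebra R' V] [Algebra R' S'] [Algebra K' S'] [Algebra V S']
  [IsScalarTower R' K' S'] [IsScalarTower R' V S']
  [Algebra R R'] [Algebra K K'] [Algebra O V] [Algebra S S']
  [Algebra R V] [IsScalarTower R R' V] [IsScalarTower R O V]
  [Algebra K S'] [IsScalarTower K K' S'] [IsScalarTower K S S']
  [Algebra O S'] [IsScalarTower O S S'] [IsScalarTower O V S']
  [Algebra R S'] [IsScalarTower R S S'] [IsScalarTower R R' S']
  [Algebra R K'] [IsScalarTower R K' S'] [IsScalarTower R O S']

/-- Comparison of indices: the index increases along a map `O ⟶ V` under which `ϖ` is a non-unit, and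
if it stays the same then `V ⊗ Ω[O⁄R] ⟶ Ω[V⁄R']` is bijective. -/
theorem HasIdx.le {ϖ : R} {d : ℕ} {θ : Fin d → Ω[S⁄K]} {θ' : Fin d → Ω[S'⁄K']} {n n' : ℤ}
    (h : HasIdx R K O S ϖ θ n) (h' : HasIdx R' K' V S' (algebraMap R R' ϖ) θ' n')
    (hθ : ∀ i, KaehlerDifferential.map K K' S S' (θ i) = θ' i)
    (hKB : KB R' K' V S') (hinj : Function.Injective (algebraMap V S'))
    (hϖ : ¬ IsUnit (algebraMap R V ϖ)) (hϖ' : algebraMap R V ϖ ∈ nonZeroDivisors V) :
    n ≤ n' ∧ (n = n' → KB R R' O V) := by
  obtain ⟨b, M, u, p, q, h1, h2, h3⟩ := h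
  obtain ⟨b', M', u', p', q', h1', h2', h3'⟩ := h'
  rw [← IsScalarTower.algebraMap_apply] at h2'
  let P : Matrix (Fin d) (Fin d) V := fun j k => b'.repr (KaehlerDifferential.map R R' O V (b j)) k
  have hP : ∀ j, KaehlerDifferential.map R R' O V (b j) = ∑ k, P j k • b' k := fun j =>
    (b'.sum_repr _).symm
  have hM : M' = (algebraMap S S').mapMatrix M * (algebraMap V S').mapMatrix P := by
    have hli := (hKB.basis b').linearIndependent
    ext i k
    have e1 : ∑ k, M' i k • hKB.basis b' k =
        ∑ k, ((algebraMap S S').mapMatrix M * (algebraMap V S').mapMatrix P) i k •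
          hKB.basis b' k := by
      have e2 : ∑ k, M' i k • hKB.basis b' k = θ' i := by
        rw [h1' i]
        exact Finset.sum_congr rfl fun k _ => by rw [KB.basis_apply]
      rw [e2, ← hθ, h1, map_sum]
      simp only [Matrix.mul_apply, Finset.sum_smul]
      rw [Finset.sum_comm]
      refine Finset.sum_congr rfl fun j _ => ?_
      rw [map_smul, map_map, ← map_map R R' K' O V S', hP, map_sum, Finset.smul_sum]
      refine Finset.sum_congr rfl fun k _ => ?_
      rw [KB.basis_apply, map_smul, RingHom.mapMatrix_apply, RingHom.mapMatrix_apply,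
        Matrix.map_apply, Matrix.map_apply, mul_smul, algebraMap_smul, algebraMap_smul]
    have e3 := (Fintype.linearIndependent_iff.mp hli) (fun k => M' i k -
      ((algebraMap S S').mapMatrix M * (algebraMap V S').mapMatrix P) i k) (by
        simp only [sub_smul, Finset.sum_sub_distrib]
        rw [e1, sub_self])
    exact sub_eq_zero.mp (e3 k)
  have hdet : M'.det = algebraMap S S' M.det * algebraMap V S' P.det := by
    rw [hM, Matrix.det_mul, ← RingHom.map_det, ← RingHom.map_det]
  have hRV : algebraMap V S' (algebraMap R V ϖ) = algebraMap R S' ϖ := by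
    rw [IsScalarTower.algebraMap_apply R R' V, ← IsScalarTower.algebraMap_apply R' V S',
      ← IsScalarTower.algebraMap_apply R R' S']
  have key : algebraMap R V ϖ ^ (p' + q) * (algebraMap O V u * P.det) =
      algebraMap R V ϖ ^ (p + q') * u' := by
    apply hinj
    have e4 := congrArg (algebraMap S S') h2
    rw [map_mul, map_mul, map_pow, map_pow, ← IsScalarTower.algebraMap_apply,
      ← IsScalarTower.algebraMap_apply] at e4
    rw [map_mul, map_mul, map_mul, map_pow, map_pow, hRV,
      ← IsScalarTower.algebraMap_apply]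
    calc algebraMap R S' ϖ ^ (p' + q) * (algebraMap O S' u * algebraMap V S' P.det)
        = algebraMap R S' ϖ ^ p' * (algebraMap R S' ϖ ^ q * algebraMap O S' u) *
            algebraMap V S' P.det := by ring
      _ = algebraMap R S' ϖ ^ p * (algebraMap R S' ϖ ^ p' * M'.det) := by
          rw [← e4, hdet]; ring
      _ = _ := by rw [h2']; ring
  have hle : p' + q ≤ p + q' := by
    by_contra hlt
    push Not at hlt
    obtain ⟨k, hk⟩ := Nat.exists_eq_add_of_lt hlt
    rw [hk, add_assoc, pow_add, mul_assoc] at key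
    have key' := (mul_cancel_left_mem_nonZeroDivisors (pow_mem hϖ' (p + q'))).mp key
    apply hϖ
    refine isUnit_of_mul_isUnit_left (y := algebraMap R V ϖ ^ k * (algebraMap O V u * P.det)) ?_
    have : algebraMap R V ϖ * (algebraMap R V ϖ ^ k * (algebraMap O V u * P.det)) = u' := by
      rw [← key']; ring
    rw [this]
    exact u'.isUnit
  refine ⟨by omega, fun hn => ?_⟩
  have heq : p' + q = p + q' := by omega
  rw [heq] at key
  have key' := (mul_cancel_left_mem_nonZeroDivisors (pow_mem hϖ' (p + q'))).mp key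
  have hunit : IsUnit P.det := by
    refine isUnit_of_mul_isUnit_right (x := algebraMap O V u) ?_
    rw [key']
    exact u'.isUnit
  let L : V ⊗[O] Ω[O⁄R] →ₗ[V] Ω[V⁄R'] := (KaehlerDifferential.map R R' O V).liftBaseChange V
  have hdet2 : IsUnit (LinearMap.toMatrix (b.baseChange V) b' L).det := by
    have : LinearMap.toMatrix (b.baseChange V) b' L = P.transpose := by
      ext i j
      rw [LinearMap.toMatrix_apply, Matrix.transpose_apply, Basis.baseChange_apply,
        LinearMap.liftBaseChange_tmul, one_smul]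
    rw [this, Matrix.det_transpose]
    exact hunit
  refine IsBaseChange.of_equiv (LinearEquiv.ofIsUnitDet hdet2) fun x => ?_
  change L (1 ⊗ₜ x) = _
  rw [LinearMap.liftBaseChange_tmul, one_smul]

end Compare

section Unique

variable {R K O S : Type*} [CommRing R] [CommRing K] [CommRing O] [CommRing S]
  [Algebra R K] [Algebra R O] [Algebra R S] [Algebra K S] [Algebra O S]
  [IsScalarTower R K S] [IsScalarTower R O S]

theorem map_self (R O : Type*) [CommRing R] [CommRing O] [Algebra R O] (x : Ω[O⁄R]) :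
    KaehlerDifferential.map R R O O x = x := by
  have key : KaehlerDifferential.map R R O O = LinearMap.id := by
    apply Derivation.liftKaehlerDifferential_unique
    ext x
    simp
  exact LinearMap.congr_fun key x

/-- The index is unique. -/
theorem HasIdx.unique {ϖ : R} {d : ℕ} {θ : Fin d → Ω[S⁄K]} {n n' : ℤ}
    (h : HasIdx R K O S ϖ θ n) (h' : HasIdx R K O S ϖ θ n')
    (hKB : KB R K O S) (hinj : Function.Injective (algebraMap O S))
    (hϖ : ¬ IsUnit (algebraMap R O ϖ)) (hϖ' : algebraMap R O ϖ ∈ nonZeroDivisors O) :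
    n = n' :=
  le_antisymm (HasIdx.le h h' (fun i => map_self K S (θ i)) hKB hinj hϖ hϖ').1
    (HasIdx.le h' h (fun i => map_self K S (θ i)) hKB hinj hϖ hϖ').1

/-- The index of the opposite frame. -/
theorem HasIdx.neg {ϖ : R} {d : ℕ} {θ : Fin d → Ω[S⁄K]} {n : ℤ}
    (h : HasIdx R K O S ϖ θ n) : HasIdx R K O S ϖ (-θ) n := by
  obtain ⟨b, M, u, p, q, h1, h2, h3⟩ := h
  refine ⟨b, -M, (-1) ^ d * u, p, q, ?_, ?_, h3⟩
  · intro i
    rw [Pi.neg_apply, h1, ← Finset.sum_neg_distrib]
    exact Finset.sum_congr rfl fun j _ => by rw [Matrix.neg_apply, neg_smul]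
  · rw [Matrix.det_neg, Fintype.card_fin, mul_left_comm, h2]
    simp only [Units.val_mul, Units.val_pow_eq_pow_val, Units.val_neg, Units.val_one, map_mul,
      map_pow, map_neg, map_one]
    ring

end Unique

section Exists

variable {R K O S : Type*} [CommRing R] [CommRing K] [CommRing O] [CommRing S]
  [Algebra R K] [Algebra R O] [Algebra R S] [Algebra K S] [Algebra O S]
  [IsScalarTower R K S] [IsScalarTower R O S]

/-- Existence of the index. -/
theorem exists_hasIdx [Nontrivial S] [Module.Free O Ω[O⁄R]] [Module.Finite O Ω[O⁄R]] (ϖ : R) {d : ℕ}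
    (θ : Basis (Fin d) S Ω[S⁄K]) (hKB : KB R K O S)
    (hu : ∀ s : Sˣ, ∃ (p q : ℕ) (u : Oˣ), (algebraMap R S ϖ) ^ p * (s : S) =
      (algebraMap R S ϖ) ^ q * algebraMap O S u) :
    ∃ n : ℤ, HasIdx R K O S ϖ θ n := by
  let b0 := Module.Free.chooseBasis O Ω[O⁄R]
  have hcard : Fintype.card (Module.Free.ChooseBasisIndex O Ω[O⁄R]) = d := by
    have h1 := Module.finrank_eq_card_basis (hKB.basis b0)
    have h2 := Module.finrank_eq_card_basis θ
    rw [Fintype.card_fin] at h2
    omega
  let b : Basis (Fin d) O Ω[O⁄R] := b0.reindex (Fintype.equivFinOfCardEq hcard)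
  let M : Matrix (Fin d) (Fin d) S := fun i j => (hKB.basis b).repr (θ i) j
  have hM : M = ((hKB.basis b).toMatrix θ).transpose := by
    ext i j; rfl
  have hMu : IsUnit M.det := by
    rw [hM, Matrix.det_transpose]
    let := (hKB.basis b).invertibleToMatrix θ
    exact Matrix.isUnit_det_of_invertible ((hKB.basis b).toMatrix θ)
  obtain ⟨s, hs⟩ := hMu
  obtain ⟨p, q, u, h⟩ := hu s
  rw [hs] at h
  refine ⟨(q : ℤ) - p, b, M, u, p, q, fun i => ?_, h, rfl⟩
  conv_lhs => rw [← (hKB.basis b).sum_repr (θ i)]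
  exact Finset.sum_congr rfl fun j _ => by rw [KB.basis_apply]

/-- The units of `O[1/ϖ]` are `ϖ^ℤ · Oˣ` if `ϖ` is prime and `⋂ ϖ^n O = 0`. -/
theorem units_away {O S : Type*} [CommRing O] [CommRing S] [Algebra O S] (w : O)
    [IsLocalization.Away w S] (hw : Prime w) (hnz : w ∈ nonZeroDivisors O)
    (hsep : ∀ x : O, x ≠ 0 → ∃ (n : ℕ) (y : O), x = w ^ n * y ∧ ¬ w ∣ y) (s : Sˣ) :
    ∃ (p q : ℕ) (u : Oˣ), (algebraMap O S w) ^ p * (s : S) =
      (algebraMap O S w) ^ q * algebraMap O S u := by
  have hinj : Function.Injective (algebraMap O S) :=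
    IsLocalization.injective S (Submonoid.powers_le.mpr hnz)
  have hnt : Nontrivial O := ⟨w, 0, hw.ne_zero⟩
  obtain ⟨a, x, hx⟩ : ∃ (a : ℕ) (x : O), (algebraMap O S w) ^ a * (s : S) = algebraMap O S x := by
    obtain ⟨x, ⟨_, a, rfl⟩, h⟩ := IsLocalization.exists_mk'_eq (Submonoid.powers w) (s : S)
    refine ⟨a, x, ?_⟩
    rw [← h, ← map_pow]
    exact IsLocalization.mk'_spec' S x (⟨w ^ a, ⟨a, rfl⟩⟩ : Submonoid.powers w)
  obtain ⟨c, y, hy⟩ : ∃ (a : ℕ) (x : O), (algebraMap O S w) ^ a * ((s⁻¹ : Sˣ) : S) =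
      algebraMap O S x := by
    obtain ⟨x, ⟨_, a, rfl⟩, h⟩ := IsLocalization.exists_mk'_eq (Submonoid.powers w) ((s⁻¹ : Sˣ) : S)
    refine ⟨a, x, ?_⟩
    rw [← h, ← map_pow]
    exact IsLocalization.mk'_spec' S x (⟨w ^ a, ⟨a, rfl⟩⟩ : Submonoid.powers w)
  have hxy : x * y = w ^ (a + c) := by
    apply hinj
    rw [map_mul, ← hx, ← hy, map_pow, pow_add]
    calc (algebraMap O S w) ^ a * (s : S) * ((algebraMap O S w) ^ c * ((s⁻¹ : Sˣ) : S))
        = (algebraMap O S w) ^ a * (algebraMap O S w) ^ c * ((s : S) * ((s⁻¹ : Sˣ) : S)) := by ring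
      _ = _ := by rw [Units.mul_inv, mul_one]
  have hpow : w ^ (a + c) ≠ 0 := nonZeroDivisors.ne_zero (pow_mem hnz _)
  obtain ⟨m, x', hx', hx''⟩ := hsep x (by rintro rfl; rw [zero_mul] at hxy; exact hpow hxy.symm)
  obtain ⟨n, y', hy', hy''⟩ := hsep y (by rintro rfl; rw [mul_zero] at hxy; exact hpow hxy.symm)
  have hxy' : w ^ (m + n) * (x' * y') = w ^ (a + c) := by
    rw [← hxy, hx', hy']; ring
  have hnd : ¬ w ∣ x' * y' := fun h => (hw.dvd_or_dvd h).elim hx'' hy''
  have hmn : x' * y' = 1 := by
    rcases lt_trichotomy (m + n) (a + c) with hlt | heq | hgt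
    · obtain ⟨k, hk⟩ := Nat.exists_eq_add_of_lt hlt
      rw [hk, add_assoc (m + n), pow_add w (m + n) (k + 1)] at hxy'
      have := (mul_cancel_left_mem_nonZeroDivisors (pow_mem hnz (m + n))).mp hxy'
      exact absurd (this ▸ Dvd.intro_left (w ^ k) (by ring)) hnd
    · rw [heq] at hxy'
      conv_rhs at hxy' => rw [← mul_one (w ^ (a + c))]
      exact (mul_cancel_left_mem_nonZeroDivisors (pow_mem hnz _)).mp hxy'
    · obtain ⟨k, hk⟩ := Nat.exists_eq_add_of_lt hgt
      rw [hk, add_assoc, pow_add, mul_assoc] at hxy'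
      conv_rhs at hxy' => rw [← mul_one (w ^ (a + c))]
      have := (mul_cancel_left_mem_nonZeroDivisors (pow_mem hnz _)).mp hxy'
      exact absurd (isUnit_of_mul_isUnit_left (x := w) (y := w ^ k * (x' * y')) (by
        rw [← mul_assoc, ← pow_succ', this]; exact isUnit_one)) hw.not_isUnit
  refine ⟨a, m, ⟨x', y', hmn, by rw [mul_comm]; exact hmn⟩, ?_⟩
  rw [hx, hx', map_mul, map_pow]

/-- In a noetherian local ring, powers of a non-unit are divided out finitely often. -/
theorem exists_pow_mul_not_dvd {O : Type*} [CommRing O] [IsLocalRing O] [IsNoetherianRing O] (w : O)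
    (hw : ¬ IsUnit w) (x : O) (hx : x ≠ 0) : ∃ (n : ℕ) (y : O), x = w ^ n * y ∧ ¬ w ∣ y := by
  by_contra hcon
  push Not at hcon
  have h : ∀ n : ℕ, w ^ n ∣ x := by
    intro n
    induction n with
    | zero => simp
    | succ n ih =>
      obtain ⟨y, hy⟩ := ih
      obtain ⟨z, hz⟩ := hcon n y hy
      exact ⟨z, by rw [hy, hz]; ring⟩
  apply hx
  have hbot := Ideal.iInf_pow_eq_bot_of_isLocalRing (Ideal.span {w})
    (by rw [Ne, Ideal.span_singleton_eq_top]; exact hw)
  have : x ∈ (⨅ i : ℕ, Ideal.span {w} ^ i : Ideal O) := by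
    rw [Ideal.mem_iInf]
    intro i
    rw [Ideal.span_singleton_pow, Ideal.mem_span_singleton]
    exact h i
  rw [hbot] at this
  exact this

end Exists

end Groth.Agent.Sga7.H244.Index
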