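import Mathlib.RingTheory.Smooth.Locus
import Mathlib.RingTheory.Kaehler.JacobiZariski
import Mathlib.RingTheory.Etale.Kaehler

/-!
# A smoothness criterion: bijectivity on differentials
-/

set_option autoImplicit false

open KaehlerDifferential

namespace Groth.Agent.Sga7.H244

/-- If `V` is formally smooth over `R` and `V ⊗ Ω[P⁄R] ⟶ Ω[V⁄R]` is bijective, then `V` is formally
smooth over `P`. -/
theorem formallySmooth_of_bijective (R P V : Type*) [CommRing R] [CommRing P] [CommRing V]
    [Algebra R P] [Algebra P V] [Algebra R V] [IsScalarTower R P V] [Algebra.FormallySmooth R V]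
    (h : Function.Bijective (mapBaseChange R P V)) : Algebra.FormallySmooth P V := by
  refine ⟨?_, ?_⟩
  · have : Subsingleton Ω[V⁄P] := by
      refine subsingleton_of_forall_eq 0 fun x => ?_
      obtain ⟨y, rfl⟩ := KaehlerDifferential.map_surjective R P V x
      obtain ⟨z, rfl⟩ := h.2 y
      exact (KaehlerDifferential.exact_mapBaseChange_map R P V _).mpr ⟨z, rfl⟩
    infer_instance
  · refine subsingleton_of_forall_eq 0 fun x => ?_
    have h1 : Algebra.H1Cotangent.δ R P V x = 0 := by
      apply h.1
      rw [map_zero]
      exact (Algebra.H1Cotangent.exact_δ_mapBaseChange R P V _).mpr ⟨x, rfl⟩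
    obtain ⟨y, rfl⟩ := (Algebra.H1Cotangent.exact_map_δ R P V x).mp h1
    rw [Subsingleton.elim y 0, map_zero]

/-- A point where the map on differentials is bijective is a point of smoothness. -/
theorem exists_smooth_away (R P D : Type*) [CommRing R] [CommRing P] [CommRing D]
    [Algebra R P] [Algebra P D] [Algebra R D] [IsScalarTower R P D] [Algebra.FinitePresentation P D]
    (ζ : Ideal D) [ζ.IsPrime] [Algebra.FormallySmooth R (Localization.AtPrime ζ)]
    (h : Function.Bijective (mapBaseChange R P (Localization.AtPrime ζ))) :
    ∃ f ∉ ζ, Algebra.Smooth P (Localization.Away f) := by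
  have : Algebra.IsSmoothAt P ζ :=
    formallySmooth_of_bijective R P (Localization.AtPrime ζ) h
  exact Algebra.IsSmoothAt.exists_notMem_smooth P ζ

end Groth.Agent.Sga7.H244
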