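import Groth.Agent.Sga7.H244.Gen
import Groth.Agent.Sga7.H244.Index
import Groth.Agent.Sga7.H244.DlogK
import Groth.Agent.Sga7.H244.SmoothCrit
import Mathlib.RingTheory.DiscreteValuationRing.Basic
import Mathlib.RingTheory.Localization.BaseChange
import Mathlib.RingTheory.Flat.Localization

/-!
# The core comparison: charts and points of the group over the generic fibre
-/

set_option autoImplicit false

universe u

open CategoryTheory CategoryTheory.Limits MonoidalCategory CartesianMonoidalCategory AlgebraicGeometry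
  MonObj KaehlerDifferential

namespace Groth.Agent.Sga7.H244

open Index

section Res

variable {K : Type u} [CommRing K] {A : Over (Spec (CommRingCat.of K))}

theorem res_res {S S' S'' : Type u} [CommRing S] [CommRing S'] [CommRing S''] [Algebra K S]
    [Algebra K S'] [Algebra K S''] [Algebra S S'] [Algebra S' S''] [Algebra S S'']
    [IsScalarTower K S S'] [IsScalarTower K S' S''] [IsScalarTower K S S'']
    [IsScalarTower S S' S''] (p : SpecOver K S ⟶ A) :
    res (S' := S'') (res (S' := S') p) = res (S' := S'') p := by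
  change specMap _ ≫ specMap _ ≫ p = specMap _ ≫ p
  rw [← Category.assoc, ← specMap_comp]
  congr 2
  ext x
  exact (IsScalarTower.algebraMap_apply S S' S'' x).symm

theorem res_mul [GrpObj A] {S S' : Type u} [CommRing S] [CommRing S'] [Algebra K S]
    [Algebra K S'] [Algebra S S'] [IsScalarTower K S S'] (p q : SpecOver K S ⟶ A) :
    res (S' := S') (p * q) = res p * res q := MonObj.comp_mul _ _ _

theorem res_inv [GrpObj A] {S S' : Type u} [CommRing S] [CommRing S'] [Algebra K S]
    [Algebra K S'] [Algebra S S'] [IsScalarTower K S S'] (p : SpecOver K S ⟶ A) :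
    res (S' := S') (p⁻¹) = (res p)⁻¹ := GrpObj.comp_inv _ _

end Res

section Away

variable (R K : Type u) [CommRing R] [IsDomain R] [IsDiscreteValuationRing R] [Field K] [Algebra R K]
  [IsFractionRing R K]

theorem away_of_irreducible {ϖ : R} (hϖ : Irreducible ϖ) : IsLocalization.Away ϖ K := by
  have hinj : Function.Injective (algebraMap R K) := IsFractionRing.injective R K
  refine (isLocalization_iff (Submonoid.powers ϖ) K).mpr ⟨?_, ?_, ?_⟩
  · rintro ⟨_, n, rfl⟩
    rw [map_pow]
    exact ((isUnit_iff_ne_zero.mpr fun h => hϖ.ne_zero (hinj (by rw [h, map_zero])))).pow n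
  · intro z
    obtain ⟨a, b, hb, rfl⟩ := IsFractionRing.div_surjective (A := R) z
    have hb0 : b ≠ 0 := nonZeroDivisors.ne_zero hb
    obtain ⟨n, u, hu⟩ := IsDiscreteValuationRing.eq_unit_mul_pow_irreducible hb0 hϖ
    refine ⟨(a * ((u⁻¹ : Rˣ) : R), ⟨ϖ ^ n, n, rfl⟩), ?_⟩
    have hb' : algebraMap R K b ≠ 0 := fun h => hb0 (hinj (by rw [h, map_zero]))
    change algebraMap R K a / algebraMap R K b * algebraMap R K (ϖ ^ n) =
      algebraMap R K (a * ((u⁻¹ : Rˣ) : R))
    rw [div_mul_eq_mul_div, div_eq_iff hb', ← map_mul, ← map_mul]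
    congr 1
    rw [hu]
    calc a * ϖ ^ n = a * (((u⁻¹ : Rˣ) : R) * (u : R)) * ϖ ^ n := by rw [Units.inv_mul, _root_.mul_one]
      _ = _ := by ring
  · intro x y h
    exact ⟨1, by rw [hinj h]⟩

theorem G.away {ϖ : R} (hϖ : Irreducible ϖ) (B : Type u) [CommRing B] [Algebra R B] :
    IsLocalization.Away (algebraMap R B ϖ) (G R K B) := by
  have h1 : IsLocalization (Submonoid.powers ϖ) K := away_of_irreducible R K hϖ
  have h2 := (Algebra.isLocalization_iff_isPushout (R := R) (A := K) (T := B) (B := G R K B)
    (Submonoid.powers ϖ)).mpr inferInstance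
  rw [Algebra.algebraMapSubmonoid_powers] at h2
  exact h2

omit [IsDomain R] [IsDiscreteValuationRing R] in
theorem G.algebraMap_injective (B : Type u) [CommRing B] [Algebra R B] [Module.Flat R B] :
    Function.Injective (algebraMap B (G R K B)) :=
  Algebra.TensorProduct.includeRight_injective (IsFractionRing.injective R K)

end Away

section Core

variable {R K : Type u} [CommRing R] [IsDomain R] [IsDiscreteValuationRing R] [Field K] [Algebra R K]
  [IsFractionRing R K] {A : Over (Spec (CommRingCat.of K))} [GrpObj A] [IsCommMonObj A]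
  (T : TanChart A) {ϖ : R} (hϖ : Irreducible ϖ)

theorem mem_nonZeroDivisors_of_flat {R : Type u} [CommRing R] [IsDomain R] {ϖ : R} (hϖ : ϖ ≠ 0)
    (W : Type u) [CommRing W] [Algebra R W]
    [Module.Flat R W] : algebraMap R W ϖ ∈ nonZeroDivisors W := by
  rw [mem_nonZeroDivisors_iff_right]
  intro x hx
  have h5 : IsSMulRegular R ϖ := by
    rw [isSMulRegular_iff_right_eq_zero_of_smul]
    intro y hy
    exact (mul_eq_zero.mp hy).resolve_left hϖ
  have h6 : IsSMulRegular W (algebraMap R W ϖ) := h5.of_flat
  rw [isSMulRegular_iff_right_eq_zero_of_smul] at h6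
  apply h6
  rw [smul_eq_mul, mul_comm]
  exact hx

omit [IsDiscreteValuationRing R] in
include hϖ in
/-- **Core comparison.** -/
theorem core {Q O B W : Type u} [CommRing Q] [CommRing O] [CommRing B] [CommRing W]
    [Algebra R Q] [Algebra R B] [Algebra R O] [Algebra B O] [IsScalarTower R B O] [Algebra R W]
    [Algebra Q W] [IsScalarTower R Q W] [Algebra O W] [IsScalarTower R O W] [Algebra B W]
    [IsScalarTower B O W] [IsScalarTower R B W] [Module.Flat R W]
    (hW : ¬ IsUnit (algebraMap R W ϖ))
    (p : SpecOver K (G R K B) ⟶ A) (q : SpecOver K (G R K Q) ⟶ A)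
    (p' : SpecOver K (G R K W) ⟶ A) (hp : res (S' := G R K W) p = p' * res q) {n n' : ℤ}
    (hn : HasIdx R K O (G R K O) ϖ (T.dlog K (res (S' := G R K O) p)) n)
    (hn' : HasIdx Q (G R K Q) W (G R K W) (algebraMap R Q ϖ) (T.dlog (G R K Q) p') n') :
    n ≤ n' ∧ (n = n' → KB R Q O W) := by
  refine HasIdx.le hn hn' ?_ (KB.of_isPushout Q (G R K Q) W (G R K W))
    (G.algebraMap_injective R K W) hW (mem_nonZeroDivisors_of_flat hϖ.ne_zero W)
  intro i
  rw [← T.dlog_res (K' := K) (K'' := G R K Q) (S := G R K O) (S' := G R K W), res_res, hp,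
    T.dlog_mul, T.dlog_const, add_zero]

end Core

end Groth.Agent.Sga7.H244
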