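import Groth.Agent.Sga7.H244.SpecOver
import Mathlib.RingTheory.Kaehler.Basic
import Mathlib.AlgebraicGeometry.Morphisms.FiniteType
import Mathlib.RingTheory.FiniteType

/-!
# Logarithmic derivatives of points of a commutative group scheme

For a `K`-algebra `S`, a derivation `D : S ⟶ N` and a point `p ∈ A(S)` of a `K`-group scheme `A` the
difference of the two points of `A(S ⊕ N)` obtained from `p` by `s ↦ s + D s` and `s ↦ s` is a tangent
vector at the origin, i.e. an element `dlogD T D p` of `N ^ d` in the coordinates `T`.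
-/

set_option autoImplicit false

universe u

open CategoryTheory CategoryTheory.Limits MonoidalCategory CartesianMonoidalCategory AlgebraicGeometry
  MonObj

namespace Groth.Agent.Sga7.H244

variable {K : Type u} [Field K] {A : Over (Spec (CommRingCat.of K))} [GrpObj A]

variable (A) in
/-- Coordinates of the tangent space of `A` at the origin. -/
structure TanChart where
  B : Type u
  [commRing : CommRing B]
  [algebra : Algebra K B]
  j : SpecOver K B ⟶ A
  openImmersion : IsOpenImmersion j.left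
  ε : B →ₐ[K] K
  hε : specMap ε ≫ j = (1 : SpecOver K K ⟶ A)
  C : Coord K B ε

attribute [instance] TanChart.commRing TanChart.algebra TanChart.openImmersion

theorem TanChart.nonempty [LocallyOfFiniteType A.hom] : Nonempty (TanChart A) := by
  let e : SpecOver K K ⟶ A := 1
  let z : A.left := e.left (IsLocalRing.closedPoint K : PrimeSpectrum K)
  obtain ⟨_, ⟨U, hU, rfl⟩, hz, -⟩ := A.left.isBasis_affineOpens.exists_subset_of_mem_open
    (Set.mem_univ z) isOpen_univ
  have hU' : IsAffineOpen U := hU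
  let ψ : CommRingCat.of K ⟶ Γ(A.left, U) := Spec.preimage (hU'.fromSpec ≫ A.hom)
  have hψ : Spec.map ψ = hU'.fromSpec ≫ A.hom := Spec.map_preimage _
  let : Algebra K Γ(A.left, U) := ψ.hom.toAlgebra
  let j : SpecOver K Γ(A.left, U) ⟶ A := Over.homMk hU'.fromSpec (by
    change hU'.fromSpec ≫ A.hom = Spec.map (CommRingCat.ofHom (algebraMap K Γ(A.left, U)))
    rw [← hψ]
    rfl)
  have hj : IsOpenImmersion j.left := inferInstanceAs (IsOpenImmersion hU'.fromSpec)
  have hft : Algebra.FiniteType K Γ(A.left, U) := by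
    have h1 : LocallyOfFiniteType (Spec.map ψ) := by rw [hψ]; infer_instance
    rw [HasRingHomProperty.Spec_iff (P := @LocallyOfFiniteType)] at h1
    exact h1
  have hno : IsNoetherianRing Γ(A.left, U) := Algebra.FiniteType.isNoetherianRing K _
  obtain ⟨ε, hε⟩ := exists_algHom_of_range_subset j e (by
    rintro _ ⟨x, rfl⟩
    have hx : x = (IsLocalRing.closedPoint K : PrimeSpectrum K) := Subsingleton.elim (α := PrimeSpectrum K) _ _
    rw [hx]
    change z ∈ Set.range hU'.fromSpec
    rw [hU'.range_fromSpec]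
    exact hz)
  obtain ⟨C⟩ := Coord.nonempty K Γ(A.left, U) ε
  exact ⟨{ B := Γ(A.left, U), j := j, openImmersion := hj, ε := ε, hε := hε, C := C }⟩

namespace TanChart

variable (T : TanChart A) {S N : Type u} [CommRing S] [Algebra K S] [AddCommGroup N] [Module S N]

theorem one_eq (S : Type u) [CommRing S] [Algebra K S] :
    specMap ((Algebra.ofId K S).comp T.ε) ≫ T.j = (1 : SpecOver K S ⟶ A) := by
  rw [specMap_comp, Category.assoc, T.hε, MonObj.comp_one]

theorem exists_hom (q : SpecOver K (SZ S N) ⟶ A) (h : specMap (SZ.pr K S N) ≫ q = 1) :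
    ∃ φ : T.B →ₐ[K] SZ S N, (∀ x, (φ x).fst = algebraMap K S (T.ε x)) ∧ specMap φ ≫ T.j = q :=
  exists_lift_SZ T.j q ((Algebra.ofId K S).comp T.ε) (by rw [h, one_eq])

/-- The coordinates of a tangent vector at the origin. -/
noncomputable def tvec (q : SpecOver K (SZ S N) ⟶ A) (h : specMap (SZ.pr K S N) ≫ q = 1) :
    Fin T.C.d → N :=
  fun i => ((T.exists_hom q h).choose (T.C.b i)).snd

theorem tvec_eq (q : SpecOver K (SZ S N) ⟶ A) (h : specMap (SZ.pr K S N) ≫ q = 1)
    (φ : T.B →ₐ[K] SZ S N) (hφ : specMap φ ≫ T.j = q) (i : Fin T.C.d) :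
    T.tvec q h i = (φ (T.C.b i)).snd := by
  have : (T.exists_hom q h).choose = φ :=
    specMap_comp_injective T.j ((T.exists_hom q h).choose_spec.2.trans hφ.symm)
  change ((T.exists_hom q h).choose (T.C.b i)).snd = _
  rw [this]

theorem tvec_congr {q q' : SpecOver K (SZ S N) ⟶ A} (e : q = q')
    (h : specMap (SZ.pr K S N) ≫ q = 1) (h' : specMap (SZ.pr K S N) ≫ q' = 1) :
    T.tvec q h = T.tvec q' h' := by
  subst e; rfl

theorem tvec_injective {q q' : SpecOver K (SZ S N) ⟶ A} (h : specMap (SZ.pr K S N) ≫ q = 1)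
    (h' : specMap (SZ.pr K S N) ≫ q' = 1) (hq : T.tvec q h = T.tvec q' h') : q = q' := by
  obtain ⟨φ, hφ, rfl⟩ := T.exists_hom q h
  obtain ⟨φ', hφ', rfl⟩ := T.exists_hom q' h'
  have : φ = φ' := T.C.hom_ext φ φ' hφ hφ' fun i => by
    rw [← T.tvec_eq _ h φ rfl, ← T.tvec_eq _ h' φ' rfl, hq]
  rw [this]

theorem exists_tvec_eq (n : Fin T.C.d → N) :
    ∃ (q : SpecOver K (SZ S N) ⟶ A) (h : specMap (SZ.pr K S N) ≫ q = 1), T.tvec q h = n := by
  refine ⟨specMap (T.C.hom (S := S) n) ≫ T.j, ?_, ?_⟩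
  · rw [← Category.assoc, ← specMap_comp, ← T.one_eq S]
    congr 2
  · funext i
    rw [T.tvec_eq _ _ _ rfl, Coord.hom_snd_b]

variable {S' N' : Type u} [CommRing S'] [Algebra K S'] [AddCommGroup N'] [Module S' N']

theorem map_mem (f : S →ₐ[K] S') (g : N →+ N') (hg : ∀ (s : S) (n : N), g (s • n) = f s • g n)
    (q : SpecOver K (SZ S N) ⟶ A) (h : specMap (SZ.pr K S N) ≫ q = 1) :
    specMap (SZ.pr K S' N') ≫ (specMap (SZ.map f g hg) ≫ q) = 1 := by
  rw [← Category.assoc, ← specMap_comp, SZ.pr_comp_map, specMap_comp, Category.assoc, h,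
    MonObj.comp_one]

theorem tvec_map (f : S →ₐ[K] S') (g : N →+ N')
    (hg : ∀ (s : S) (n : N), g (s • n) = f s • g n)
    (q : SpecOver K (SZ S N) ⟶ A) (h : specMap (SZ.pr K S N) ≫ q = 1)
    (h' : specMap (SZ.pr K S' N') ≫ (specMap (SZ.map f g hg) ≫ q) = 1) (i : Fin T.C.d) :
    T.tvec (specMap (SZ.map f g hg) ≫ q) h' i = g (T.tvec q h i) := by
  obtain ⟨φ, hφ, rfl⟩ := T.exists_hom q h
  rw [T.tvec_eq _ h φ rfl, T.tvec_eq _ h' ((SZ.map f g hg).comp φ) (by
    rw [specMap_comp, Category.assoc])]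
  rfl

theorem tvec_one (h : specMap (SZ.pr K S N) ≫ (1 : SpecOver K (SZ S N) ⟶ A) = 1) :
    T.tvec 1 h = 0 := by
  funext i
  rw [T.tvec_eq _ h _ (T.one_eq (SZ S N))]
  rfl

omit [GrpObj A] in
theorem mul_mem [GrpObj A] {q q' : SpecOver K (SZ S N) ⟶ A} (h : specMap (SZ.pr K S N) ≫ q = 1)
    (h' : specMap (SZ.pr K S N) ≫ q' = 1) : specMap (SZ.pr K S N) ≫ (q * q') = 1 := by
  rw [MonObj.comp_mul, h, h', _root_.one_mul]

/-- The addition of tangent vectors at the origin. -/
theorem tvec_mul {q q' : SpecOver K (SZ S N) ⟶ A} (h : specMap (SZ.pr K S N) ≫ q = 1)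
    (h' : specMap (SZ.pr K S N) ≫ q' = 1) (h'' : specMap (SZ.pr K S N) ≫ (q * q') = 1) :
    T.tvec (q * q') h'' = T.tvec q h + T.tvec q' h' := by
  let ml : SZ S N →ₐ[K] SZ S (N × N) :=
    SZ.map (AlgHom.id K S) (AddMonoidHom.inl N N) (by intro s n; simp)
  let mr : SZ S N →ₐ[K] SZ S (N × N) :=
    SZ.map (AlgHom.id K S) (AddMonoidHom.inr N N) (by intro s n; simp)
  have hgf : ∀ (s : S) (n : N × N), AddMonoidHom.fst N N (s • n) =
    AlgHom.id K S s • AddMonoidHom.fst N N n := by intro s n; simp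
  have hgs : ∀ (s : S) (n : N × N), AddMonoidHom.snd N N (s • n) =
    AlgHom.id K S s • AddMonoidHom.snd N N n := by intro s n; simp
  have hga : ∀ (s : S) (n : N × N), (AddMonoidHom.fst N N + AddMonoidHom.snd N N) (s • n) =
    AlgHom.id K S s • (AddMonoidHom.fst N N + AddMonoidHom.snd N N) n := by intro s n; simp
  let pf : SZ S (N × N) →ₐ[K] SZ S N := SZ.map (AlgHom.id K S) (AddMonoidHom.fst N N) hgf
  let ps : SZ S (N × N) →ₐ[K] SZ S N := SZ.map (AlgHom.id K S) (AddMonoidHom.snd N N) hgs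
  let pa : SZ S (N × N) →ₐ[K] SZ S N :=
    SZ.map (AlgHom.id K S) (AddMonoidHom.fst N N + AddMonoidHom.snd N N) hga
  let Q : SpecOver K (SZ S (N × N)) ⟶ A := (specMap ml ≫ q) * (specMap mr ≫ q')
  have hml : specMap (SZ.pr K S (N × N)) ≫ (specMap ml ≫ q) = 1 := map_mem _ _ _ _ h
  have hmr : specMap (SZ.pr K S (N × N)) ≫ (specMap mr ≫ q') = 1 := map_mem _ _ _ _ h'
  have hQ : specMap (SZ.pr K S (N × N)) ≫ Q = 1 := mul_mem hml hmr
  have e1 : pf.comp ml = AlgHom.id K _ := by ext <;> simp [pf, ml]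
  have e2 : pf.comp mr = (SZ.inl K S N).comp (SZ.pr K S N) := by ext <;> simp [pf, mr]
  have e3 : ps.comp ml = (SZ.inl K S N).comp (SZ.pr K S N) := by ext <;> simp [ps, ml]
  have e4 : ps.comp mr = AlgHom.id K _ := by ext <;> simp [ps, mr]
  have e5 : pa.comp ml = AlgHom.id K _ := by ext <;> simp [pa, ml]
  have e6 : pa.comp mr = AlgHom.id K _ := by ext <;> simp [pa, mr]
  have f1 : specMap pf ≫ Q = q := by
    change specMap pf ≫ ((specMap ml ≫ q) * (specMap mr ≫ q')) = q
    rw [MonObj.comp_mul, ← Category.assoc, ← Category.assoc, ← specMap_comp, ← specMap_comp, e1, e2,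
      specMap_id, Category.id_comp, specMap_comp, Category.assoc, h', MonObj.comp_one, _root_.mul_one]
  have f2 : specMap ps ≫ Q = q' := by
    change specMap ps ≫ ((specMap ml ≫ q) * (specMap mr ≫ q')) = q'
    rw [MonObj.comp_mul, ← Category.assoc, ← Category.assoc, ← specMap_comp, ← specMap_comp, e3, e4,
      specMap_id, Category.id_comp, specMap_comp, Category.assoc, h, MonObj.comp_one, _root_.one_mul]
  have f3 : specMap pa ≫ Q = q * q' := by
    change specMap pa ≫ ((specMap ml ≫ q) * (specMap mr ≫ q')) = q * q'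
    rw [MonObj.comp_mul, ← Category.assoc, ← Category.assoc, ← specMap_comp, ← specMap_comp, e5, e6,
      specMap_id, Category.id_comp, Category.id_comp]
  funext i
  have g1 := T.tvec_map (AlgHom.id K S) (AddMonoidHom.fst N N) hgf Q hQ (map_mem _ _ _ _ hQ) i
  have g2 := T.tvec_map (AlgHom.id K S) (AddMonoidHom.snd N N) hgs Q hQ (map_mem _ _ _ _ hQ) i
  have g3 := T.tvec_map (AlgHom.id K S) (AddMonoidHom.fst N N + AddMonoidHom.snd N N) hga Q hQ
    (map_mem _ _ _ _ hQ) i
  rw [T.tvec_congr f1 _ h] at g1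
  rw [T.tvec_congr f2 _ h'] at g2
  rw [T.tvec_congr f3 _ h''] at g3
  rw [g3, Pi.add_apply, g1, g2]
  rfl

/-- The tangent vector at the origin attached to a derivation and a point. -/
noncomputable def del [Module K N] (D : Derivation K S N) (p : SpecOver K S ⟶ A) :
    SpecOver K (SZ S N) ⟶ A :=
  (specMap (SZ.ofDer D) ≫ p) * (specMap (SZ.inl K S N) ≫ p)⁻¹

theorem del_mem [Module K N] (D : Derivation K S N) (p : SpecOver K S ⟶ A) :
    specMap (SZ.pr K S N) ≫ del D p = 1 := by
  rw [del, MonObj.comp_mul, GrpObj.comp_inv, ← Category.assoc, ← Category.assoc, ← specMap_comp,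
    ← specMap_comp, SZ.pr_comp_ofDer, SZ.pr_comp_inl, mul_inv_cancel]

/-- The logarithmic derivative of a point along a derivation. -/
noncomputable def dlogD [Module K N] (D : Derivation K S N) (p : SpecOver K S ⟶ A) :
    Fin T.C.d → N :=
  T.tvec (del D p) (del_mem D p)

theorem dlogD_map [Module K N] [Module K N'] (f : S →ₐ[K] S') (g : N →+ N')
    (hg : ∀ (s : S) (n : N), g (s • n) = f s • g n) (D : Derivation K S N)
    (D' : Derivation K S' N') (hD : ∀ s, D' (f s) = g (D s)) (p : SpecOver K S ⟶ A)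
    (i : Fin T.C.d) : T.dlogD D' (specMap f ≫ p) i = g (T.dlogD D p i) := by
  have h1 : (SZ.map f g hg).comp (SZ.ofDer D) = (SZ.ofDer D').comp f := by
    ext s
    · rfl
    · exact (hD s).symm
  have h2 : specMap (SZ.map f g hg) ≫ del D p = del D' (specMap f ≫ p) := by
    rw [del, del, MonObj.comp_mul, GrpObj.comp_inv, ← Category.assoc, ← Category.assoc,
      ← specMap_comp, ← specMap_comp, h1, SZ.map_comp_inl, specMap_comp, specMap_comp,
      Category.assoc, Category.assoc]
  rw [dlogD, dlogD, ← T.tvec_map f g hg _ _ (map_mem f g hg _ (del_mem D p))]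
  exact congrFun (T.tvec_congr h2.symm _ _) i

theorem dlogD_zero [Module K N] (p : SpecOver K S ⟶ A) :
    T.dlogD (0 : Derivation K S N) p = 0 := by
  have : del (0 : Derivation K S N) p = 1 := by
    rw [del, SZ.ofDer_zero, mul_inv_cancel]
  rw [dlogD, T.tvec_congr this _ (MonObj.comp_one _), T.tvec_one]

theorem dlogD_mul [IsCommMonObj A] [Module K N] (D : Derivation K S N)
    (p q : SpecOver K S ⟶ A) : T.dlogD D (p * q) = T.dlogD D p + T.dlogD D q := by
  have hcomm : ∀ x y : SpecOver K (SZ S N) ⟶ A, x * y = y * x := fun x y => mul_comm x y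
  have h1 : del D (p * q) = del D p * del D q := by
    simp only [del, MonObj.comp_mul, mul_inv_rev]
    generalize specMap (SZ.ofDer D) ≫ p = a
    generalize specMap (SZ.ofDer D) ≫ q = b
    generalize (specMap (SZ.inl K S N) ≫ q)⁻¹ = c
    generalize (specMap (SZ.inl K S N) ≫ p)⁻¹ = d
    rw [_root_.mul_assoc, _root_.mul_assoc, hcomm c d, ← _root_.mul_assoc b, hcomm b d,
      _root_.mul_assoc]
  rw [dlogD, T.tvec_congr h1 _ (mul_mem (del_mem D p) (del_mem D q)),
    T.tvec_mul (del_mem D p) (del_mem D q)]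
  rfl

theorem dlogD_one [Module K N] (D : Derivation K S N) :
    T.dlogD D (1 : SpecOver K S ⟶ A) = 0 := by
  have : del D (1 : SpecOver K S ⟶ A) = 1 := by
    rw [del, MonObj.comp_one, MonObj.comp_one, inv_one, _root_.mul_one]
  rw [dlogD, T.tvec_congr this _ (MonObj.comp_one _), T.tvec_one]

theorem dlogD_inv [IsCommMonObj A] [Module K N] (D : Derivation K S N)
    (p : SpecOver K S ⟶ A) : T.dlogD D p⁻¹ = - T.dlogD D p := by
  rw [eq_neg_iff_add_eq_zero, ← dlogD_mul, inv_mul_cancel, dlogD_one]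

/-- For an open immersion `j : Spec B ⟶ A` a derivation of `B` is determined by the logarithmic
derivatives of the tautological point. -/
theorem dlogD_injective {B : Type u} [CommRing B] [Algebra K B] (j : SpecOver K B ⟶ A)
    [Mono j.left] [Module B N] [Module K N] {D D' : Derivation K B N}
    (h : T.dlogD D j = T.dlogD D' j) : D = D' := by
  have h1 : del D j = del D' j := T.tvec_injective _ _ h
  have h2 : specMap (SZ.ofDer D) ≫ j = specMap (SZ.ofDer D') ≫ j := mul_right_cancel h1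
  have h3 := specMap_comp_injective j h2
  ext s
  have h4 := congrArg SZ.snd (DFunLike.congr_fun h3 s)
  exact h4

theorem exists_dlogD_eq {B : Type u} [CommRing B] [Algebra K B] (j : SpecOver K B ⟶ A)
    [IsOpenImmersion j.left] [Module B N] [Module K N] [IsScalarTower K B N]
    (n : Fin T.C.d → N) : ∃ D : Derivation K B N, T.dlogD D j = n := by
  obtain ⟨q, hq, rfl⟩ := T.exists_tvec_eq (S := B) n
  let P : SpecOver K (SZ B N) ⟶ A := q * (specMap (SZ.inl K B N) ≫ j)
  have hP : specMap (SZ.pr K B N) ≫ P = specMap (AlgHom.id K B) ≫ j := by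
    change specMap (SZ.pr K B N) ≫ (q * (specMap (SZ.inl K B N) ≫ j)) = _
    rw [MonObj.comp_mul, hq, _root_.one_mul, ← Category.assoc, ← specMap_comp, SZ.pr_comp_inl]
  obtain ⟨φ, hφ, hφ'⟩ := exists_lift_SZ j P (AlgHom.id K B) hP
  refine ⟨SZ.toDer φ hφ, ?_⟩
  have : del (SZ.toDer φ hφ) j = q := by
    rw [del, SZ.ofDer_toDer, hφ']
    exact mul_inv_cancel_right q _
  exact T.tvec_congr this _ _

end TanChart

end Groth.Agent.Sga7.H244
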