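import Groth.Agent.Sga7.H244.MinIdx

/-!
# Extension of translations and products with minimal index is smooth
-/

set_option autoImplicit false

universe u v

open CategoryTheory CategoryTheory.Limits MonoidalCategory CartesianMonoidalCategory AlgebraicGeometry
  MonObj KaehlerDifferential

namespace Groth.Agent.Sga7.H244

open Index

variable {R K : Type u} [CommRing R] [IsDomain R] [IsDiscreteValuationRing R] [Field K] [Algebra R K]
  [IsFractionRing R K] {A : Over (Spec (CommRingCat.of K))} [GrpObj A] [IsCommMonObj A]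
  (T : TanChart A) {ϖ : R} (hϖ : Irreducible ϖ)

include hϖ in
theorem exists_smooth_away_of_minimal {Q B P D : Type u} [CommRing Q] [CommRing B] [CommRing P] [CommRing D]
    [Algebra R Q] [Algebra R B] [Algebra R P] [Algebra R D] [Algebra Q P] [Algebra B P]
    [IsScalarTower R Q P] [IsScalarTower R B P] [Algebra.IsPushout R Q B P]
    [Algebra Q D] [Algebra B D] [Algebra P D] [IsScalarTower R Q D] [IsScalarTower R B D]
    [IsScalarTower R P D] [IsScalarTower Q P D] [IsScalarTower B P D]
    [Algebra.Smooth R B] [Algebra.FiniteType R P] [Algebra.FiniteType R D]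
    [Module.Flat R D] (ζ : Ideal D) [ζ.IsPrime] (hζ : algebraMap R D ϖ ∈ ζ)
    [Algebra.FormallySmooth Q (Localization.AtPrime ζ)]
    (p : SpecOver K (G R K B) ⟶ A) [IsOpenImmersion p.left]
    (q : SpecOver K (G R K Q) ⟶ A)
    (p' : SpecOver K (G R K (Localization.AtPrime ζ)) ⟶ A)
    (hp : res (S' := G R K (Localization.AtPrime ζ)) p = p' * res q) (n₀ : ℤ)
    (hlow : ∀ (y : Ideal B) [y.IsPrime] (_ : algebraMap R B ϖ ∈ y) (n : ℤ),
        PIdx T ϖ p y n → n₀ ≤ n)
    (hn' : HasIdx Q (G R K Q) (Localization.AtPrime ζ) (G R K (Localization.AtPrime ζ))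
      (algebraMap R Q ϖ) (T.dlog (G R K Q) p') n₀) :
    PIdx T ϖ p (ζ.comap (algebraMap B D)) n₀ ∧
      ∃ h ∉ ζ, Algebra.Smooth P (Localization.Away h) := by
  let y : Ideal B := ζ.comap (algebraMap B D)
  have hy : algebraMap R B ϖ ∈ y := by
    change algebraMap B D (algebraMap R B ϖ) ∈ ζ
    rw [← IsScalarTower.algebraMap_apply]
    exact hζ
  let O := Localization.AtPrime y
  let W := Localization.AtPrime ζ
  let _ : Algebra O W := (Localization.localRingHom y ζ (algebraMap B D) rfl).toAlgebra
  have t1 : IsScalarTower B O W := IsScalarTower.of_algebraMap_eq fun x => by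
    rw [IsScalarTower.algebraMap_apply B D W]
    exact (Localization.localRingHom_to_map y ζ (algebraMap B D) rfl x).symm
  have t2 : IsScalarTower R O W := IsScalarTower.of_algebraMap_eq fun x => by
    rw [IsScalarTower.algebraMap_apply R B O, ← IsScalarTower.algebraMap_apply B O W,
      ← IsScalarTower.algebraMap_apply R B W]
  have hfl : Module.Flat R W := flat_atPrime ζ W
  have hW : ¬ IsUnit (algebraMap R W ϖ) := not_isUnit_atPrime ζ W hζ
  obtain ⟨n, hn⟩ := exists_PIdx T hϖ p y hy
  have hcore := core T hϖ (Q := Q) (O := O) (B := B) (W := W) hW p q p' hp hn hn'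
  have hneq : n = n₀ := le_antisymm hcore.1 (hlow y hy n hn)
  refine ⟨by rw [← hneq]; exact hn, ?_⟩
  have h1 : KB R Q O W := hcore.2 hneq
  have hfe : Algebra.FormallyEtale B O := Algebra.FormallyEtale.of_isLocalization y.primeCompl
  have h2 : KB R R B O := KB.of_formallyEtale R B O
  have h3 : KB R Q B W := KB.trans h2 h1
  have h4 : KB R Q B P := KB.of_isPushout R Q B P
  have h5 : KB Q Q P W := KB.of_trans h4 h3
  have hnoP : IsNoetherianRing P := Algebra.FiniteType.isNoetherianRing R P
  have hftD : Algebra.FiniteType P D := Algebra.FiniteType.of_restrictScalars_finiteType R P D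
  have hfpD : Algebra.FinitePresentation P D := Algebra.FinitePresentation.of_finiteType.mp hftD
  exact exists_smooth_away Q P D ζ h5.bijective_mapBaseChange

end Groth.Agent.Sga7.H244
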