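import Mathlib.RingTheory.IsTensorProduct
import Mathlib.RingTheory.TensorProduct.Basic
import Mathlib.RingTheory.Flat.Basic
import Mathlib.RingTheory.Localization.BaseChange
import Mathlib.RingTheory.Localization.FractionRing

/-!
# The generic fibre `G R K B = K ⊗[R] B` of an `R`-algebra, with its algebra structures
-/

set_option autoImplicit false

open TensorProduct

namespace Groth.Agent.Sga7.H244

/-- `K ⊗[R] B` (a type synonym which carries the algebra structures over `K` and over every ring `P`
over which `B` is an algebra). -/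
def G (R K B : Type*) [CommRing R] [CommRing K] [CommRing B] [Algebra R K] [Algebra R B] : Type _ :=
  K ⊗[R] B

namespace G

variable (R K B : Type*) [CommRing R] [CommRing K] [CommRing B] [Algebra R K] [Algebra R B]

noncomputable instance : CommRing (G R K B) := inferInstanceAs (CommRing (K ⊗[R] B))

noncomputable instance algK : Algebra K (G R K B) := inferInstanceAs (Algebra K (K ⊗[R] B))

/-- The map `B ⟶ K ⊗ B`. -/
noncomputable def inr : B →+* G R K B :=
  (Algebra.TensorProduct.includeRight : B →ₐ[R] K ⊗[R] B).toRingHom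

noncomputable instance algP {P : Type*} [CommRing P] [Algebra P B] : Algebra P (G R K B) :=
  ((inr R K B).comp (algebraMap P B)).toAlgebra

theorem algebraMap_P {P : Type*} [CommRing P] [Algebra P B] (x : P) :
    algebraMap P (G R K B) x = inr R K B (algebraMap P B x) := rfl

theorem algebraMap_self (x : B) : algebraMap B (G R K B) x = inr R K B x := rfl

theorem algebraMap_K (x : K) : algebraMap K (G R K B) x = (x ⊗ₜ[R] (1 : B) : K ⊗[R] B) := rfl

instance tower {P Q : Type*} [CommRing P] [CommRing Q] [Algebra P Q] [Algebra P B] [Algebra Q B]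
    [IsScalarTower P Q B] : IsScalarTower P Q (G R K B) :=
  IsScalarTower.of_algebraMap_eq fun x => by
    rw [algebraMap_P, algebraMap_P, ← IsScalarTower.algebraMap_apply]

instance towerK : IsScalarTower R K (G R K B) :=
  IsScalarTower.of_algebraMap_eq fun x => by
    rw [algebraMap_P, algebraMap_K]
    change (1 : K) ⊗ₜ[R] (algebraMap R B x) = (algebraMap R K x) ⊗ₜ[R] (1 : B)
    rw [Algebra.algebraMap_eq_smul_one, Algebra.algebraMap_eq_smul_one, TensorProduct.smul_tmul]

/-- The identity map `K ⊗[R] B ≃ G R K B`. -/
noncomputable def equiv : K ⊗[R] B ≃ₗ[K] G R K B := LinearEquiv.refl K (K ⊗[R] B)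

theorem equiv_one_tmul (x : B) : equiv R K B (1 ⊗ₜ[R] x) = inr R K B x := rfl

instance pushout : Algebra.IsPushout R K B (G R K B) where
  out := IsBaseChange.of_equiv (equiv R K B) fun x => equiv_one_tmul R K B x

instance pushout' : Algebra.IsPushout R B K (G R K B) := Algebra.IsPushout.symm inferInstance

section Map

variable {B} (B' : Type*) [CommRing B'] [Algebra R B'] [Algebra B B'] [IsScalarTower R B B']

/-- The algebra map `K ⊗ B ⟶ K ⊗ B'`. -/
noncomputable def mapHom : G R K B →ₐ[K] G R K B' :=
  (Algebra.TensorProduct.map (AlgHom.id K K) (IsScalarTower.toAlgHom R B B') :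
    K ⊗[R] B →ₐ[K] K ⊗[R] B')

noncomputable instance algG : Algebra (G R K B) (G R K B') := (mapHom R K B').toRingHom.toAlgebra

theorem algebraMap_G (x : G R K B) : algebraMap (G R K B) (G R K B') x = mapHom R K B' x := rfl

theorem mapHom_inr (x : B) : mapHom R K B' (inr R K B x) = inr R K B' (algebraMap B B' x) := by
  change Algebra.TensorProduct.map (AlgHom.id K K) (IsScalarTower.toAlgHom R B B')
    ((1 : K) ⊗ₜ[R] x) = (1 : K) ⊗ₜ[R] _
  rw [Algebra.TensorProduct.map_tmul]
  rfl

instance towerG : IsScalarTower K (G R K B) (G R K B') :=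
  IsScalarTower.of_algebraMap_eq fun x => ((mapHom R K B').commutes x).symm

instance towerP {P : Type*} [CommRing P] [Algebra P B] [Algebra P B'] [IsScalarTower P B B'] :
    IsScalarTower P (G R K B) (G R K B') :=
  IsScalarTower.of_algebraMap_eq fun x => by
    rw [algebraMap_G, algebraMap_P, algebraMap_P, mapHom_inr, ← IsScalarTower.algebraMap_apply]

instance towerGG (B'' : Type*) [CommRing B''] [Algebra R B''] [Algebra B' B''] [IsScalarTower R B' B'']
    [Algebra B B''] [IsScalarTower R B B''] [IsScalarTower B B' B''] :
    IsScalarTower (G R K B) (G R K B') (G R K B'') :=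
  IsScalarTower.of_algebraMap_eq' (by
    have key : mapHom R K (B := B) B'' = (mapHom R K (B := B') B'').comp (mapHom R K (B := B) B') := by
      refine Algebra.TensorProduct.ext' fun k b => ?_
      change Algebra.TensorProduct.map (AlgHom.id K K) (IsScalarTower.toAlgHom R B B'') (k ⊗ₜ[R] b) =
        Algebra.TensorProduct.map (AlgHom.id K K) (IsScalarTower.toAlgHom R B' B'')
          (Algebra.TensorProduct.map (AlgHom.id K K) (IsScalarTower.toAlgHom R B B') (k ⊗ₜ[R] b))
      rw [Algebra.TensorProduct.map_tmul, Algebra.TensorProduct.map_tmul,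
        Algebra.TensorProduct.map_tmul]
      change _ ⊗ₜ[R] (algebraMap B B'' b) = _ ⊗ₜ[R] (algebraMap B' B'' (algebraMap B B' b))
      rw [← IsScalarTower.algebraMap_apply]
      rfl
    exact congrArg (fun f : G R K B →ₐ[K] G R K B'' => f.toRingHom) key)

instance pushoutG : Algebra.IsPushout B B' (G R K B) (G R K B') :=
  (Algebra.IsPushout.comp_iff R B K (G R K B) (T := B') (T' := G R K B')).mp inferInstance

instance pushoutG' : Algebra.IsPushout B (G R K B) B' (G R K B') :=
  Algebra.IsPushout.symm inferInstance

end Map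

end G

end Groth.Agent.Sga7.H244
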