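import Groth.Agent.Sga7.H244.RingChart
import Mathlib.AlgebraicGeometry.PullbackCarrier
import Mathlib.AlgebraicGeometry.Morphisms.Flat

/-!
# Partial group laws and translations between charts: formal operations
-/

set_option autoImplicit false

universe u v

open CategoryTheory CategoryTheory.Limits MonoidalCategory CartesianMonoidalCategory AlgebraicGeometry
  MonObj

namespace Groth.Agent.Sga7.H244

open Charts

section Sec

variable {S X₁ X₂ U : Scheme.{u}} (x₁ : X₁ ⟶ S) (x₂ : X₂ ⟶ S)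

theorem sec_fst_aux (a : S ⟶ X₁) (ha : a ≫ x₁ = 𝟙 S) : (x₂ ≫ a) ≫ x₁ = 𝟙 X₂ ≫ x₂ := by
  rw [Category.assoc, ha, Category.comp_id, Category.id_comp]

theorem sec_snd_aux (b : S ⟶ X₂) (hb : b ≫ x₂ = 𝟙 S) : 𝟙 X₁ ≫ x₁ = (x₁ ≫ b) ≫ x₂ := by
  rw [Category.assoc, hb, Category.comp_id, Category.id_comp]

/-- Restriction of `w : U ⟶ X₁ × X₂` to the fibre over a section of `X₁`. -/
theorem isPullback_section_fst (w : U ⟶ pullback x₁ x₂) (a : S ⟶ X₁) (ha : a ≫ x₁ = 𝟙 S) :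
    IsPullback (pullback.fst (w ≫ pullback.fst x₁ x₂) a)
      (pullback.fst (w ≫ pullback.fst x₁ x₂) a ≫ w ≫ pullback.snd x₁ x₂)
      w (pullback.lift (x₂ ≫ a) (𝟙 X₂) (sec_fst_aux x₁ x₂ a ha)) := by
  let Z := pullback (w ≫ pullback.fst x₁ x₂) a
  let zf : Z ⟶ U := pullback.fst _ _
  let zs : Z ⟶ S := pullback.snd _ _
  have hz : zf ≫ w ≫ pullback.fst x₁ x₂ = zs ≫ a := pullback.condition
  have hzs : zs = zf ≫ w ≫ pullback.fst x₁ x₂ ≫ x₁ := by
    have := congrArg (· ≫ x₁) hz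
    simp only [Category.assoc, ha, Category.comp_id] at this
    exact this.symm
  have hc := pullback.condition (f := x₁) (g := x₂)
  refine ⟨⟨?_⟩, ⟨PullbackCone.IsLimit.mk _ (fun s => pullback.lift s.fst (s.snd ≫ x₂) ?_) ?_ ?_ ?_⟩⟩
  · apply pullback.hom_ext
    · change (zf ≫ w) ≫ pullback.fst x₁ x₂ = ((zf ≫ w ≫ pullback.snd x₁ x₂) ≫ pullback.lift _ _ _) ≫
        pullback.fst x₁ x₂
      rw [Category.assoc, hz, Category.assoc, pullback.lift_fst, Category.assoc, Category.assoc,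
        ← reassoc_of% hc, reassoc_of% hz, reassoc_of% ha]
    · change (zf ≫ w) ≫ pullback.snd x₁ x₂ = ((zf ≫ w ≫ pullback.snd x₁ x₂) ≫ pullback.lift _ _ _) ≫
        pullback.snd x₁ x₂
      rw [Category.assoc, Category.assoc, pullback.lift_snd, Category.comp_id]
  · have h1 := congrArg (· ≫ pullback.fst x₁ x₂) s.condition
    simp only [Category.assoc, pullback.lift_fst] at h1
    rw [h1, Category.assoc]
  · intro s
    exact pullback.lift_fst _ _ _
  · intro s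
    have h1 := congrArg (· ≫ pullback.snd x₁ x₂) s.condition
    simp only [Category.assoc, pullback.lift_snd, Category.comp_id] at h1
    rw [pullback.lift_fst_assoc, h1]
  · intro s m hm1 hm2
    apply pullback.hom_ext
    · rw [pullback.lift_fst, hm1]
    · rw [pullback.lift_snd]
      change m ≫ zs = _
      have h1 : m ≫ zf = s.fst := hm1
      have h2 := congrArg (· ≫ pullback.fst x₁ x₂) s.condition
      simp only [Category.assoc, pullback.lift_fst] at h2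
      rw [hzs, reassoc_of% h1, reassoc_of% h2, ha, Category.comp_id]

/-- Restriction of `w : U ⟶ X₁ × X₂` to the fibre over a section of `X₂`. -/
theorem isPullback_section_snd (w : U ⟶ pullback x₁ x₂) (b : S ⟶ X₂) (hb : b ≫ x₂ = 𝟙 S) :
    IsPullback (pullback.fst (w ≫ pullback.snd x₁ x₂) b)
      (pullback.fst (w ≫ pullback.snd x₁ x₂) b ≫ w ≫ pullback.fst x₁ x₂)
      w (pullback.lift (𝟙 X₁) (x₁ ≫ b) (sec_snd_aux x₁ x₂ b hb)) := by
  let Z := pullback (w ≫ pullback.snd x₁ x₂) b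
  let zf : Z ⟶ U := pullback.fst _ _
  let zs : Z ⟶ S := pullback.snd _ _
  have hz : zf ≫ w ≫ pullback.snd x₁ x₂ = zs ≫ b := pullback.condition
  have hzs : zs = zf ≫ w ≫ pullback.snd x₁ x₂ ≫ x₂ := by
    have := congrArg (· ≫ x₂) hz
    simp only [Category.assoc, hb, Category.comp_id] at this
    exact this.symm
  have hc := pullback.condition (f := x₁) (g := x₂)
  refine ⟨⟨?_⟩, ⟨PullbackCone.IsLimit.mk _ (fun s => pullback.lift s.fst (s.snd ≫ x₁) ?_) ?_ ?_ ?_⟩⟩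
  · apply pullback.hom_ext
    · change (zf ≫ w) ≫ pullback.fst x₁ x₂ = ((zf ≫ w ≫ pullback.fst x₁ x₂) ≫ pullback.lift _ _ _) ≫
        pullback.fst x₁ x₂
      rw [Category.assoc, Category.assoc, pullback.lift_fst, Category.comp_id]
    · change (zf ≫ w) ≫ pullback.snd x₁ x₂ = ((zf ≫ w ≫ pullback.fst x₁ x₂) ≫ pullback.lift _ _ _) ≫
        pullback.snd x₁ x₂
      rw [Category.assoc, hz, Category.assoc, pullback.lift_snd, Category.assoc, Category.assoc,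
        reassoc_of% hc, reassoc_of% hz, reassoc_of% hb]
  · have h1 := congrArg (· ≫ pullback.snd x₁ x₂) s.condition
    simp only [Category.assoc, pullback.lift_snd] at h1
    rw [h1, Category.assoc]
  · intro s
    exact pullback.lift_fst _ _ _
  · intro s
    have h1 := congrArg (· ≫ pullback.fst x₁ x₂) s.condition
    simp only [Category.assoc, pullback.lift_fst, Category.comp_id] at h1
    rw [pullback.lift_fst_assoc, h1]
  · intro s m hm1 hm2
    apply pullback.hom_ext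
    · rw [pullback.lift_fst, hm1]
    · rw [pullback.lift_snd]
      change m ≫ zs = _
      have h1 : m ≫ zf = s.fst := hm1
      have h2 := congrArg (· ≫ pullback.snd x₁ x₂) s.condition
      simp only [Category.assoc, pullback.lift_snd] at h2
      rw [hzs, reassoc_of% h1, reassoc_of% h2, hb, Category.comp_id]

theorem isOpenImmersion_section_fst (w : U ⟶ pullback x₁ x₂) [IsOpenImmersion w] (a : S ⟶ X₁)
    (ha : a ≫ x₁ = 𝟙 S) : IsOpenImmersion
      (pullback.fst (w ≫ pullback.fst x₁ x₂) a ≫ w ≫ pullback.snd x₁ x₂) :=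
  MorphismProperty.of_isPullback (isPullback_section_fst x₁ x₂ w a ha) ‹_›

theorem isOpenImmersion_section_snd (w : U ⟶ pullback x₁ x₂) [IsOpenImmersion w] (b : S ⟶ X₂)
    (hb : b ≫ x₂ = 𝟙 S) : IsOpenImmersion
      (pullback.fst (w ≫ pullback.snd x₁ x₂) b ≫ w ≫ pullback.fst x₁ x₂) :=
  MorphismProperty.of_isPullback (isPullback_section_snd x₁ x₂ w b hb) ‹_›

theorem isOpenImmersion_section_fst' (w : U ⟶ pullback x₁ x₂) [IsOpenImmersion w] {f : U ⟶ X₁}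
    {g : U ⟶ X₂} (hf : w ≫ pullback.fst x₁ x₂ = f) (hg : w ≫ pullback.snd x₁ x₂ = g) (a : S ⟶ X₁)
    (ha : a ≫ x₁ = 𝟙 S) : IsOpenImmersion (pullback.fst f a ≫ g) := by
  subst hf hg
  exact isOpenImmersion_section_fst x₁ x₂ w a ha

theorem isOpenImmersion_section_snd' (w : U ⟶ pullback x₁ x₂) [IsOpenImmersion w] {f : U ⟶ X₁}
    {g : U ⟶ X₂} (hf : w ≫ pullback.fst x₁ x₂ = f) (hg : w ≫ pullback.snd x₁ x₂ = g) (b : S ⟶ X₂)
    (hb : b ≫ x₂ = 𝟙 S) : IsOpenImmersion (pullback.fst g b ≫ f) := by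
  subst hf hg
  exact isOpenImmersion_section_snd x₁ x₂ w b hb

end Sec

section Rel

variable {R K : Type u} [CommRing R] [IsLocalRing R] [Field K] [Algebra R K]
  {A : Over (Spec (CommRingCat.of K))}

/-- `ξ` is the generic point of the (irreducible, non-empty) special fibre. -/
def Irr (C : Chart R K A) (ξ : C.X) : Prop :=
  C.x ξ = IsLocalRing.closedPoint R ∧ ∀ y : C.X, C.x y = IsLocalRing.closedPoint R → ξ ⤳ y

/-- Two charts are related by the natural transformation `F` of the functor of points. -/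
structure Rel (C₁ C₂ : Chart R K A)
    (F : ∀ T : Over (Spec (CommRingCat.of K)), (T ⟶ A) → (T ⟶ A)) where
  Z : Scheme.{u}
  j₁ : Z ⟶ C₁.X
  j₂ : Z ⟶ C₂.X
  open₁ : IsOpenImmersion j₁
  open₂ : IsOpenImmersion j₂
  w : j₁ ≫ C₁.x = j₂ ≫ C₂.x
  ex : ∃ z : Z, C₁.x (j₁ z) = IsLocalRing.closedPoint R
  pt : ∀ (T : Over (Spec (CommRingCat.of K))) (t : T.left ⟶ Z)
    (h₁ : (t ≫ j₁) ≫ C₁.x = T.hom ≫ gen R K) (h₂ : (t ≫ j₂) ≫ C₂.x = T.hom ≫ gen R K),
    C₂.pt (t ≫ j₂) h₂ = F T (C₁.pt (t ≫ j₁) h₁)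

attribute [instance] Rel.open₁ Rel.open₂

variable {C₁ C₂ C₃ : Chart R K A} {F G : ∀ T : Over (Spec (CommRingCat.of K)), (T ⟶ A) → (T ⟶ A)}

theorem Rel.ex₂ (r : Rel C₁ C₂ F) : ∃ z : r.Z, C₂.x (r.j₂ z) = IsLocalRing.closedPoint R := by
  obtain ⟨z, hz⟩ := r.ex
  refine ⟨z, ?_⟩
  rw [← Scheme.Hom.comp_apply, ← r.w, Scheme.Hom.comp_apply, hz]

/-- Change of the transformation. -/
def Rel.congr (r : Rel C₁ C₂ F) (h : ∀ T x, F T x = G T x) : Rel C₁ C₂ G where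
  __ := r
  pt T t h₁ h₂ := (r.pt T t h₁ h₂).trans (h _ _)

/-- Inverse relation. -/
def Rel.symm (r : Rel C₁ C₂ F) (h : ∀ T x, G T (F T x) = x) : Rel C₂ C₁ G where
  Z := r.Z
  j₁ := r.j₂
  j₂ := r.j₁
  open₁ := r.open₂
  open₂ := r.open₁
  w := r.w.symm
  ex := r.ex₂
  pt T t h₁ h₂ := by rw [r.pt T t h₂ h₁, h]

/-- Composition of relations. -/
noncomputable def Rel.comp (r : Rel C₁ C₂ F) (s : Rel C₂ C₃ G)
    (hex : ∃ (z : r.Z) (z' : s.Z), r.j₂ z = s.j₁ z' ∧ C₂.x (r.j₂ z) = IsLocalRing.closedPoint R) :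
    Rel C₁ C₃ (fun T x => G T (F T x)) where
  Z := pullback r.j₂ s.j₁
  j₁ := pullback.fst _ _ ≫ r.j₁
  j₂ := pullback.snd _ _ ≫ s.j₂
  open₁ := inferInstance
  open₂ := inferInstance
  w := by
    rw [Category.assoc, Category.assoc, r.w, ← s.w, pullback.condition_assoc]
  ex := by
    obtain ⟨z, z', h, hz⟩ := hex
    obtain ⟨y, hy1, hy2⟩ := Scheme.Pullback.exists_preimage_pullback z z' h
    refine ⟨y, ?_⟩
    rw [Scheme.Hom.comp_apply, hy1, ← Scheme.Hom.comp_apply, r.w, Scheme.Hom.comp_apply, hz]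
  pt T t h₁ h₂ := by
    have e1 : (t ≫ pullback.fst r.j₂ s.j₁) ≫ r.j₁ = t ≫ pullback.fst _ _ ≫ r.j₁ := Category.assoc _ _ _
    have e2 : (t ≫ pullback.snd r.j₂ s.j₁) ≫ s.j₂ = t ≫ pullback.snd _ _ ≫ s.j₂ := Category.assoc _ _ _
    have e3 : (t ≫ pullback.fst r.j₂ s.j₁) ≫ r.j₂ = (t ≫ pullback.snd r.j₂ s.j₁) ≫ s.j₁ := by
      rw [Category.assoc, Category.assoc, pullback.condition]
    have k1 : ((t ≫ pullback.fst r.j₂ s.j₁) ≫ r.j₁) ≫ C₁.x = T.hom ≫ gen R K := by rw [e1, h₁]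
    have k2 : ((t ≫ pullback.snd r.j₂ s.j₁) ≫ s.j₂) ≫ C₃.x = T.hom ≫ gen R K := by rw [e2, h₂]
    have k3 : ((t ≫ pullback.fst r.j₂ s.j₁) ≫ r.j₂) ≫ C₂.x = T.hom ≫ gen R K := by
      rw [Category.assoc _ r.j₂, ← r.w, ← Category.assoc, k1]
    have k4 : ((t ≫ pullback.snd r.j₂ s.j₁) ≫ s.j₁) ≫ C₂.x = T.hom ≫ gen R K := by rw [← e3, k3]
    rw [← pt_congr C₃ e2 k2 h₂, s.pt T _ k4 k2, ← pt_congr C₂ e3 k3 k4, r.pt T _ k1 k3,
      pt_congr C₁ e1 k1 h₁]

/-- Composition of relations when the middle chart has irreducible special fibre. -/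
noncomputable def Rel.trans (r : Rel C₁ C₂ F) (s : Rel C₂ C₃ G) {ξ : C₂.X} (hξ : Irr C₂ ξ) :
    Rel C₁ C₃ (fun T x => G T (F T x)) :=
  r.comp s (by
    obtain ⟨z, hz⟩ := r.ex₂
    obtain ⟨z', hz'⟩ := s.ex
    obtain ⟨y, hy⟩ := (hξ.2 _ hz).mem_open r.j₂.isOpenEmbedding.isOpen_range ⟨z, rfl⟩
    obtain ⟨y', hy'⟩ := (hξ.2 _ hz').mem_open s.j₁.isOpenEmbedding.isOpen_range ⟨z', rfl⟩
    exact ⟨y, y', hy.trans hy'.symm, by rw [hy]; exact hξ.1⟩)

end Rel

end Groth.Agent.Sga7.H244
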