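import Groth.Agent.Sga7.H244.Laws
import Mathlib.AlgebraicGeometry.Morphisms.Smooth

/-!
# Partial group laws between charts: target change, sections, twisting
-/

set_option autoImplicit false

universe u v

open CategoryTheory CategoryTheory.Limits MonoidalCategory CartesianMonoidalCategory AlgebraicGeometry
  MonObj

namespace Groth.Agent.Sga7.H244

open Charts

section Law

variable {R K : Type u} [CommRing R] [IsLocalRing R] [Field K] [Algebra R K]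
  {A : Over (Spec (CommRingCat.of K))} [GrpObj A]

/-- Translation by `c`. -/
noncomputable def tr (c : 𝟙_ (Over (Spec (CommRingCat.of K))) ⟶ A) :
    ∀ T : Over (Spec (CommRingCat.of K)), (T ⟶ A) → (T ⟶ A) := fun T x => x * (toUnit T ≫ c)

/-- Inverse and translation by `c`. -/
noncomputable def iv (c : 𝟙_ (Over (Spec (CommRingCat.of K))) ⟶ A) :
    ∀ T : Over (Spec (CommRingCat.of K)), (T ⟶ A) → (T ⟶ A) := fun T x => x⁻¹ * (toUnit T ≫ c)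

/-- A partial group law `C₁ × C₂ ⇢ C₃`, up to the constant `c`. -/
structure Law (C₁ C₂ C₃ : Chart R K A) (c : 𝟙_ (Over (Spec (CommRingCat.of K))) ⟶ A) where
  U : Scheme.{u}
  u₁ : U ⟶ C₁.X
  u₂ : U ⟶ C₂.X
  m : U ⟶ C₃.X
  w₁₂ : u₁ ≫ C₁.x = u₂ ≫ C₂.x
  w₁₃ : u₁ ≫ C₁.x = m ≫ C₃.x
  w₃₂ : m ≫ C₃.x = u₂ ≫ C₂.x
  ex : ∃ z : U, C₃.x (m z) = IsLocalRing.closedPoint R
  open₁₂ : IsOpenImmersion (pullback.lift u₁ u₂ w₁₂)
  open₁₃ : IsOpenImmersion (pullback.lift u₁ m w₁₃)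
  open₃₂ : IsOpenImmersion (pullback.lift m u₂ w₃₂)
  pt : ∀ (T : Over (Spec (CommRingCat.of K))) (t : T.left ⟶ U)
    (h₁ : (t ≫ u₁) ≫ C₁.x = T.hom ≫ gen R K) (h₂ : (t ≫ u₂) ≫ C₂.x = T.hom ≫ gen R K)
    (h₃ : (t ≫ m) ≫ C₃.x = T.hom ≫ gen R K),
    C₃.pt (t ≫ m) h₃ = C₁.pt (t ≫ u₁) h₁ * C₂.pt (t ≫ u₂) h₂ * (toUnit T ≫ c)

attribute [instance] Law.open₁₂ Law.open₁₃ Law.open₃₂

variable {C₁ C₂ C₃ C₄ : Chart R K A} {c d : 𝟙_ (Over (Spec (CommRingCat.of K))) ⟶ A}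

theorem comp_lift_eq {S X Y U V : Scheme.{u}} (x : X ⟶ S) (y : Y ⟶ S) (k : V ⟶ U) (f : U ⟶ X)
    (g : U ⟶ Y) (h : f ≫ x = g ≫ y) {f' : V ⟶ X} {g' : V ⟶ Y} (h' : f' ≫ x = g' ≫ y)
    (hf : f' = k ≫ f) (hg : g' = k ≫ g) :
    pullback.lift f' g' h' = k ≫ pullback.lift f g h := by
  apply pullback.hom_ext
  · rw [pullback.lift_fst, Category.assoc, pullback.lift_fst, hf]
  · rw [pullback.lift_snd, Category.assoc, pullback.lift_snd, hg]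

theorem lift_map_eq {S X Y X' Y' S' U : Scheme.{u}} (x : X ⟶ S) (y : Y ⟶ S) (x' : X' ⟶ S')
    (y' : Y' ⟶ S') (a : X ⟶ X') (b : Y ⟶ Y') (s : S ⟶ S') (ha : x ≫ s = a ≫ x') (hb : y ≫ s = b ≫ y')
    (f : U ⟶ X) (g : U ⟶ Y) (h : f ≫ x = g ≫ y) {f' : U ⟶ X'} {g' : U ⟶ Y'}
    (h' : f' ≫ x' = g' ≫ y') (hf : f ≫ a = f') (hg : g ≫ b = g') :
    pullback.lift f g h ≫ pullback.map x y x' y' a b s ha hb = pullback.lift f' g' h' := by
  apply pullback.hom_ext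
  · rw [pullback.lift_fst, Category.assoc, pullback.lift_fst, ← Category.assoc, pullback.lift_fst, hf]
  · rw [pullback.lift_snd, Category.assoc, pullback.lift_snd, ← Category.assoc, pullback.lift_snd, hg]

theorem isOpenImmersion_change_right {S X₁ X₃ X₄ Z U : Scheme.{u}} (x₁ : X₁ ⟶ S) (x₃ : X₃ ⟶ S)
    (x₄ : X₄ ⟶ S) (j₁ : Z ⟶ X₃) (j₂ : Z ⟶ X₄) [IsOpenImmersion j₁] [IsOpenImmersion j₂]
    (w : j₁ ≫ x₃ = j₂ ≫ x₄) (f : U ⟶ X₁) (g : U ⟶ Z) (h : f ≫ x₁ = g ≫ j₁ ≫ x₃)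
    (hi : IsOpenImmersion (pullback.lift f (g ≫ j₁) (by rw [Category.assoc, h]) : U ⟶ pullback x₁ x₃)) :
    IsOpenImmersion (pullback.lift f (g ≫ j₂) (by rw [Category.assoc, ← w, h]) :
      U ⟶ pullback x₁ x₄) := by
  let l : U ⟶ pullback x₁ (j₁ ≫ x₃) := pullback.lift f g h
  let k₃ : pullback x₁ (j₁ ≫ x₃) ⟶ pullback x₁ x₃ :=
    pullback.map _ _ _ _ (𝟙 _) j₁ (𝟙 _) (by simp) (by simp)
  let k₄ : pullback x₁ (j₁ ≫ x₃) ⟶ pullback x₁ x₄ :=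
    pullback.map _ _ _ _ (𝟙 _) j₂ (𝟙 _) (by simp) (by simp [w])
  have e3 : l ≫ k₃ = pullback.lift f (g ≫ j₁) (by rw [Category.assoc, h]) :=
    lift_map_eq _ _ _ _ _ _ _ _ _ _ _ _ _ (Category.comp_id _) rfl
  have e4 : l ≫ k₄ = pullback.lift f (g ≫ j₂) (by rw [Category.assoc, ← w, h]) :=
    lift_map_eq _ _ _ _ _ _ _ _ _ _ _ _ _ (Category.comp_id _) rfl
  have h3 : IsOpenImmersion k₃ := inferInstance
  have h4 : IsOpenImmersion k₄ := inferInstance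
  have : IsOpenImmersion (l ≫ k₃) := by rw [e3]; exact hi
  have : IsOpenImmersion l := IsOpenImmersion.of_comp l k₃
  rw [← e4]
  infer_instance

theorem isOpenImmersion_change_left {S X₁ X₃ X₄ Z U : Scheme.{u}} (x₁ : X₁ ⟶ S) (x₃ : X₃ ⟶ S)
    (x₄ : X₄ ⟶ S) (j₁ : Z ⟶ X₃) (j₂ : Z ⟶ X₄) [IsOpenImmersion j₁] [IsOpenImmersion j₂]
    (w : j₁ ≫ x₃ = j₂ ≫ x₄) (f : U ⟶ X₁) (g : U ⟶ Z) (h : g ≫ j₁ ≫ x₃ = f ≫ x₁)
    (hi : IsOpenImmersion (pullback.lift (g ≫ j₁) f (by rw [Category.assoc, h]) : U ⟶ pullback x₃ x₁)) :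
    IsOpenImmersion (pullback.lift (g ≫ j₂) f (by rw [Category.assoc, ← w, h]) :
      U ⟶ pullback x₄ x₁) := by
  let l : U ⟶ pullback (j₁ ≫ x₃) x₁ := pullback.lift g f h
  let k₃ : pullback (j₁ ≫ x₃) x₁ ⟶ pullback x₃ x₁ :=
    pullback.map _ _ _ _ j₁ (𝟙 _) (𝟙 _) (by simp) (by simp)
  let k₄ : pullback (j₁ ≫ x₃) x₁ ⟶ pullback x₄ x₁ :=
    pullback.map _ _ _ _ j₂ (𝟙 _) (𝟙 _) (by simp [w]) (by simp)
  have e3 : l ≫ k₃ = pullback.lift (g ≫ j₁) f (by rw [Category.assoc, h]) :=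
    lift_map_eq _ _ _ _ _ _ _ _ _ _ _ _ _ rfl (Category.comp_id _)
  have e4 : l ≫ k₄ = pullback.lift (g ≫ j₂) f (by rw [Category.assoc, ← w, h]) :=
    lift_map_eq _ _ _ _ _ _ _ _ _ _ _ _ _ rfl (Category.comp_id _)
  have h3 : IsOpenImmersion k₃ := inferInstance
  have h4 : IsOpenImmersion k₄ := inferInstance
  have : IsOpenImmersion (l ≫ k₃) := by rw [e3]; exact hi
  have : IsOpenImmersion l := IsOpenImmersion.of_comp l k₃
  rw [← e4]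
  infer_instance

/-- Composition of a law with a relation on the target. -/
noncomputable def Law.target (L : Law C₁ C₂ C₃ c) (r : Rel C₃ C₄ (tr d))
    (hex : ∃ (z : L.U) (z' : r.Z), L.m z = r.j₁ z' ∧ C₃.x (L.m z) = IsLocalRing.closedPoint R) :
    Law C₁ C₂ C₄ (c * d) where
  U := pullback L.m r.j₁
  u₁ := pullback.fst _ _ ≫ L.u₁
  u₂ := pullback.fst _ _ ≫ L.u₂
  m := pullback.snd _ _ ≫ r.j₂
  w₁₂ := by rw [Category.assoc, L.w₁₂, Category.assoc]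
  w₁₃ := by rw [Category.assoc, L.w₁₃, Category.assoc, ← r.w, pullback.condition_assoc]
  w₃₂ := by rw [Category.assoc, ← r.w, ← pullback.condition_assoc, L.w₃₂, Category.assoc]
  ex := by
    obtain ⟨z, z', h, hz⟩ := hex
    obtain ⟨y, hy1, hy2⟩ := Scheme.Pullback.exists_preimage_pullback z z' h
    refine ⟨y, ?_⟩
    rw [Scheme.Hom.comp_apply, hy2, ← Scheme.Hom.comp_apply, ← r.w, Scheme.Hom.comp_apply, ← h, hz]
  open₁₂ := by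
    rw [comp_lift_eq C₁.x C₂.x (pullback.fst L.m r.j₁) L.u₁ L.u₂ L.w₁₂ _ rfl rfl]
    infer_instance
  open₁₃ := by
    refine isOpenImmersion_change_right C₁.x C₃.x C₄.x r.j₁ r.j₂ r.w
      (pullback.fst L.m r.j₁ ≫ L.u₁) (pullback.snd L.m r.j₁)
      (by rw [Category.assoc, L.w₁₃, pullback.condition_assoc]) ?_
    rw [comp_lift_eq C₁.x C₃.x (pullback.fst L.m r.j₁) L.u₁ L.m L.w₁₃ _ rfl pullback.condition.symm]
    infer_instance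
  open₃₂ := by
    refine isOpenImmersion_change_left C₂.x C₃.x C₄.x r.j₁ r.j₂ r.w
      (pullback.fst L.m r.j₁ ≫ L.u₂) (pullback.snd L.m r.j₁)
      (by rw [Category.assoc, ← L.w₃₂, pullback.condition_assoc]) ?_
    rw [comp_lift_eq C₃.x C₂.x (pullback.fst L.m r.j₁) L.m L.u₂ L.w₃₂ _ pullback.condition.symm rfl]
    infer_instance
  pt T t h₁ h₂ h₃ := by
    have e1 : (t ≫ pullback.fst L.m r.j₁) ≫ L.u₁ = t ≫ pullback.fst _ _ ≫ L.u₁ := Category.assoc _ _ _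
    have e2 : (t ≫ pullback.fst L.m r.j₁) ≫ L.u₂ = t ≫ pullback.fst _ _ ≫ L.u₂ := Category.assoc _ _ _
    have e3 : (t ≫ pullback.snd L.m r.j₁) ≫ r.j₂ = t ≫ pullback.snd _ _ ≫ r.j₂ := Category.assoc _ _ _
    have e4 : (t ≫ pullback.fst L.m r.j₁) ≫ L.m = (t ≫ pullback.snd L.m r.j₁) ≫ r.j₁ := by
      rw [Category.assoc, Category.assoc, pullback.condition]
    have k1 : ((t ≫ pullback.fst L.m r.j₁) ≫ L.u₁) ≫ C₁.x = T.hom ≫ gen R K := by rw [e1, h₁]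
    have k2 : ((t ≫ pullback.fst L.m r.j₁) ≫ L.u₂) ≫ C₂.x = T.hom ≫ gen R K := by rw [e2, h₂]
    have k3 : ((t ≫ pullback.snd L.m r.j₁) ≫ r.j₂) ≫ C₄.x = T.hom ≫ gen R K := by rw [e3, h₃]
    have k4 : ((t ≫ pullback.fst L.m r.j₁) ≫ L.m) ≫ C₃.x = T.hom ≫ gen R K := by
      rw [Category.assoc _ L.m, ← L.w₁₃, ← Category.assoc, k1]
    have k5 : ((t ≫ pullback.snd L.m r.j₁) ≫ r.j₁) ≫ C₃.x = T.hom ≫ gen R K := by rw [← e4, k4]
    rw [← pt_congr C₄ e3 k3 h₃, r.pt T _ k5 k3, ← pt_congr C₃ e4 k4 k5, L.pt T _ k1 k2 k4,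
      pt_congr C₁ e1 k1 h₁, pt_congr C₂ e2 k2 h₂, tr, MonObj.comp_mul, _root_.mul_assoc]

end Law

section Open

variable {R K : Type u} [CommRing R] [IsLocalRing R] [Field K] [Algebra R K]
  {A : Over (Spec (CommRingCat.of K))} [GrpObj A]
variable {C₁ C₂ C₃ C₄ : Chart R K A} {c d : 𝟙_ (Over (Spec (CommRingCat.of K))) ⟶ A}

theorem apply_of_section {S Z X : Scheme.{u}} (s : S ⟶ Z) (j : Z ⟶ X) (x : X ⟶ S)
    (h : s ≫ j ≫ x = 𝟙 _) (p : S) : x (j (s p)) = p := by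
  rw [← Scheme.Hom.comp_apply, ← Scheme.Hom.comp_apply, h]
  rfl

theorem Law.smooth_m (L : Law C₁ C₂ C₃ c) [Smooth C₁.x] : Smooth L.m := by
  rw [← pullback.lift_snd L.u₁ L.m L.w₁₃]
  infer_instance

theorem Law.smooth_U (L : Law C₁ C₂ C₃ c) [Smooth C₁.x] [Smooth C₃.x] : Smooth (L.m ≫ C₃.x) := by
  have := L.smooth_m
  infer_instance

/-- Composition of a law with a relation on the target, when the special fibre of the target is irreducible. -/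
noncomputable def Law.target' (L : Law C₁ C₂ C₃ c) [Smooth C₁.x] (r : Rel C₃ C₄ (tr d)) {ξ : C₃.X}
    (hξ : Irr C₃ ξ) : Law C₁ C₂ C₄ (c * d) :=
  L.target r (by
    obtain ⟨z, hz⟩ := L.ex
    obtain ⟨z', hz'⟩ := r.ex
    have := L.smooth_m
    obtain ⟨y, hy⟩ := (hξ.2 _ hz).mem_open L.m.isOpenMap.isOpen_range ⟨z, rfl⟩
    obtain ⟨y', hy'⟩ := (hξ.2 _ hz').mem_open r.j₁.isOpenEmbedding.isOpen_range ⟨z', rfl⟩
    exact ⟨y, y', hy.trans hy'.symm, by rw [hy]; exact hξ.1⟩)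

/-- The law gives translations by the points of a section. -/
noncomputable def Law.rel₂ (L : Law C₁ C₂ C₃ c) (σ : Spec (CommRingCat.of R) ⟶ L.U)
    (hσ : (σ ≫ L.u₁) ≫ C₁.x = 𝟙 _)
    (h : (gen R K ≫ σ ≫ L.u₁) ≫ C₁.x = (𝟙_ (Over (Spec (CommRingCat.of K)))).hom ≫ gen R K)
    [IsCommMonObj A] :
    Rel C₂ C₃ (tr (C₁.pt (T := 𝟙_ _) (gen R K ≫ σ ≫ L.u₁) h * c)) where
  Z := pullback L.u₁ (σ ≫ L.u₁)
  j₁ := pullback.fst _ _ ≫ L.u₂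
  j₂ := pullback.fst _ _ ≫ L.m
  open₁ := isOpenImmersion_section_fst' C₁.x C₂.x (pullback.lift L.u₁ L.u₂ L.w₁₂)
    (pullback.lift_fst _ _ _) (pullback.lift_snd _ _ _) (σ ≫ L.u₁) hσ
  open₂ := isOpenImmersion_section_fst' C₁.x C₃.x (pullback.lift L.u₁ L.m L.w₁₃)
    (pullback.lift_fst _ _ _) (pullback.lift_snd _ _ _) (σ ≫ L.u₁) hσ
  w := by rw [Category.assoc, Category.assoc, L.w₃₂]
  ex := by
    refine ⟨(pullback.lift σ (𝟙 _) (by rw [Category.id_comp]) :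
      Spec (CommRingCat.of R) ⟶ pullback L.u₁ (σ ≫ L.u₁)) (IsLocalRing.closedPoint R), ?_⟩
    refine apply_of_section _ _ _ ?_ _
    rw [Category.assoc, pullback.lift_fst_assoc, ← L.w₁₂, ← Category.assoc, hσ]
  pt T t h₁ h₂ := by
    let zs : pullback L.u₁ (σ ≫ L.u₁) ⟶ Spec (CommRingCat.of R) := pullback.snd _ _
    let zf : pullback L.u₁ (σ ≫ L.u₁) ⟶ L.U := pullback.fst _ _
    have hzz : zf ≫ L.u₁ = zs ≫ σ ≫ L.u₁ := pullback.condition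
    have hzs : zf ≫ L.u₁ ≫ C₁.x = zs := by
      rw [← Category.assoc, hzz, Category.assoc, hσ, Category.comp_id]
    have e1 : (t ≫ zf) ≫ L.u₂ = t ≫ zf ≫ L.u₂ := Category.assoc _ _ _
    have e2 : (t ≫ zf) ≫ L.m = t ≫ zf ≫ L.m := Category.assoc _ _ _
    have k1 : ((t ≫ zf) ≫ L.u₂) ≫ C₂.x = T.hom ≫ gen R K := by rw [e1]; exact h₁
    have k2 : ((t ≫ zf) ≫ L.m) ≫ C₃.x = T.hom ≫ gen R K := by rw [e2]; exact h₂
    have k3 : ((t ≫ zf) ≫ L.u₁) ≫ C₁.x = T.hom ≫ gen R K := by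
      rw [Category.assoc _ L.u₁, L.w₁₂, ← Category.assoc, k1]
    have hts : t ≫ zs = T.hom ≫ gen R K := by
      rw [← hzs, ← k3, Category.assoc, Category.assoc]
    have e3 : (t ≫ zf) ≫ L.u₁ = (toUnit T).left ≫ gen R K ≫ σ ≫ L.u₁ := by
      rw [Category.assoc, hzz, ← Category.assoc, hts, Category.assoc]
      rfl
    have k4 : ((toUnit T).left ≫ gen R K ≫ σ ≫ L.u₁) ≫ C₁.x = T.hom ≫ gen R K := by rw [← e3, k3]
    have e4 := pt_comp C₁ (toUnit T) (gen R K ≫ σ ≫ L.u₁) h k4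
    change C₃.pt (t ≫ zf ≫ L.m) h₂ = tr _ T (C₂.pt (t ≫ zf ≫ L.u₂) h₁)
    rw [← pt_congr C₃ e2 k2 h₂, L.pt T (t ≫ zf) k3 k1 k2, pt_congr C₁ e3 k3 k4, e4,
      pt_congr C₂ e1 k1 h₁, tr, MonObj.comp_mul, _root_.mul_comm (toUnit T ≫ _), _root_.mul_assoc]

/-- The law gives translations by the points of a section. -/
noncomputable def Law.rel₁ (L : Law C₁ C₂ C₃ c) (σ : Spec (CommRingCat.of R) ⟶ L.U)
    (hσ : (σ ≫ L.u₂) ≫ C₂.x = 𝟙 _)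
    (h : (gen R K ≫ σ ≫ L.u₂) ≫ C₂.x = (𝟙_ (Over (Spec (CommRingCat.of K)))).hom ≫ gen R K) :
    Rel C₁ C₃ (tr (C₂.pt (T := 𝟙_ _) (gen R K ≫ σ ≫ L.u₂) h * c)) where
  Z := pullback L.u₂ (σ ≫ L.u₂)
  j₁ := pullback.fst _ _ ≫ L.u₁
  j₂ := pullback.fst _ _ ≫ L.m
  open₁ := isOpenImmersion_section_snd' C₁.x C₂.x (pullback.lift L.u₁ L.u₂ L.w₁₂)
    (pullback.lift_fst _ _ _) (pullback.lift_snd _ _ _) (σ ≫ L.u₂) hσ
  open₂ := isOpenImmersion_section_snd' C₃.x C₂.x (pullback.lift L.m L.u₂ L.w₃₂)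
    (pullback.lift_fst _ _ _) (pullback.lift_snd _ _ _) (σ ≫ L.u₂) hσ
  w := by rw [Category.assoc, Category.assoc, L.w₁₃]
  ex := by
    refine ⟨(pullback.lift σ (𝟙 _) (by rw [Category.id_comp]) :
      Spec (CommRingCat.of R) ⟶ pullback L.u₂ (σ ≫ L.u₂)) (IsLocalRing.closedPoint R), ?_⟩
    refine apply_of_section _ _ _ ?_ _
    rw [Category.assoc, pullback.lift_fst_assoc, L.w₁₂, ← Category.assoc, hσ]
  pt T t h₁ h₂ := by
    let zs : pullback L.u₂ (σ ≫ L.u₂) ⟶ Spec (CommRingCat.of R) := pullback.snd _ _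
    let zf : pullback L.u₂ (σ ≫ L.u₂) ⟶ L.U := pullback.fst _ _
    have hzz : zf ≫ L.u₂ = zs ≫ σ ≫ L.u₂ := pullback.condition
    have hzs : zf ≫ L.u₂ ≫ C₂.x = zs := by
      rw [← Category.assoc, hzz, Category.assoc, hσ, Category.comp_id]
    have e1 : (t ≫ zf) ≫ L.u₁ = t ≫ zf ≫ L.u₁ := Category.assoc _ _ _
    have e2 : (t ≫ zf) ≫ L.m = t ≫ zf ≫ L.m := Category.assoc _ _ _
    have k1 : ((t ≫ zf) ≫ L.u₁) ≫ C₁.x = T.hom ≫ gen R K := by rw [e1]; exact h₁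
    have k2 : ((t ≫ zf) ≫ L.m) ≫ C₃.x = T.hom ≫ gen R K := by rw [e2]; exact h₂
    have k3 : ((t ≫ zf) ≫ L.u₂) ≫ C₂.x = T.hom ≫ gen R K := by
      rw [Category.assoc _ L.u₂, ← L.w₁₂, ← Category.assoc, k1]
    have hts : t ≫ zs = T.hom ≫ gen R K := by
      rw [← hzs, ← k3, Category.assoc, Category.assoc]
    have e3 : (t ≫ zf) ≫ L.u₂ = (toUnit T).left ≫ gen R K ≫ σ ≫ L.u₂ := by
      rw [Category.assoc, hzz, ← Category.assoc, hts, Category.assoc]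
      rfl
    have k4 : ((toUnit T).left ≫ gen R K ≫ σ ≫ L.u₂) ≫ C₂.x = T.hom ≫ gen R K := by rw [← e3, k3]
    have e4 := pt_comp C₂ (toUnit T) (gen R K ≫ σ ≫ L.u₂) h k4
    change C₃.pt (t ≫ zf ≫ L.m) h₂ = tr _ T (C₁.pt (t ≫ zf ≫ L.u₁) h₁)
    rw [← pt_congr C₃ e2 k2 h₂, L.pt T (t ≫ zf) k1 k3 k2, pt_congr C₂ e3 k3 k4, e4,
      pt_congr C₁ e1 k1 h₁, tr, MonObj.comp_mul, _root_.mul_assoc]

end Open

end Groth.Agent.Sga7.H244
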