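import Groth.Agent.Sga7.H244.Laws2
import Groth.Agent.Dix.NeronEllPts
import Groth.Agent.VarietyA.GeomIrrS

/-!
# From translations, laws and inverses of charts to `IsMinimal`
-/

set_option autoImplicit false

universe u v

open CategoryTheory CategoryTheory.Limits MonoidalCategory CartesianMonoidalCategory AlgebraicGeometry
  MonObj

namespace Groth.Agent.Sga7.H244

open Charts

section Twist

variable {R K : Type u} [CommRing R] [Field K] [Algebra R K]
  {A : Over (Spec (CommRingCat.of K))} [GrpObj A]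

/-- Right translation. -/
noncomputable def rtr (d : 𝟙_ (Over (Spec (CommRingCat.of K))) ⟶ A) : A ⟶ A := 𝟙 A * (toUnit A ≫ d)

theorem comp_rtr (d : 𝟙_ (Over (Spec (CommRingCat.of K))) ⟶ A) {T : Over (Spec (CommRingCat.of K))}
    (x : T ⟶ A) : x ≫ rtr d = x * (toUnit T ≫ d) := by
  rw [rtr, MonObj.comp_mul, Category.comp_id, ← Category.assoc, comp_toUnit]

instance isIso_rtr (d : 𝟙_ (Over (Spec (CommRingCat.of K))) ⟶ A) : IsIso (rtr d) := by
  refine ⟨rtr d⁻¹, ?_, ?_⟩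
  · rw [comp_rtr, rtr, _root_.mul_assoc, ← MonObj.comp_mul, mul_inv_cancel, MonObj.comp_one,
      _root_.mul_one]
  · rw [comp_rtr, rtr, _root_.mul_assoc, ← MonObj.comp_mul, inv_mul_cancel, MonObj.comp_one,
      _root_.mul_one]

/-- The chart `C` with its map to `A` followed by a translation. -/
noncomputable def twist (C : Chart R K A) (d : 𝟙_ (Over (Spec (CommRingCat.of K))) ⟶ A) :
    Chart R K A where
  __ := C
  φ := C.φ ≫ (rtr d).left
  hφ := by rw [Category.assoc, Over.w (rtr d), C.hφ]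

theorem twist_pt (C : Chart R K A) (d : 𝟙_ (Over (Spec (CommRingCat.of K))) ⟶ A)
    {T : Over (Spec (CommRingCat.of K))} (g : T.left ⟶ C.X) (h : g ≫ C.x = T.hom ≫ gen R K) :
    (twist C d).pt g h = C.pt g h * (toUnit T ≫ d) := by
  rw [← comp_rtr]
  ext1
  change C.isPullback.lift g T.hom h ≫ C.φ ≫ (rtr d).left =
    (C.isPullback.lift g T.hom h ≫ C.φ) ≫ (rtr d).left
  rw [Category.assoc]

instance isOpenImmersion_twist (C : Chart R K A) [IsOpenImmersion C.φ]
    (d : 𝟙_ (Over (Spec (CommRingCat.of K))) ⟶ A) : IsOpenImmersion (twist C d).φ := by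
  have : IsIso (rtr d).left := inferInstanceAs (IsIso ((Over.forget _).map (rtr d)))
  change IsOpenImmersion (C.φ ≫ (rtr d).left)
  infer_instance

end Twist

section Final

variable {R K : Type u} [CommRing R] [IsLocalRing R] [Field K] [Algebra R K]
  {A : Over (Spec (CommRingCat.of K))} [GrpObj A]

variable {C₁ C₂ C₃ C₄ : Chart R K A} {c d : 𝟙_ (Over (Spec (CommRingCat.of K))) ⟶ A}

theorem Law.exists_section (hR : EtCoh.IsStrictlyHenselianLocalRing R) (L : Law C₁ C₂ C₃ c)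
    [Smooth C₁.x] [Smooth C₃.x] :
    ∃ σ : Spec (CommRingCat.of R) ⟶ L.U, σ ≫ L.m ≫ C₃.x = 𝟙 _ := by
  have := L.smooth_U
  obtain ⟨z, hz⟩ := L.ex
  obtain ⟨σ, hσ, -⟩ := Dix.NeronEllPts.exists_section hR (L.m ≫ C₃.x) z
    (by rw [Scheme.Hom.comp_apply, hz]) Set.univ isOpen_univ trivial
  exact ⟨σ, hσ⟩

theorem Law.exists_rel (hR : EtCoh.IsStrictlyHenselianLocalRing R) (L : Law C₁ C₂ C₃ c)
    [Smooth C₁.x] [Smooth C₃.x] [IsCommMonObj A] :
    ∃ a b : 𝟙_ (Over (Spec (CommRingCat.of K))) ⟶ A,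
      Nonempty (Rel C₂ C₃ (tr a)) ∧ Nonempty (Rel C₁ C₃ (tr b)) := by
  obtain ⟨σ, hσ⟩ := L.exists_section hR
  have h1 : (σ ≫ L.u₁) ≫ C₁.x = 𝟙 _ := by rw [Category.assoc, L.w₁₃, hσ]
  have h2 : (σ ≫ L.u₂) ≫ C₂.x = 𝟙 _ := by rw [Category.assoc, ← L.w₃₂, hσ]
  have h3 : (gen R K ≫ σ ≫ L.u₁) ≫ C₁.x =
      (𝟙_ (Over (Spec (CommRingCat.of K)))).hom ≫ gen R K := by
    rw [Category.assoc, h1, Category.comp_id]
    exact (Category.id_comp _).symm
  have h4 : (gen R K ≫ σ ≫ L.u₂) ≫ C₂.x =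
      (𝟙_ (Over (Spec (CommRingCat.of K)))).hom ≫ gen R K := by
    rw [Category.assoc, h2, Category.comp_id]
    exact (Category.id_comp _).symm
  exact ⟨_, _, ⟨L.rel₂ σ h1 h3⟩, ⟨L.rel₁ σ h2 h4⟩⟩

/-- Two charts which admit a law to a third one differ by a translation. -/
theorem Law.exists_rel' (hR : EtCoh.IsStrictlyHenselianLocalRing R) (L : Law C₁ C₂ C₃ c)
    [Smooth C₁.x] [Smooth C₃.x] [IsCommMonObj A] {ξ : C₃.X} (hξ : Irr C₃ ξ) :
    ∃ a : 𝟙_ (Over (Spec (CommRingCat.of K))) ⟶ A, Nonempty (Rel C₁ C₂ (tr a)) := by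
  obtain ⟨a, b, ⟨r₂⟩, ⟨r₁⟩⟩ := L.exists_rel hR
  have r₂' : Rel C₃ C₂ (tr a⁻¹) := r₂.symm fun T x => by
    change x * (toUnit T ≫ a) * (toUnit T ≫ a⁻¹) = x
    rw [_root_.mul_assoc, ← MonObj.comp_mul, mul_inv_cancel, MonObj.comp_one, _root_.mul_one]
  exact ⟨b * a⁻¹, ⟨(r₁.trans r₂' hξ).congr fun T x => by
    change x * (toUnit T ≫ b) * (toUnit T ≫ a⁻¹) = x * (toUnit T ≫ (b * a⁻¹))
    rw [_root_.mul_assoc, ← MonObj.comp_mul]⟩⟩

/-- The formal part of N3. -/
theorem exists_law_inv (hR : EtCoh.IsStrictlyHenselianLocalRing R) [IsCommMonObj A]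
    (P : Chart R K A → Prop) (hsm : ∀ C, P C → Smooth C.x) (hirr : ∀ C, P C → ∃ ξ, Irr C ξ)
    (hlaw : ∀ C C', P C → P C' → ∃ C'', P C'' ∧ Nonempty (Law C C' C'' 1))
    (hinv : ∀ C, P C → ∃ C', P C' ∧ Nonempty (Rel C C' (iv 1))) (C : Chart R K A) (hC : P C) :
    ∃ d e : 𝟙_ (Over (Spec (CommRingCat.of K))) ⟶ A,
      Nonempty (Law C C C d) ∧ Nonempty (Rel C C (iv e)) := by
  have key : ∀ C C', P C → P C' → ∃ a : 𝟙_ (Over (Spec (CommRingCat.of K))) ⟶ A,
      Nonempty (Rel C C' (tr a)) := by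
    intro C C' hC hC'
    obtain ⟨C'', hC'', ⟨L⟩⟩ := hlaw C C' hC hC'
    have := hsm _ hC
    have := hsm _ hC''
    obtain ⟨ξ, hξ⟩ := hirr _ hC''
    exact L.exists_rel' hR hξ
  obtain ⟨C₃, hC₃, ⟨L⟩⟩ := hlaw C C hC hC
  obtain ⟨a, ⟨r⟩⟩ := key C₃ C hC₃ hC
  obtain ⟨ξ₃, hξ₃⟩ := hirr _ hC₃
  have := hsm _ hC
  obtain ⟨C', hC', ⟨s⟩⟩ := hinv C hC
  obtain ⟨b, ⟨r'⟩⟩ := key C' C hC' hC
  obtain ⟨ξ', hξ'⟩ := hirr _ hC'
  exact ⟨1 * a, 1 * b, ⟨L.target' r hξ₃⟩, ⟨(s.trans r' hξ').congr fun T x => by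
    change x⁻¹ * (toUnit T ≫ 1) * (toUnit T ≫ b) = x⁻¹ * (toUnit T ≫ (1 * b))
    rw [_root_.mul_assoc, ← MonObj.comp_mul]⟩⟩

end Final

section Geom

variable {R : Type u} [CommRing R] [IsLocalRing R]

theorem geometricallyIrreducible_special [IsSepClosed (IsLocalRing.ResidueField R)] {X : Scheme.{u}}
    (x : X ⟶ Spec (CommRingCat.of R)) (ξ : X) (h : x ξ = IsLocalRing.closedPoint R)
    (hξ : ∀ y : X, x y = IsLocalRing.closedPoint R → ξ ⤳ y) :
    GeometricallyIrreducible (pullback.snd x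
      (Spec.map (CommRingCat.ofHom (algebraMap R (IsLocalRing.ResidueField R))))) := by
  let k := IsLocalRing.ResidueField R
  let s : Spec (CommRingCat.of k) ⟶ Spec (CommRingCat.of R) :=
    Spec.map (CommRingCat.ofHom (algebraMap R k))
  have hsr : ∀ t : Spec (CommRingCat.of k), s t = IsLocalRing.closedPoint R := by
    intro t
    have : t = IsLocalRing.closedPoint k := Subsingleton.elim _ _
    rw [this]
    have : IsLocalHom (algebraMap R k) := inferInstanceAs (IsLocalHom (IsLocalRing.residue R))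
    exact IsLocalRing.comap_closedPoint (algebraMap R k)
  have hind : Topology.IsInducing (pullback.fst x s) := by
    have : IsClosedImmersion s := IsClosedImmersion.spec_of_surjective _ IsLocalRing.residue_surjective
    exact (pullback.fst x s).isClosedEmbedding.isInducing
  obtain ⟨z, hz1, -⟩ := Scheme.Pullback.exists_preimage_pullback (f := x) (g := s) ξ
    (IsLocalRing.closedPoint k) (h.trans (hsr _).symm)
  have hgen : ∀ w : ↥(pullback x s), z ⤳ w := by
    intro w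
    rw [← hind.specializes_iff, hz1]
    refine hξ _ ?_
    rw [← Scheme.Hom.comp_apply, pullback.condition, Scheme.Hom.comp_apply]
    exact hsr _
  have hirr : IrreducibleSpace ↥(pullback x s) := by
    have h1 : IsIrreducible (closure {z} : Set ↥(pullback x s)) := isIrreducible_singleton.closure
    have h2 : (closure {z} : Set ↥(pullback x s)) = Set.univ :=
      Set.eq_univ_of_forall fun w => specializes_iff_mem_closure.mp (hgen w)
    rw [h2] at h1
    exact irreducibleSpace_def _ |>.mpr h1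
  have h5 : IsIso (Spec.map (CommRingCat.ofHom (algebraMap k k))) := by
    have : CommRingCat.ofHom (algebraMap k k) = 𝟙 _ := rfl
    rw [this]
    infer_instance
  have h6 : IrreducibleSpace ↥(pullback (pullback.snd x s)
      (Spec.map (CommRingCat.ofHom (algebraMap k k)))) := by
    have e : pullback (pullback.snd x s) (Spec.map (CommRingCat.ofHom (algebraMap k k))) ≅
      pullback x s := asIso (pullback.fst _ _)
    exact (e.hom.homeomorph.irreducibleSpace_iff).2 hirr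
  exact VarietyA.GeomIrr.geometricallyIrreducible_of_irreducibleSpace_of_isSepClosed k k _

end Geom

end Groth.Agent.Sga7.H244
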