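import Groth.Agent.Sga7.H244.Core
import Groth.Agent.Fga.SmoothDVRAlg

/-!
# Existence of the index at a prime of the special fibre
-/

set_option autoImplicit false

universe u

open CategoryTheory CategoryTheory.Limits MonoidalCategory CartesianMonoidalCategory AlgebraicGeometry
  MonObj KaehlerDifferential

namespace Groth.Agent.Sga7.H244

open Index

theorem flat_atPrime {R : Type u} [CommRing R] {B : Type u} [CommRing B] [Algebra R B]
    [Module.Flat R B] (y : Ideal B) [y.IsPrime] (O : Type u) [CommRing O] [Algebra B O]
    [IsLocalization.AtPrime O y] [Algebra R O] [IsScalarTower R B O] : Module.Flat R O := by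
  have h1 : Module.Flat B O := IsLocalization.flat O y.primeCompl
  exact Module.Flat.trans R B O

theorem not_isUnit_atPrime {R : Type u} [CommRing R] {B : Type u} [CommRing B] [Algebra R B]
    (y : Ideal B) [y.IsPrime] (O : Type u) [CommRing O] [Algebra B O]
    [IsLocalization.AtPrime O y] [Algebra R O] [IsScalarTower R B O] {ϖ : R}
    (hy : algebraMap R B ϖ ∈ y) : ¬ IsUnit (algebraMap R O ϖ) := by
  rw [IsScalarTower.algebraMap_apply R B O, IsLocalization.AtPrime.isUnit_to_map_iff O y]
  exact fun h => h hy

theorem nontrivial_atPrime {B : Type u} [CommRing B]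
    (y : Ideal B) [y.IsPrime] (O : Type u) [CommRing O] [Algebra B O]
    [IsLocalization.AtPrime O y] : Nontrivial O := by
  have := IsLocalization.AtPrime.isLocalRing O y
  infer_instance

section Prime

variable {R : Type u} [CommRing R] [IsDomain R] [IsDiscreteValuationRing R] {ϖ : R}
  (hϖ : Irreducible ϖ) {B : Type u} [CommRing B] [Algebra R B] [Algebra.Smooth R B] (y : Ideal B)
  [y.IsPrime] (hy : algebraMap R B ϖ ∈ y) (O : Type u) [CommRing O] [Algebra B O]
  [IsLocalization.AtPrime O y] [Algebra R O] [IsScalarTower R B O]

include hϖ hy in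
theorem prime_atPrime : Prime (algebraMap R O ϖ) := by
  have h1 := Groth.Agent.Fga.SmoothDVRAlg.isPrime_span_of_smooth (B := O) ϖ hϖ y hy
  rw [← IsScalarTower.algebraMap_apply] at h1
  have : Nontrivial O := nontrivial_atPrime y O
  have : Module.Flat R O := flat_atPrime y O
  have h0 : algebraMap R O ϖ ≠ 0 :=
    nonZeroDivisors.ne_zero (mem_nonZeroDivisors_of_flat hϖ.ne_zero O)
  exact (Ideal.span_singleton_prime h0).mp h1

include hϖ hy in
theorem units_atPrime (K : Type u) [Field K] [Algebra R K] [IsFractionRing R K]
    (s : (G R K O)ˣ) : ∃ (p q : ℕ) (u : Oˣ), (algebraMap R (G R K O) ϖ) ^ p * (s : G R K O) =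
      (algebraMap R (G R K O) ϖ) ^ q * algebraMap O (G R K O) u := by
  have := G.away R K hϖ O
  have hno : IsNoetherianRing B := Algebra.FiniteType.isNoetherianRing R B
  have hno' : IsNoetherianRing O := IsLocalization.isNoetherianRing y.primeCompl O inferInstance
  have hloc : IsLocalRing O := IsLocalization.AtPrime.isLocalRing O y
  have : Module.Flat R O := flat_atPrime y O
  have h := units_away (S := G R K O) (algebraMap R O ϖ) (prime_atPrime hϖ y hy O)
    (mem_nonZeroDivisors_of_flat hϖ.ne_zero O)
    (fun x hx => exists_pow_mul_not_dvd _ (not_isUnit_atPrime y O hy) x hx) s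
  rw [← IsScalarTower.algebraMap_apply] at h
  exact h

end Prime

section Exists

variable {R K : Type u} [CommRing R] [Field K] [Algebra R K]

/-- Formally étale maps stay so on generic fibres. -/
theorem G.formallyEtale_of_isLocalization (B O : Type u) [CommRing B] [CommRing O] [Algebra R B]
    [Algebra R O] [Algebra B O] [IsScalarTower R B O] (M : Submonoid B) [IsLocalization M O] :
    Algebra.FormallyEtale (G R K B) (G R K O) := by
  have hp : Algebra.IsPushout B (G R K B) O (G R K O) := inferInstance
  have h := (Algebra.isLocalization_iff_isPushout (R := B) (A := O) (T := G R K B) (B := G R K O)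
    M).mpr hp
  exact Algebra.FormallyEtale.of_isLocalization (Algebra.algebraMapSubmonoid (G R K B) M)

variable {A : Over (Spec (CommRingCat.of K))} [GrpObj A] (T : TanChart A)

/-- The frame of a localization. -/
theorem exists_basis_localization (B O : Type u) [CommRing B] [CommRing O] [Algebra R B]
    [Algebra R O] [Algebra B O] [IsScalarTower R B O] (M : Submonoid B) [IsLocalization M O]
    (p : SpecOver K (G R K B) ⟶ A) [IsOpenImmersion p.left] :
    ∃ b : Module.Basis (Fin T.C.d) (G R K O) Ω[G R K O⁄K],
      ∀ i, b i = T.dlog K (res (S' := G R K O) p) i := by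
  obtain ⟨b, hb⟩ := T.exists_basis p
  have := G.formallyEtale_of_isLocalization (R := R) (K := K) B O M
  have hKB : KB K K (G R K B) (G R K O) := KB.of_formallyEtale K (G R K B) (G R K O)
  refine ⟨hKB.basis b, fun i => ?_⟩
  rw [KB.basis_apply, hb, T.dlog_res (K' := K) (K'' := K) (S := G R K B) (S' := G R K O)]

end Exists

section Exists2

variable {R K : Type u} [CommRing R] [IsDomain R] [IsDiscreteValuationRing R] [Field K] [Algebra R K]
  [IsFractionRing R K] {A : Over (Spec (CommRingCat.of K))} [GrpObj A] (T : TanChart A) {ϖ : R}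
  (hϖ : Irreducible ϖ)

include hϖ in
theorem exists_idx {B : Type u} [CommRing B] [Algebra R B] [Algebra.Smooth R B] (y : Ideal B)
    [y.IsPrime] (hy : algebraMap R B ϖ ∈ y) (O : Type u) [CommRing O] [Algebra B O]
    [IsLocalization.AtPrime O y] [Algebra R O] [IsScalarTower R B O]
    (p : SpecOver K (G R K B) ⟶ A) [IsOpenImmersion p.left] :
    ∃ n : ℤ, HasIdx R K O (G R K O) ϖ (T.dlog K (res (S' := G R K O) p)) n := by
  obtain ⟨b, hb⟩ := exists_basis_localization T B O y.primeCompl p
  have : Nontrivial O := nontrivial_atPrime y O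
  have hfl : Module.Flat R O := flat_atPrime y O
  have : Nontrivial (G R K O) := (G.algebraMap_injective R K O).nontrivial
  have hfs : Algebra.FormallySmooth B O := Algebra.FormallySmooth.of_isLocalization y.primeCompl
  have hfs' : Algebra.FormallySmooth R O := Algebra.FormallySmooth.comp R B O
  have hess : Algebra.EssFiniteType B O := Algebra.EssFiniteType.of_isLocalization O y.primeCompl
  have hess' : Algebra.EssFiniteType R O := Algebra.EssFiniteType.comp R B O
  have hloc : IsLocalRing O := IsLocalization.AtPrime.isLocalRing O y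
  have hfin : Module.Finite O Ω[O⁄R] := inferInstance
  have hproj : Module.Projective O Ω[O⁄R] := inferInstance
  have hfree : Module.Free O Ω[O⁄R] := Module.free_of_flat_of_isLocalRing
  have hKB : KB R K O (G R K O) := KB.of_isPushout R K O (G R K O)
  obtain ⟨n, hn⟩ := exists_hasIdx (R := R) (K := K) (O := O) (S := G R K O) ϖ b hKB
    (units_atPrime hϖ y hy O K)
  refine ⟨n, ?_⟩
  have hb' : ⇑b = T.dlog K (res (S' := G R K O) p) := funext hb
  rw [hb'] at hn
  exact hn

end Exists2

end Groth.Agent.Sga7.H244
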