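import Groth.Agent.Sga7.H244.Ext

/-!
# The main ring theoretic lemma
-/

set_option autoImplicit false

universe u v

open CategoryTheory CategoryTheory.Limits MonoidalCategory CartesianMonoidalCategory AlgebraicGeometry
  MonObj KaehlerDifferential

namespace Groth.Agent.Sga7.H244

open Index

variable {R K : Type u} [CommRing R] [IsDomain R] [IsDiscreteValuationRing R] [Field K] [Algebra R K]
  [IsFractionRing R K] {A : Over (Spec (CommRingCat.of K))} [GrpObj A] [IsCommMonObj A]
  (T : TanChart A) {ϖ : R} (hϖ : Irreducible ϖ)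

omit [IsDomain R] [IsDiscreteValuationRing R] [IsFractionRing R K] in
/-- The index of the inverse. -/
theorem PIdx.inv {B : Type u} [CommRing B] [Algebra R B] {p : SpecOver K (G R K B) ⟶ A}
    {y : Ideal B} [y.IsPrime] {n : ℤ} (hn : PIdx T ϖ p y n) : PIdx T ϖ p⁻¹ y n := by
  have h := HasIdx.neg hn
  rw [← T.dlog_inv, ← res_inv] at h
  exact h

include hϖ in
/-- `B'` is the frame chart, `B` the target chart, `D ⟵ P = Q ⊗ B` the graph. -/
theorem main_ring {Q B' B P D : Type u} [CommRing Q] [CommRing B'] [CommRing B] [CommRing P] [CommRing D]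
    [Algebra R Q] [Algebra R B'] [Algebra R B] [Algebra R P] [Algebra R D] [Algebra Q P] [Algebra B P]
    [IsScalarTower R Q P] [IsScalarTower R B P] [Algebra.IsPushout R Q B P]
    [Algebra Q D] [Algebra B' D] [Algebra B D] [Algebra P D] [IsScalarTower R Q D]
    [IsScalarTower R B' D] [IsScalarTower R B D]
    [IsScalarTower R P D] [IsScalarTower Q P D] [IsScalarTower B P D]
    [Algebra.Smooth R B] [Algebra.FiniteType R P] [Algebra.FiniteType R D]
    [Module.Flat R D] (ζ : Ideal D) [ζ.IsPrime] (hζ : algebraMap R D ϖ ∈ ζ)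
    [Algebra.FormallySmooth Q (Localization.AtPrime ζ)]
    (hKB : KB R Q B' (Localization.AtPrime ζ))
    (p : SpecOver K (G R K B) ⟶ A) [IsOpenImmersion p.left]
    (q : SpecOver K (G R K Q) ⟶ A)
    (p' : SpecOver K (G R K B') ⟶ A)
    (hp : res (S' := G R K D) p = res p' * res q) (n₀ : ℤ)
    (hlow : ∀ (y : Ideal B) [y.IsPrime] (_ : algebraMap R B ϖ ∈ y) (n : ℤ),
        PIdx T ϖ p y n → n₀ ≤ n)
    (hn' : PIdx T ϖ p' (ζ.comap (algebraMap B' D)) n₀) :
    PIdx T ϖ p (ζ.comap (algebraMap B D)) n₀ ∧
      ∃ h ∉ ζ, Algebra.Smooth P (Localization.Away h) := by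
  let y : Ideal B' := ζ.comap (algebraMap B' D)
  let O := Localization.AtPrime y
  let W := Localization.AtPrime ζ
  let _ : Algebra O W := (Localization.localRingHom y ζ (algebraMap B' D) rfl).toAlgebra
  have t1 : IsScalarTower B' O W := IsScalarTower.of_algebraMap_eq fun x => by
    rw [IsScalarTower.algebraMap_apply B' D W]
    exact (Localization.localRingHom_to_map y ζ (algebraMap B' D) rfl x).symm
  have t2 : IsScalarTower R O W := IsScalarTower.of_algebraMap_eq fun x => by
    rw [IsScalarTower.algebraMap_apply R B' O, ← IsScalarTower.algebraMap_apply B' O W,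
      ← IsScalarTower.algebraMap_apply R B' W]
  have hfe : Algebra.FormallyEtale B' O := Algebra.FormallyEtale.of_isLocalization y.primeCompl
  have h2 : KB R R B' O := KB.of_formallyEtale R B' O
  have h3 : KB R Q O W := KB.of_trans h2 hKB
  have hidx : HasIdx Q (G R K Q) W (G R K W) (algebraMap R Q ϖ)
      (T.dlog (G R K Q) (res (S' := G R K W) p')) n₀ := by
    refine HasIdx.map (R' := Q) (K' := G R K Q) (O' := W) (S' := G R K W) hn' h3 _ ?_
    intro i
    rw [← T.dlog_res (K' := K) (K'' := G R K Q) (S := G R K O) (S' := G R K W), res_res]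
  refine exists_smooth_away_of_minimal T hϖ (P := P) ζ hζ p q (res (S' := G R K W) p') ?_ n₀ hlow hidx
  have h4 := congrArg (res (S' := G R K W)) hp
  rw [res_mul, res_res, res_res, res_res] at h4
  exact h4

end Groth.Agent.Sga7.H244
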