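import Groth.Agent.Sga7.H244.Stage1
import Mathlib.RingTheory.Ideal.MinimalPrime.Localization

/-!
# Minimal charts
-/

set_option autoImplicit false

universe u v

open CategoryTheory CategoryTheory.Limits MonoidalCategory CartesianMonoidalCategory AlgebraicGeometry
  MonObj KaehlerDifferential

namespace Groth.Agent.Sga7.H244

open Index Charts

section Loc

variable {R K : Type u} [CommRing R] [Field K] [Algebra R K] {A : Over (Spec (CommRingCat.of K))}

theorem G.away_map {B D : Type u} [CommRing B] [CommRing D] [Algebra R B] [Algebra R D] [Algebra B D]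
    [IsScalarTower R B D] (h : B) [IsLocalization.Away h D] :
    IsLocalization.Away (algebraMap B (G R K B) h) (G R K D) := by
  have hp : Algebra.IsPushout B (G R K B) D (G R K D) := inferInstance
  have h2 := (Algebra.isLocalization_iff_isPushout (R := B) (A := D) (T := G R K B)
    (B := G R K D) (Submonoid.powers h)).mpr hp
  rw [Algebra.algebraMapSubmonoid_powers] at h2
  exact h2

theorem isOpenImmersion_res {B D : Type u} [CommRing B] [CommRing D] [Algebra R B] [Algebra R D]
    [Algebra B D] [IsScalarTower R B D] (h : B) [IsLocalization.Away h D]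
    (p : SpecOver K (G R K B) ⟶ A) [IsOpenImmersion p.left] :
    IsOpenImmersion (res (S' := G R K D) p).left := by
  have := G.away_map (R := R) (K := K) (D := D) h
  have h1 : IsOpenImmersion (Spec.map (CommRingCat.ofHom (algebraMap (G R K B) (G R K D)))) :=
    IsOpenImmersion.of_isLocalization (algebraMap B (G R K B) h)
  change IsOpenImmersion (Spec.map (CommRingCat.ofHom (algebraMap (G R K B) (G R K D))) ≫ p.left)
  infer_instance

variable [GrpObj A] (T : TanChart A)

theorem PIdx.away {ϖ : R} {B D : Type u} [CommRing B] [CommRing D] [Algebra R B] [Algebra R D]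
    [Algebra B D] [IsScalarTower R B D] (h : B) [IsLocalization.Away h D]
    {p : SpecOver K (G R K B) ⟶ A} (P : Ideal D) [P.IsPrime] {n : ℤ}
    (hn : PIdx T ϖ p (P.comap (algebraMap B D)) n) : PIdx T ϖ (res (S' := G R K D) p) P n := by
  let y : Ideal B := P.comap (algebraMap B D)
  let O := Localization.AtPrime y
  let O' := Localization.AtPrime P
  let _ : Algebra O O' := (Localization.localRingHom y P (algebraMap B D) rfl).toAlgebra
  have t1 : IsScalarTower B O O' := IsScalarTower.of_algebraMap_eq fun x => by
    rw [IsScalarTower.algebraMap_apply B D O']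
    exact (Localization.localRingHom_to_map y P (algebraMap B D) rfl x).symm
  have t2 : IsScalarTower R O O' := IsScalarTower.of_algebraMap_eq fun x => by
    rw [IsScalarTower.algebraMap_apply R B O, ← IsScalarTower.algebraMap_apply B O O',
      ← IsScalarTower.algebraMap_apply R B O']
  have h1 : IsLocalization.AtPrime O' y :=
    IsLocalization.isLocalization_isLocalization_atPrime_isLocalization (Submonoid.powers h) O' P
  have h2 : IsLocalization (y.primeCompl.map (algebraMap B O)) O' :=
    IsLocalization.isLocalization_of_submonoid_le O O' y.primeCompl y.primeCompl le_rfl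
  have h3 := hasIdx_localization T (y.primeCompl.map (algebraMap B O)) (O' := O') p hn
  change HasIdx R K O' (G R K O') ϖ (T.dlog K (res (S' := G R K O') (res (S' := G R K D) p))) n
  rw [res_res]
  exact h3

/-- A minimal chart: the special fibre is irreducible and all its points have index `n₀`. -/
structure IsMC (ϖ : R) (n₀ : ℤ) {B : Type u} [CommRing B] [Algebra R B]
    (p : SpecOver K (G R K B) ⟶ A) : Prop where
  smooth : Algebra.Smooth R B
  openImmersion : IsOpenImmersion p.left
  ex : ∃ ξ : Ideal B, ξ.IsPrime ∧ algebraMap R B ϖ ∈ ξ ∧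
    ∀ y : Ideal B, y.IsPrime → algebraMap R B ϖ ∈ y → ξ ≤ y
  idx : ∀ (y : Ideal B) [y.IsPrime], algebraMap R B ϖ ∈ y → PIdx T ϖ p y n₀

end Loc

section Exists

variable {R K : Type u} [CommRing R] [IsDomain R] [IsDiscreteValuationRing R] [Field K] [Algebra R K]
  [IsFractionRing R K] {A : Over (Spec (CommRingCat.of K))} [GrpObj A]
  (T : TanChart A) {ϖ : R} (hϖ : Irreducible ϖ)

theorem exists_separating {B : Type u} [CommRing B] [IsNoetherianRing B] (J y : Ideal B) [y.IsPrime]
    (hy : y ∈ J.minimalPrimes) : ∃ h ∉ y, ∀ y' ∈ J.minimalPrimes, y' ≠ y → h ∈ y' := by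
  classical
  have hfin : J.minimalPrimes.Finite := J.finite_minimalPrimes_of_isNoetherianRing
  let F : Finset (Ideal B) := hfin.toFinset.erase y
  have hF : ∀ y', y' ∈ F ↔ y' ≠ y ∧ y' ∈ J.minimalPrimes := fun y' => by
    rw [Finset.mem_erase, Set.Finite.mem_toFinset]
  have hnot : ¬ F.inf id ≤ y := by
    intro hle
    rw [Ideal.IsPrime.inf_le' ‹y.IsPrime›] at hle
    obtain ⟨y', hy', hle'⟩ := hle
    obtain ⟨hne, hmin⟩ := (hF y').mp hy'
    exact hne (le_antisymm hle' (hy.2 hmin.1 hle'))
  obtain ⟨h, hh, hhy⟩ := SetLike.not_le_iff_exists.mp hnot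
  refine ⟨h, hhy, fun y' hy' hne => ?_⟩
  have : F.inf id ≤ y' := Finset.inf_le (f := id) ((hF y').mpr ⟨hne, hy'⟩)
  exact this hh

include hϖ in
/-- A minimal chart around a generic point of minimal index. -/
theorem exists_isMC {B : Type u} [CommRing B] [Algebra R B] [Algebra.Smooth R B]
    (p : SpecOver K (G R K B) ⟶ A) [IsOpenImmersion p.left] (y : Ideal B) [y.IsPrime]
    (hy : IsGenPt ϖ y) {n₀ : ℤ} (hn : PIdx T ϖ p y n₀) :
    ∃ h ∉ y, IsMC T ϖ n₀ (res (S' := G R K (Localization.Away h)) p) := by
  have hno : IsNoetherianRing B := Algebra.FiniteType.isNoetherianRing R B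
  obtain ⟨h, hhy, hh⟩ := exists_separating (Ideal.span {algebraMap R B ϖ}) y hy
  let D := Localization.Away h
  have hyϖ : algebraMap R B ϖ ∈ y := hy.1.2 (Ideal.mem_span_singleton_self _)
  have hdisj : Disjoint (Submonoid.powers h : Set B) (y : Set B) := by
    rw [Ideal.disjoint_powers_iff_notMem]
    · exact hhy
    · exact (inferInstance : y.IsPrime).isRadical
  have hpr : (y.map (algebraMap B D)).IsPrime :=
    IsLocalization.isPrime_of_isPrime_disjoint (Submonoid.powers h) D y inferInstance hdisj
  -- primes of `D` over `ϖ` contain `y`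
  have hcomap : ∀ P : Ideal D, P.IsPrime → algebraMap R D ϖ ∈ P → y ≤ P.comap (algebraMap B D) := by
    intro P hP hϖP
    have h1 : algebraMap R B ϖ ∈ P.comap (algebraMap B D) := by
      change algebraMap B D (algebraMap R B ϖ) ∈ P
      rwa [← IsScalarTower.algebraMap_apply]
    obtain ⟨y', hy', hle⟩ := Ideal.exists_minimalPrimes_le (I := Ideal.span {algebraMap R B ϖ})
      (J := P.comap (algebraMap B D)) ((Ideal.span_singleton_le_iff_mem _).mpr h1)
    by_cases he : y' = y
    · rw [← he]; exact hle
    · exfalso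
      have h2 : algebraMap B D h ∈ P := hle (hh y' hy' he)
      exact hP.ne_top (Ideal.eq_top_of_isUnit_mem _ h2 (IsLocalization.Away.algebraMap_isUnit h))
  have hsm : Algebra.Smooth R D := by
    have h1 : Algebra.FormallySmooth B D := Algebra.FormallySmooth.of_isLocalization (Submonoid.powers h)
    have h2 : Algebra.FinitePresentation B D := IsLocalization.Away.finitePresentation h
    have h3 : Algebra.Smooth B D := ⟨h1, h2⟩
    exact Algebra.Smooth.comp R B D
  refine ⟨h, hhy, hsm, isOpenImmersion_res h p, ⟨y.map (algebraMap B D), hpr, ?_, ?_⟩, ?_⟩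
  · rw [IsScalarTower.algebraMap_apply R B D]
    exact Ideal.mem_map_of_mem _ hyϖ
  · intro P hP hϖP
    rw [Ideal.map_le_iff_le_comap]
    exact hcomap P hP hϖP
  · intro P hP hϖP
    have h1 : algebraMap R B ϖ ∈ P.comap (algebraMap B D) := by
      change algebraMap B D (algebraMap R B ϖ) ∈ P
      rwa [← IsScalarTower.algebraMap_apply]
    refine PIdx.away T h P ?_
    obtain ⟨n, hn'⟩ := exists_PIdx T hϖ p (P.comap (algebraMap B D)) h1
    have h2 : PIdx T ϖ p y n := PIdx.of_le T (hcomap P hP hϖP) hn'
    have h3 : n = n₀ := PIdx.unique T hϖ hyϖ h2 hn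
    rw [← h3]
    exact hn'

end Exists

end Groth.Agent.Sga7.H244
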