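import Groth.Agent.Sga7.H244.LocalIdx
import Mathlib.RingTheory.Localization.LocalizationLocalization
import Mathlib.RingTheory.Ideal.MinimalPrime.Noetherian

/-!
# The minimal index of a finite family of charts
-/

set_option autoImplicit false

universe u v

open CategoryTheory CategoryTheory.Limits MonoidalCategory CartesianMonoidalCategory AlgebraicGeometry
  MonObj KaehlerDifferential

namespace Groth.Agent.Sga7.H244

open Index

section Defs

variable {R K : Type u} [CommRing R] [Field K] [Algebra R K] {A : Over (Spec (CommRingCat.of K))}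

variable (R K A) in
/-- A ring chart: a smooth `R`-algebra with an open immersion of its generic fibre into `A`. -/
structure RC where
  B : Type u
  [commRing : CommRing B]
  [algebra : Algebra R B]
  [smooth : Algebra.Smooth R B]
  p : SpecOver K (G R K B) ⟶ A
  [openImmersion : IsOpenImmersion p.left]

attribute [instance] RC.commRing RC.algebra RC.smooth RC.openImmersion

variable [GrpObj A] (T : TanChart A)

/-- The index of the point `p ∈ A(K ⊗ B)` at the prime `y`. -/
def PIdx (ϖ : R) {B : Type u} [CommRing B] [Algebra R B] (p : SpecOver K (G R K B) ⟶ A)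
    (y : Ideal B) [y.IsPrime] (n : ℤ) : Prop :=
  HasIdx R K (Localization.AtPrime y) (G R K (Localization.AtPrime y)) ϖ
    (T.dlog K (res (S' := G R K (Localization.AtPrime y)) p)) n

/-- Transfer of the index along a localization. -/
theorem hasIdx_localization {ϖ : R} {B O O' : Type u} [CommRing B] [CommRing O] [CommRing O']
    [Algebra R B] [Algebra R O] [Algebra R O'] [Algebra B O] [Algebra B O'] [Algebra O O']
    [IsScalarTower R B O] [IsScalarTower R B O'] [IsScalarTower B O O'] [IsScalarTower R O O']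
    (M : Submonoid O) [IsLocalization M O'] (p : SpecOver K (G R K B) ⟶ A) {n : ℤ}
    (hn : HasIdx R K O (G R K O) ϖ (T.dlog K (res (S' := G R K O) p)) n) :
    HasIdx R K O' (G R K O') ϖ (T.dlog K (res (S' := G R K O') p)) n := by
  have : Algebra.FormallyEtale O O' := Algebra.FormallyEtale.of_isLocalization M
  refine HasIdx.map (R' := R) (K' := K) hn (KB.of_formallyEtale R O O') _ ?_
  intro i
  rw [← T.dlog_res (K' := K) (K'' := K) (S := G R K O) (S' := G R K O'), res_res]

theorem PIdx.of_le {ϖ : R} {B : Type u} [CommRing B] [Algebra R B] {p : SpecOver K (G R K B) ⟶ A}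
    {ξ y : Ideal B} [ξ.IsPrime] [y.IsPrime] (h : ξ ≤ y) {n : ℤ} (hn : PIdx T ϖ p y n) :
    PIdx T ϖ p ξ n := by
  have hle : y.primeCompl ≤ ξ.primeCompl := fun x hx hx' => hx (h hx')
  let _ : Algebra (Localization.AtPrime y) (Localization.AtPrime ξ) :=
    IsLocalization.localizationAlgebraOfSubmonoidLe _ _ y.primeCompl ξ.primeCompl hle
  have h1 : IsScalarTower B (Localization.AtPrime y) (Localization.AtPrime ξ) :=
    IsLocalization.localization_isScalarTower_of_submonoid_le _ _ y.primeCompl ξ.primeCompl hle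
  have h2 : IsLocalization (ξ.primeCompl.map (algebraMap B (Localization.AtPrime y)))
      (Localization.AtPrime ξ) :=
    IsLocalization.isLocalization_of_submonoid_le _ _ y.primeCompl ξ.primeCompl hle
  have h3 : IsScalarTower R (Localization.AtPrime y) (Localization.AtPrime ξ) :=
    IsScalarTower.of_algebraMap_eq fun x => by
      rw [IsScalarTower.algebraMap_apply R B (Localization.AtPrime y),
        ← IsScalarTower.algebraMap_apply B (Localization.AtPrime y) (Localization.AtPrime ξ),
        ← IsScalarTower.algebraMap_apply R B]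
  exact hasIdx_localization T (ξ.primeCompl.map (algebraMap B (Localization.AtPrime y))) p hn

end Defs

section DVR

variable {R K : Type u} [CommRing R] [IsDomain R] [IsDiscreteValuationRing R] [Field K] [Algebra R K]
  [IsFractionRing R K] {A : Over (Spec (CommRingCat.of K))} [GrpObj A] (T : TanChart A) {ϖ : R}
  (hϖ : Irreducible ϖ)

include hϖ in
theorem exists_PIdx {B : Type u} [CommRing B] [Algebra R B] [Algebra.Smooth R B]
    (p : SpecOver K (G R K B) ⟶ A) [IsOpenImmersion p.left] (y : Ideal B) [y.IsPrime]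
    (hy : algebraMap R B ϖ ∈ y) : ∃ n, PIdx T ϖ p y n :=
  exists_idx T hϖ y hy (Localization.AtPrime y) p

omit [IsDiscreteValuationRing R] in
include hϖ in
theorem hasIdx_unique {O : Type u} [CommRing O] [Algebra R O] [Module.Flat R O]
    (hO : ¬ IsUnit (algebraMap R O ϖ)) {d : ℕ} {θ : Fin d → Ω[G R K O⁄K]} {n n' : ℤ}
    (hn : HasIdx R K O (G R K O) ϖ θ n) (hn' : HasIdx R K O (G R K O) ϖ θ n') : n = n' :=
  HasIdx.unique hn hn' (KB.of_isPushout R K O (G R K O)) (G.algebraMap_injective R K O) hO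
    (mem_nonZeroDivisors_of_flat hϖ.ne_zero O)

include hϖ in
theorem PIdx.unique {B : Type u} [CommRing B] [Algebra R B] [Module.Flat R B]
    {p : SpecOver K (G R K B) ⟶ A} {y : Ideal B} [y.IsPrime]
    (hy : algebraMap R B ϖ ∈ y) {n n' : ℤ} (hn : PIdx T ϖ p y n) (hn' : PIdx T ϖ p y n') :
    n = n' := by
  have : Module.Flat R (Localization.AtPrime y) := flat_atPrime y (Localization.AtPrime y)
  exact hasIdx_unique hϖ (not_isUnit_atPrime y (Localization.AtPrime y) hy) hn hn'

/-- `ξ` is a generic point of the special fibre. -/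
def IsGenPt (ϖ : R) {B : Type u} [CommRing B] [Algebra R B] (ξ : Ideal B) : Prop :=
  ξ ∈ (Ideal.span {algebraMap R B ϖ}).minimalPrimes

include hϖ in
/-- A finite family of charts, one of which has non-empty special fibre, has a minimal index. -/
theorem exists_minimal {I : Type v} [Finite I] (W : I → RC R K A) (i₁ : I) (y₁ : Ideal (W i₁).B)
    [y₁.IsPrime] (hy₁ : algebraMap R (W i₁).B ϖ ∈ y₁) :
    ∃ (n₀ : ℤ) (i₀ : I) (ξ₀ : Ideal (W i₀).B) (_ : ξ₀.IsPrime), IsGenPt ϖ ξ₀ ∧
      PIdx T ϖ (W i₀).p ξ₀ n₀ ∧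
      ∀ (i : I) (y : Ideal (W i).B) [y.IsPrime] (_ : algebraMap R (W i).B ϖ ∈ y) (n : ℤ),
        PIdx T ϖ (W i).p y n → n₀ ≤ n := by
  have hno : ∀ i, IsNoetherianRing (W i).B := fun i => Algebra.FiniteType.isNoetherianRing R _
  let P := Σ i : I, {ξ : Ideal (W i).B // IsGenPt ϖ ξ}
  have hP : Finite P := by
    have : ∀ i, Finite {ξ : Ideal (W i).B // IsGenPt ϖ ξ} := fun i =>
      ((Ideal.span {algebraMap R (W i).B ϖ}).finite_minimalPrimes_of_isNoetherianRing).to_subtype
    infer_instance
  have hprime : ∀ c : P, c.2.1.IsPrime := fun c => c.2.2.1.1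
  have hmem : ∀ c : P, algebraMap R (W c.1).B ϖ ∈ c.2.1 := fun c =>
    c.2.2.1.2 (Ideal.mem_span_singleton_self _)
  have hex : ∀ c : P, ∃ n, @PIdx R K _ _ _ A _ T ϖ _ _ _ (W c.1).p c.2.1 (hprime c) n := fun c => by
    have := hprime c
    exact exists_PIdx T hϖ (W c.1).p c.2.1 (hmem c)
  choose n hn using hex
  have hbelow : ∀ (i : I) (y : Ideal (W i).B) [y.IsPrime] (_ : algebraMap R (W i).B ϖ ∈ y),
      ∃ ξ : Ideal (W i).B, IsGenPt ϖ ξ ∧ ξ ≤ y := by
    intro i y _ hy
    obtain ⟨ξ, hξ, hle⟩ := Ideal.exists_minimalPrimes_le (I := Ideal.span {algebraMap R (W i).B ϖ})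
      (J := y) ((Ideal.span_singleton_le_iff_mem _).mpr hy)
    exact ⟨ξ, hξ, hle⟩
  obtain ⟨ξ₁, hξ₁, -⟩ := hbelow i₁ y₁ hy₁
  have : Nonempty P := ⟨⟨i₁, ξ₁, hξ₁⟩⟩
  obtain ⟨c, hc⟩ := Finite.exists_min n
  refine ⟨n c, c.1, c.2.1, hprime c, c.2.2, hn c, ?_⟩
  intro i y _ hy m hm
  obtain ⟨ξ, hξ, hle⟩ := hbelow i y hy
  let c' : P := ⟨i, ξ, hξ⟩
  have hpr : ξ.IsPrime := hprime c'
  have h1 : PIdx T ϖ (W i).p ξ m := PIdx.of_le T hle hm
  have h2 : m = n c' := PIdx.unique T hϖ (hmem c') h1 (hn c')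
  rw [h2]
  exact hc c'

end DVR

end Groth.Agent.Sga7.H244
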