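import Groth.Agent.Sga7.H116.L1

/-!
# Flat morphisms which are monomorphisms on generic fibres are open immersions
-/

set_option autoImplicit false
universe u

open CategoryTheory CategoryTheory.Limits AlgebraicGeometry

namespace Groth.Agent.Sga7.H244

open Groth.Agent.Sga7.H116.L1

variable (R K : Type u) [CommRing R] [IsDomain R] [Field K] [Algebra R K] [IsFractionRing R K]

/-- A flat morphism between `R`-schemes with separated source flat over `R` which is a
monomorphism on generic fibres is a monomorphism. -/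
theorem mono_of_flat {X Y : Scheme.{u}} (f : X ⟶ Y) (x : X ⟶ Spec (CommRingCat.of R))
    (y : Y ⟶ Spec (CommRingCat.of R)) (h : f ≫ y = x) [Flat x] [IsSeparated x] [Flat f]
    (hm : ∀ (T : Scheme.{u}) (t : T ⟶ Spec (CommRingCat.of K)) (a b : T ⟶ X),
      a ≫ x = t ≫ gen R K → b ≫ x = t ≫ gen R K → a ≫ f = b ≫ f → a = b) : Mono f := by
  let p1 : pullback f f ⟶ X := pullback.fst f f
  let p2 : pullback f f ⟶ X := pullback.snd f f
  have hp : p1 ≫ f = p2 ≫ f := pullback.condition
  have hps : p1 ≫ x = p2 ≫ x := by rw [← h, reassoc_of% hp]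
  have hp1 : Flat p1 := inferInstanceAs (Flat (pullback.fst f f))
  have hfl : Flat (p1 ≫ x) := inferInstance
  let γ := pullback.fst (p1 ≫ x) (gen R K)
  have hγ : IsSchemeTheoreticallyDominant γ :=
    inferInstanceAs (IsSchemeTheoreticallyDominant (pullback.fst (p1 ≫ x) (gen R K)))
  have hcond : γ ≫ p1 ≫ x = pullback.snd (p1 ≫ x) (gen R K) ≫ gen R K := pullback.condition
  have key : p1 = p2 := by
    refine ext_of_schemeDominant γ x p1 p2 hps ?_
    refine hm _ (pullback.snd (p1 ≫ x) (gen R K)) (γ ≫ p1) (γ ≫ p2) ?_ ?_ ?_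
    · rw [Category.assoc, hcond]
    · rw [Category.assoc, ← hps, hcond]
    · rw [Category.assoc, Category.assoc, hp]
  constructor
  intro T a b h
  have h1 : pullback.lift a b h ≫ p1 = a := pullback.lift_fst _ _ _
  have h2 : pullback.lift a b h ≫ p2 = b := pullback.lift_snd _ _ _
  exact h1.symm.trans ((congrArg (pullback.lift a b h ≫ ·) key).trans h2)

/-- Flat, locally of finite presentation and a monomorphism on generic fibres implies open
immersion. -/
theorem isOpenImmersion_of_flat {X Y : Scheme.{u}} (f : X ⟶ Y) (x : X ⟶ Spec (CommRingCat.of R))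
    (y : Y ⟶ Spec (CommRingCat.of R)) (h : f ≫ y = x) [Flat x] [IsSeparated x] [Flat f]
    [LocallyOfFinitePresentation f]
    (hm : ∀ (T : Scheme.{u}) (t : T ⟶ Spec (CommRingCat.of K)) (a b : T ⟶ X),
      a ≫ x = t ≫ gen R K → b ≫ x = t ≫ gen R K → a ≫ f = b ≫ f → a = b) :
    IsOpenImmersion f := by
  have := mono_of_flat R K f x y h hm
  exact IsOpenImmersion.of_flat_of_mono f

end Groth.Agent.Sga7.H244
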