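import Groth.Agent.Sga7.H244.RingChart
import Groth.Agent.Sga7.H244.MainRing
import Groth.Agent.Sga7.H244.OpenCrit

/-!
# The graph morphism is an open immersion near a point of minimal index
-/

set_option autoImplicit false

universe u v

open CategoryTheory CategoryTheory.Limits MonoidalCategory CartesianMonoidalCategory AlgebraicGeometry
  MonObj KaehlerDifferential

namespace Groth.Agent.Sga7.H244

open Index Charts

variable {R K : Type u} [CommRing R] [IsDomain R] [IsDiscreteValuationRing R] [Field K] [Algebra R K]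
  [IsFractionRing R K] {A : Over (Spec (CommRingCat.of K))} [GrpObj A] [IsCommMonObj A]
  (T : TanChart A) {ϖ : R} (hϖ : Irreducible ϖ)

/-- The graph morphism `Spec D ⟶ Spec Q × Spec B`. -/
noncomputable def graph (R Q B D : Type u) [CommRing R] [CommRing Q] [CommRing B] [CommRing D]
    [Algebra R Q] [Algebra R B] [Algebra R D] [Algebra Q D] [Algebra B D] [IsScalarTower R Q D]
    [IsScalarTower R B D] :
    Spec (CommRingCat.of D) ⟶ pullback (Spec.map (CommRingCat.ofHom (algebraMap R Q)))
      (Spec.map (CommRingCat.ofHom (algebraMap R B))) :=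
  pullback.lift (Spec.map (CommRingCat.ofHom (algebraMap Q D)))
    (Spec.map (CommRingCat.ofHom (algebraMap B D))) (by
      rw [← Spec.map_comp, ← Spec.map_comp, ← CommRingCat.ofHom_comp, ← CommRingCat.ofHom_comp,
        ← IsScalarTower.algebraMap_eq, ← IsScalarTower.algebraMap_eq])

omit [IsDomain R] [IsDiscreteValuationRing R] [IsFractionRing R K] [IsCommMonObj A] in
/-- The functional equation on `T`-valued points. -/
theorem pt_eq_mul {Q B' B D : Type u} [CommRing Q] [CommRing B'] [CommRing B] [CommRing D]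
    [Algebra R Q] [Algebra R B'] [Algebra R B] [Algebra R D] [Algebra Q D] [Algebra B' D]
    [Algebra B D] [IsScalarTower R Q D] [IsScalarTower R B' D] [IsScalarTower R B D]
    (p : SpecOver K (G R K B) ⟶ A) (q : SpecOver K (G R K Q) ⟶ A)
    (p' : SpecOver K (G R K B') ⟶ A)
    (hp : res (S' := G R K D) p = res p' * res q)
    {U : Over (Spec (CommRingCat.of K))} (a : U.left ⟶ Spec (CommRingCat.of D))
    (h : a ≫ Spec.map (CommRingCat.ofHom (algebraMap R D)) = U.hom ≫ gen R K)
    (h₁ : (a ≫ Spec.map (CommRingCat.ofHom (algebraMap B D))) ≫ (ofRing p).x = U.hom ≫ gen R K)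
    (h₂ : (a ≫ Spec.map (CommRingCat.ofHom (algebraMap B' D))) ≫ (ofRing p').x = U.hom ≫ gen R K)
    (h₃ : (a ≫ Spec.map (CommRingCat.ofHom (algebraMap Q D))) ≫ (ofRing q).x = U.hom ≫ gen R K) :
    (ofRing p).pt (a ≫ Spec.map (CommRingCat.ofHom (algebraMap B D))) h₁ =
      (ofRing p').pt (a ≫ Spec.map (CommRingCat.ofHom (algebraMap B' D))) h₂ *
      (ofRing q).pt (a ≫ Spec.map (CommRingCat.ofHom (algebraMap Q D))) h₃ := by
  rw [pt_ofRing p a h, pt_ofRing p' a h, pt_ofRing q a h, hp, MonObj.comp_mul]

include hϖ in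
theorem exists_isOpenImmersion_graph {Q B' B E D : Type u} [CommRing Q] [CommRing B'] [CommRing B]
    [CommRing E] [CommRing D]
    [Algebra R Q] [Algebra R B'] [Algebra R B] [Algebra R E] [Algebra R D]
    [Algebra Q E] [Algebra B' E] [IsScalarTower R Q E] [IsScalarTower R B' E]
    [Algebra.IsPushout R Q B' E]
    [Algebra Q D] [Algebra B' D] [Algebra B D] [Algebra E D] [IsScalarTower R Q D]
    [IsScalarTower R B' D] [IsScalarTower R B D] [IsScalarTower R E D]
    [IsScalarTower Q E D] [IsScalarTower B' E D] (s : E) [IsLocalization.Away s D]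
    [Algebra.Smooth R Q] [Algebra.Smooth R B'] [Algebra.Smooth R B]
    (ζ : Ideal D) [ζ.IsPrime] (hζ : algebraMap R D ϖ ∈ ζ)
    (p : SpecOver K (G R K B) ⟶ A) [IsOpenImmersion p.left]
    (q : SpecOver K (G R K Q) ⟶ A)
    (p' : SpecOver K (G R K B') ⟶ A) [Mono p'.left]
    (hp : res (S' := G R K D) p = res p' * res q) (n₀ : ℤ)
    (hlow : ∀ (y : Ideal B) [y.IsPrime] (_ : algebraMap R B ϖ ∈ y) (n : ℤ),
        PIdx T ϖ p y n → n₀ ≤ n)
    (hn' : PIdx T ϖ p' (ζ.comap (algebraMap B' D)) n₀) :
    PIdx T ϖ p (ζ.comap (algebraMap B D)) n₀ ∧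
      (∃ (U : (Spec (CommRingCat.of D)).Opens), (⟨ζ, inferInstance⟩ : PrimeSpectrum D) ∈ U ∧
        IsOpenImmersion (U.ι ≫ graph R Q B D)) := by
  -- smoothness of `E` and `D`
  have hEsm : Algebra.Smooth Q E :=
    Algebra.Smooth.of_equiv (Algebra.IsPushout.equiv R Q B' E)
  have hEsm' : Algebra.Smooth R E := Algebra.Smooth.comp R Q E
  have hfpD : Algebra.FinitePresentation E D := IsLocalization.Away.finitePresentation s
  have hfsD : Algebra.FormallyEtale E D :=
    Algebra.FormallyEtale.of_isLocalization (Submonoid.powers s)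
  have hDsm0 : Algebra.Smooth E D := ⟨inferInstance, hfpD⟩
  have hDsm : Algebra.Smooth R D := Algebra.Smooth.comp R E D
  let W := Localization.AtPrime ζ
  have hfeW : Algebra.FormallyEtale D W := Algebra.FormallyEtale.of_isLocalization ζ.primeCompl
  have hfeW' : Algebra.FormallyEtale E W := Algebra.FormallyEtale.comp E D W
  have hfsW : Algebra.FormallySmooth Q W := Algebra.FormallySmooth.comp Q E W
  have hKB1 : KB R Q B' E := KB.of_isPushout R Q B' E
  have hKB2 : KB Q Q E W := KB.of_formallyEtale Q E W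
  have t1 : IsScalarTower B' E W := IsScalarTower.of_algebraMap_eq fun x => by
    rw [IsScalarTower.algebraMap_apply B' D W, IsScalarTower.algebraMap_apply B' E D,
      ← IsScalarTower.algebraMap_apply E D W]
  have hKB : KB R Q B' W := KB.trans hKB1 hKB2
  -- the target of the graph
  let P := TensorProduct R Q B
  let _ : Algebra B P := Algebra.TensorProduct.rightAlgebra
  let lft : P →ₐ[R] D := Algebra.TensorProduct.lift (IsScalarTower.toAlgHom R Q D)
    (IsScalarTower.toAlgHom R B D) (fun _ _ => Commute.all _ _)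
  let _ : Algebra P D := lft.toRingHom.toAlgebra
  have t2 : IsScalarTower R P D := IsScalarTower.of_algebraMap_eq fun x => (lft.commutes x).symm
  have t3 : IsScalarTower Q P D := IsScalarTower.of_algebraMap_eq fun x => by
    change algebraMap Q D x = lft (x ⊗ₜ 1)
    rw [Algebra.TensorProduct.lift_tmul, map_one, _root_.mul_one]
    rfl
  have t4 : IsScalarTower B P D := IsScalarTower.of_algebraMap_eq fun x => by
    change algebraMap B D x = lft (1 ⊗ₜ x)
    rw [Algebra.TensorProduct.lift_tmul, map_one, _root_.one_mul]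
    rfl
  have hPft : Algebra.FiniteType R P := by
    have : Algebra.Smooth R P := Algebra.Smooth.comp R Q P
    infer_instance
  obtain ⟨hidx, h, hh, hsm⟩ := main_ring T hϖ (Q := Q) (B' := B') (B := B) (P := P) (D := D) ζ hζ
    hKB p q p' hp n₀ hlow hn'
  refine ⟨hidx, PrimeSpectrum.basicOpen h, hh, ?_⟩
  -- reduce to `Spec D_h`
  let Dh := Localization.Away h
  let jh : Spec (CommRingCat.of Dh) ⟶ Spec (CommRingCat.of D) :=
    Spec.map (CommRingCat.ofHom (algebraMap D Dh))
  have hjh : IsOpenImmersion jh := inferInstance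
  let f := jh ≫ graph R Q B D
  let y := pullback.fst (Spec.map (CommRingCat.ofHom (algebraMap R Q)))
    (Spec.map (CommRingCat.ofHom (algebraMap R B))) ≫ Spec.map (CommRingCat.ofHom (algebraMap R Q))
  let x : Spec (CommRingCat.of Dh) ⟶ Spec (CommRingCat.of R) :=
    Spec.map (CommRingCat.ofHom (algebraMap R Dh))
  have hjx : jh ≫ Spec.map (CommRingCat.ofHom (algebraMap R D)) = x := by
    change Spec.map _ ≫ Spec.map _ = Spec.map _
    rw [← Spec.map_comp, ← CommRingCat.ofHom_comp, ← IsScalarTower.algebraMap_eq]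
  have hg1 : graph R Q B D ≫ pullback.fst _ _ = Spec.map (CommRingCat.ofHom (algebraMap Q D)) :=
    pullback.lift_fst _ _ _
  have hg2 : graph R Q B D ≫ pullback.snd _ _ = Spec.map (CommRingCat.ofHom (algebraMap B D)) :=
    pullback.lift_snd _ _ _
  have hfe : f = Spec.map (CommRingCat.ofHom (algebraMap P Dh)) ≫ (pullbackSpecIso R Q B).inv := by
    apply pullback.hom_ext
    · rw [Category.assoc, Category.assoc, hg1, pullbackSpecIso_inv_fst, ← Spec.map_comp,
        ← Spec.map_comp, ← CommRingCat.ofHom_comp, ← CommRingCat.ofHom_comp]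
      congr 2
      rw [← IsScalarTower.algebraMap_eq]
      exact IsScalarTower.algebraMap_eq Q P Dh
    · rw [Category.assoc, Category.assoc, hg2, pullbackSpecIso_inv_snd, ← Spec.map_comp,
        ← Spec.map_comp, ← CommRingCat.ofHom_comp, ← CommRingCat.ofHom_comp]
      congr 2
      rw [← IsScalarTower.algebraMap_eq]
      exact IsScalarTower.algebraMap_eq B P Dh
  have hsmf : Smooth f := by
    have h1 : Smooth (Spec.map (CommRingCat.ofHom (algebraMap P Dh))) := by
      rw [HasRingHomProperty.Spec_iff (P := @Smooth)]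
      exact RingHom.smooth_algebraMap.mpr hsm
    rw [hfe]
    infer_instance
  have hfly : f ≫ y = x := by
    change (jh ≫ graph R Q B D) ≫ pullback.fst _ _ ≫ Spec.map (CommRingCat.ofHom (algebraMap R Q)) = x
    rw [Category.assoc, reassoc_of% hg1, ← hjx]
    congr 1
    rw [← Spec.map_comp, ← CommRingCat.ofHom_comp, ← IsScalarTower.algebraMap_eq]
  have hflx : Flat x := by
    rw [HasRingHomProperty.Spec_iff (P := @Flat)]
    change (algebraMap R Dh).Flat
    rw [RingHom.flat_algebraMap_iff]
    have : Module.Flat D Dh := IsLocalization.flat Dh (Submonoid.powers h)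
    exact Module.Flat.trans R D Dh
  have hmonoE : Mono (Spec.map (CommRingCat.ofHom (algebraMap E D))) := by
    have : IsOpenImmersion (Spec.map (CommRingCat.ofHom (algebraMap E D))) :=
      IsOpenImmersion.of_isLocalization s
    infer_instance
  have hopen : IsOpenImmersion f := by
    refine isOpenImmersion_of_flat R K f x y hfly ?_
    intro U t a b ha hb hab
    let U' : Over (Spec (CommRingCat.of K)) := Over.mk t
    have hab1 : (a ≫ jh) ≫ Spec.map (CommRingCat.ofHom (algebraMap Q D)) =
        (b ≫ jh) ≫ Spec.map (CommRingCat.ofHom (algebraMap Q D)) := by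
      have := congrArg (· ≫ pullback.fst _ _) hab
      simpa only [f, Category.assoc, hg1] using this
    have hab2 : (a ≫ jh) ≫ Spec.map (CommRingCat.ofHom (algebraMap B D)) =
        (b ≫ jh) ≫ Spec.map (CommRingCat.ofHom (algebraMap B D)) := by
      have := congrArg (· ≫ pullback.snd _ _) hab
      simpa only [f, Category.assoc, hg2] using this
    have hstr : ∀ (c : U ⟶ Spec (CommRingCat.of Dh)) (_ : c ≫ x = t ≫ gen R K),
        (c ≫ jh) ≫ Spec.map (CommRingCat.ofHom (algebraMap R D)) = t ≫ gen R K := fun c hc => by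
      rw [Category.assoc, hjx, hc]
    have hstr' : ∀ (F : Type u) [CommRing F] [Algebra R F] [Algebra F D] [IsScalarTower R F D]
        (c : U ⟶ Spec (CommRingCat.of Dh)) (_ : c ≫ x = t ≫ gen R K),
        ((c ≫ jh) ≫ Spec.map (CommRingCat.ofHom (algebraMap F D))) ≫
          Spec.map (CommRingCat.ofHom (algebraMap R F)) = t ≫ gen R K := fun F _ _ _ _ c hc => by
      rw [Category.assoc, ← Spec.map_comp, ← CommRingCat.ofHom_comp,
        ← IsScalarTower.algebraMap_eq, hstr c hc]
    have ea := pt_eq_mul p q p' hp (U := U') (a ≫ jh) (hstr a ha) (hstr' B a ha) (hstr' B' a ha)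
      (hstr' Q a ha)
    have eb := pt_eq_mul p q p' hp (U := U') (b ≫ jh) (hstr b hb) (hstr' B b hb) (hstr' B' b hb)
      (hstr' Q b hb)
    have e1 := pt_congr (ofRing p) (T := U') hab2 (hstr' B a ha) (hstr' B b hb)
    have e2 := pt_congr (ofRing q) (T := U') hab1 (hstr' Q a ha) (hstr' Q b hb)
    have ec0 := (ea.symm.trans (e1.trans eb)).trans (congrArg (fun z => (ofRing p').pt (T := U')
      ((b ≫ jh) ≫ Spec.map (CommRingCat.ofHom (algebraMap B' D))) (hstr' B' b hb) * z) e2.symm)
    have ec := mul_right_cancel ec0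
    have : Mono (ofRing p').φ := ‹Mono p'.left›
    have hab3 : (b ≫ jh) ≫ Spec.map (CommRingCat.ofHom (algebraMap B' D)) =
        (a ≫ jh) ≫ Spec.map (CommRingCat.ofHom (algebraMap B' D)) :=
      pt_injective (ofRing p') (T := U') _ _ ec.symm
    have hpb := isPullback_SpecMap_of_isPushout _ _ _ _
      (CommRingCat.isPushout_of_isPushout R Q B' E)
    have hab4 : (a ≫ jh) ≫ Spec.map (CommRingCat.ofHom (algebraMap E D)) =
        (b ≫ jh) ≫ Spec.map (CommRingCat.ofHom (algebraMap E D)) := by
      apply hpb.hom_ext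
      · rw [Category.assoc, Category.assoc (b ≫ jh), ← Spec.map_comp, ← CommRingCat.ofHom_comp,
          ← IsScalarTower.algebraMap_eq]
        exact hab1
      · rw [Category.assoc, Category.assoc (b ≫ jh), ← Spec.map_comp, ← CommRingCat.ofHom_comp,
          ← IsScalarTower.algebraMap_eq]
        exact hab3.symm
    have hab5 := (cancel_mono _).mp hab4
    exact (cancel_mono jh).mp hab5
  let U : (Spec (CommRingCat.of D)).Opens := PrimeSpectrum.basicOpen h
  have hr : Set.range U.ι = Set.range jh := by
    rw [Scheme.Opens.range_ι]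
    exact (PrimeSpectrum.localization_away_comap_range Dh h).symm
  let e := IsOpenImmersion.isoOfRangeEq U.ι jh hr
  have he : e.hom ≫ jh = U.ι := IsOpenImmersion.isoOfRangeEq_hom_fac _ _ _
  change IsOpenImmersion (U.ι ≫ graph R Q B D)
  rw [← he, Category.assoc]
  change IsOpenImmersion (e.hom ≫ f)
  infer_instance

end Groth.Agent.Sga7.H244
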