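import Groth.Agent.Sga7.H244.Charts
import Groth.Agent.Sga7.H244.Gen
import Groth.Agent.Sga7.H244.DlogK
import Mathlib.AlgebraicGeometry.Pullbacks
import Mathlib.Algebra.Category.Ring.Constructions

/-!
# Charts attached to rings, and the calculus of `A`-valued points
-/

set_option autoImplicit false

universe u v

open CategoryTheory CategoryTheory.Limits MonoidalCategory CartesianMonoidalCategory AlgebraicGeometry
  MonObj

namespace Groth.Agent.Sga7.H244

open Charts

section Ring

variable {R K : Type u} [CommRing R] [Field K] [Algebra R K] {A : Over (Spec (CommRingCat.of K))}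

theorem isPullback_gen (B : Type u) [CommRing B] [Algebra R B] :
    IsPullback (Spec.map (CommRingCat.ofHom (algebraMap B (G R K B))))
      (Spec.map (CommRingCat.ofHom (algebraMap K (G R K B))))
      (Spec.map (CommRingCat.ofHom (algebraMap R B))) (gen R K) := by
  have h := CommRingCat.isPushout_of_isPushout R B K (G R K B)
  exact isPullback_SpecMap_of_isPushout _ _ _ _ h

/-- The chart attached to an `R`-algebra and a point of `A` over its generic fibre. -/
noncomputable def ofRing {B : Type u} [CommRing B] [Algebra R B] (p : SpecOver K (G R K B) ⟶ A) :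
    Chart R K A where
  X := Spec (CommRingCat.of B)
  x := Spec.map (CommRingCat.ofHom (algebraMap R B))
  XK := Spec (CommRingCat.of (G R K B))
  jX := Spec.map (CommRingCat.ofHom (algebraMap B (G R K B)))
  xK := Spec.map (CommRingCat.ofHom (algebraMap K (G R K B)))
  isPullback := isPullback_gen B
  φ := p.left
  hφ := Over.w p

end Ring

section Pt

variable {R K : Type u} [CommRing R] [Field K] [Algebra R K] {A : Over (Spec (CommRingCat.of K))}

theorem pt_comp (C : Chart R K A) {T T' : Over (Spec (CommRingCat.of K))} (s : T' ⟶ T)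
    (g : T.left ⟶ C.X) (h : g ≫ C.x = T.hom ≫ gen R K)
    (h' : (s.left ≫ g) ≫ C.x = T'.hom ≫ gen R K) :
    C.pt (s.left ≫ g) h' = s ≫ C.pt g h := by
  ext1
  change C.isPullback.lift (s.left ≫ g) T'.hom h' ≫ C.φ =
    s.left ≫ (C.isPullback.lift g T.hom h ≫ C.φ)
  rw [← Category.assoc]
  congr 1
  apply C.isPullback.hom_ext
  · rw [IsPullback.lift_fst, Category.assoc, IsPullback.lift_fst]
  · rw [IsPullback.lift_snd, Category.assoc, IsPullback.lift_snd, Over.w s]

theorem pt_congr (C : Chart R K A) {T : Over (Spec (CommRingCat.of K))}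
    {g g' : T.left ⟶ C.X} (e : g = g') (h : g ≫ C.x = T.hom ≫ gen R K)
    (h' : g' ≫ C.x = T.hom ≫ gen R K) : C.pt g h = C.pt g' h' := by
  subst e; rfl

theorem pt_injective (C : Chart R K A) [Mono C.φ] {T : Over (Spec (CommRingCat.of K))}
    {g g' : T.left ⟶ C.X} (h : g ≫ C.x = T.hom ≫ gen R K)
    (h' : g' ≫ C.x = T.hom ≫ gen R K) (e : C.pt g h = C.pt g' h') : g = g' := by
  have e1 : C.isPullback.lift g T.hom h ≫ C.φ = C.isPullback.lift g' T.hom h' ≫ C.φ :=
    congrArg (fun t => t.left) e
  have e2 := (cancel_mono C.φ).mp e1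
  rw [← C.isPullback.lift_fst g T.hom h, e2, C.isPullback.lift_fst]

/-- The point over `K` of the generic fibre attached to a `T`-valued point of `Spec D`. -/
noncomputable def liftOver {D : Type u} [CommRing D] [Algebra R D]
    {T : Over (Spec (CommRingCat.of K))} (a : T.left ⟶ Spec (CommRingCat.of D))
    (h : a ≫ Spec.map (CommRingCat.ofHom (algebraMap R D)) = T.hom ≫ gen R K) :
    T ⟶ SpecOver K (G R K D) :=
  Over.homMk ((isPullback_gen D).lift a T.hom h) ((isPullback_gen D).lift_snd _ _ _)

theorem specMap_G (B D : Type u) [CommRing B] [CommRing D] [Algebra R B] [Algebra R D] [Algebra B D]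
    [IsScalarTower R B D] :
    Spec.map (CommRingCat.ofHom (algebraMap (G R K B) (G R K D))) ≫
      Spec.map (CommRingCat.ofHom (algebraMap B (G R K B))) =
    Spec.map (CommRingCat.ofHom (algebraMap D (G R K D))) ≫
      Spec.map (CommRingCat.ofHom (algebraMap B D)) := by
  rw [← Spec.map_comp, ← Spec.map_comp, ← CommRingCat.ofHom_comp, ← CommRingCat.ofHom_comp,
    ← IsScalarTower.algebraMap_eq, ← IsScalarTower.algebraMap_eq]

theorem pt_ofRing {B D : Type u} [CommRing B] [CommRing D] [Algebra R B] [Algebra R D] [Algebra B D]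
    [IsScalarTower R B D] (p : SpecOver K (G R K B) ⟶ A)
    {T : Over (Spec (CommRingCat.of K))} (a : T.left ⟶ Spec (CommRingCat.of D))
    (h : a ≫ Spec.map (CommRingCat.ofHom (algebraMap R D)) = T.hom ≫ gen R K)
    (h' : (a ≫ Spec.map (CommRingCat.ofHom (algebraMap B D))) ≫ (ofRing p).x = T.hom ≫ gen R K) :
    (ofRing p).pt (a ≫ Spec.map (CommRingCat.ofHom (algebraMap B D))) h' =
      liftOver a h ≫ res (S' := G R K D) p := by
  ext1
  change (isPullback_gen B).lift (a ≫ Spec.map (CommRingCat.ofHom (algebraMap B D))) T.hom h' ≫ p.left =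
    (isPullback_gen D).lift a T.hom h ≫
      (Spec.map (CommRingCat.ofHom (algebraMap (G R K B) (G R K D))) ≫ p.left)
  rw [← Category.assoc]
  congr 1
  apply (isPullback_gen B).hom_ext
  · rw [IsPullback.lift_fst, Category.assoc, specMap_G, ← Category.assoc, IsPullback.lift_fst]
  · rw [IsPullback.lift_snd, Category.assoc, ← Spec.map_comp, ← CommRingCat.ofHom_comp,
      ← IsScalarTower.algebraMap_eq, IsPullback.lift_snd]

end Pt

end Groth.Agent.Sga7.H244
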