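import Groth.Agent.Sga7.H244.Coord
import Mathlib.AlgebraicGeometry.OpenImmersion
import Mathlib.AlgebraicGeometry.AffineScheme
import Mathlib.AlgebraicGeometry.Group.Abelian

/-!
# Affine schemes over `Spec K` and morphisms into a `K`-scheme
-/

set_option autoImplicit false

universe u

open CategoryTheory CategoryTheory.Limits MonoidalCategory CartesianMonoidalCategory AlgebraicGeometry

namespace Groth.Agent.Sga7.H244

section

variable (K : Type u) [CommRing K]

/-- `Spec S` as a scheme over `Spec K`. -/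
noncomputable abbrev SpecOver (S : Type u) [CommRing S] [Algebra K S] :
    Over (Spec (CommRingCat.of K)) :=
  Over.mk (Spec.map (CommRingCat.ofHom (algebraMap K S)))

variable {K} {S S' S'' : Type u} [CommRing S] [CommRing S'] [CommRing S''] [Algebra K S] [Algebra K S']
  [Algebra K S'']

/-- The morphism attached to a `K`-algebra map. -/
noncomputable def specMap (f : S →ₐ[K] S') : SpecOver K S' ⟶ SpecOver K S :=
  Over.homMk (Spec.map (CommRingCat.ofHom f.toRingHom)) (by
    change Spec.map _ ≫ Spec.map _ = Spec.map _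
    rw [← Spec.map_comp, ← CommRingCat.ofHom_comp]
    congr 2
    exact f.comp_algebraMap)

@[simp] theorem specMap_left (f : S →ₐ[K] S') :
    (specMap f).left = Spec.map (CommRingCat.ofHom f.toRingHom) := rfl

theorem specMap_id : specMap (AlgHom.id K S) = 𝟙 _ := by
  ext1
  change Spec.map (CommRingCat.ofHom (RingHom.id S)) = _
  rw [CommRingCat.ofHom_id, Spec.map_id]
  rfl

theorem specMap_comp (f : S →ₐ[K] S') (g : S' →ₐ[K] S'') :
    specMap (g.comp f) = specMap g ≫ specMap f := by
  ext1
  change Spec.map (CommRingCat.ofHom (g.toRingHom.comp f.toRingHom)) = Spec.map _ ≫ Spec.map _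
  rw [CommRingCat.ofHom_comp, Spec.map_comp]

theorem specMap_injective {f g : S →ₐ[K] S'} (h : specMap f = specMap g) : f = g := by
  have h1 : Spec.map (CommRingCat.ofHom f.toRingHom) = Spec.map (CommRingCat.ofHom g.toRingHom) :=
    congrArg (fun t => t.left) h
  have h2 := Spec.map_injective h1
  have h3 : f.toRingHom = g.toRingHom := congrArg CommRingCat.Hom.hom h2
  exact AlgHom.coe_ringHom_injective h3

variable {A : Over (Spec (CommRingCat.of K))} {B P : Type u} [CommRing B] [Algebra K B] [CommRing P]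
  [Algebra K P]

theorem specMap_comp_injective (j : SpecOver K B ⟶ A) [Mono j.left] {f g : B →ₐ[K] P}
    (h : specMap f ≫ j = specMap g ≫ j) : f = g := by
  have : Mono j := Over.mono_of_mono_left j
  exact specMap_injective ((cancel_mono j).mp h)

/-- A `K`-morphism between affine schemes comes from a `K`-algebra map. -/
theorem exists_specMap (g : SpecOver K P ⟶ SpecOver K B) : ∃ φ : B →ₐ[K] P, specMap φ = g := by
  have hw : g.left ≫ Spec.map (CommRingCat.ofHom (algebraMap K B)) =
      Spec.map (CommRingCat.ofHom (algebraMap K P)) := Over.w g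
  let φ : B →+* P := (Spec.preimage g.left).hom
  have hφ : Spec.map (CommRingCat.ofHom φ) = g.left := Spec.map_preimage g.left
  have hc : φ.comp (algebraMap K B) = algebraMap K P := by
    rw [← hφ, ← Spec.map_comp, ← CommRingCat.ofHom_comp] at hw
    exact congrArg CommRingCat.Hom.hom (Spec.map_injective hw)
  refine ⟨{ toRingHom := φ, commutes' := fun x => DFunLike.congr_fun hc x }, ?_⟩
  ext1
  exact hφ

theorem exists_algHom_of_range_subset (j : SpecOver K B ⟶ A) [IsOpenImmersion j.left]
    (p : SpecOver K P ⟶ A) (h : Set.range p.left ⊆ Set.range j.left) :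
    ∃ φ : B →ₐ[K] P, specMap φ ≫ j = p := by
  let l : Spec (CommRingCat.of P) ⟶ Spec (CommRingCat.of B) := IsOpenImmersion.lift j.left p.left h
  have hl : l ≫ j.left = p.left := IsOpenImmersion.lift_fac j.left p.left h
  let l' : SpecOver K P ⟶ SpecOver K B := Over.homMk l (by
    have h1 : j.left ≫ A.hom = (SpecOver K B).hom := Over.w j
    have h2 : p.left ≫ A.hom = (SpecOver K P).hom := Over.w p
    rw [← h1, ← h2, ← Category.assoc, hl])
  obtain ⟨φ, hφ⟩ := exists_specMap l'
  refine ⟨φ, ?_⟩
  rw [hφ]
  ext1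
  exact hl

variable {N : Type u} [AddCommGroup N] [Module S N]

/-- Lifting along the square zero extension `Spec S ⟶ Spec (S ⊕ N)`. -/
theorem exists_lift_SZ (j : SpecOver K B ⟶ A) [IsOpenImmersion j.left]
    (p : SpecOver K (SZ S N) ⟶ A) (ψ : B →ₐ[K] S)
    (h : specMap (SZ.pr K S N) ≫ p = specMap ψ ≫ j) :
    ∃ φ : B →ₐ[K] SZ S N, (∀ x, (φ x).fst = ψ x) ∧ specMap φ ≫ j = p := by
  obtain ⟨φ, hφ⟩ := exists_algHom_of_range_subset j p (by
    rintro _ ⟨x, rfl⟩
    obtain ⟨y, rfl⟩ : ∃ y : Spec (CommRingCat.of S), (specMap (SZ.pr K S N)).left y = x :=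
      SZ.comap_pr_surjective (K := K) (S := S) (N := N) x
    have h1 : (specMap (SZ.pr K S N)).left ≫ p.left = (specMap ψ).left ≫ j.left :=
      congrArg (fun t => t.left) h
    refine ⟨(specMap ψ).left y, ?_⟩
    rw [← Scheme.Hom.comp_apply, ← Scheme.Hom.comp_apply, ← h1])
  refine ⟨φ, ?_, hφ⟩
  have h2 : (SZ.pr K S N).comp φ = ψ := by
    apply specMap_comp_injective j
    rw [specMap_comp, Category.assoc, hφ, h]
  intro x
  exact DFunLike.congr_fun h2 x

end

end Groth.Agent.Sga7.H244
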