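import Mathlib.RingTheory.Derivation.Basic
import Mathlib.RingTheory.Spectrum.Prime.RingHom
import Mathlib.Tactic.Module

/-!
# Split square zero extensions `SZ S N = S ⊕ N`
-/

set_option autoImplicit false

universe u v w

namespace Groth.Agent.Sga7.H244

/-- The split square zero extension `S ⊕ N` of the ring `S` by the module `N`. -/
@[ext] structure SZ (S : Type u) (N : Type v) where
  fst : S
  snd : N

namespace SZ

section Ring

variable {S : Type u} {N : Type v} [CommRing S] [AddCommGroup N] [Module S N]

instance : Zero (SZ S N) := ⟨⟨0, 0⟩⟩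
instance : One (SZ S N) := ⟨⟨1, 0⟩⟩
instance : Add (SZ S N) := ⟨fun x y => ⟨x.fst + y.fst, x.snd + y.snd⟩⟩
instance : Neg (SZ S N) := ⟨fun x => ⟨-x.fst, -x.snd⟩⟩
instance : Mul (SZ S N) := ⟨fun x y => ⟨x.fst * y.fst, x.fst • y.snd + y.fst • x.snd⟩⟩

omit [Module S N] in
@[simp] theorem fst_zero : (0 : SZ S N).fst = 0 := rfl
omit [Module S N] in
@[simp] theorem snd_zero : (0 : SZ S N).snd = 0 := rfl
omit [Module S N] in
@[simp] theorem fst_one : (1 : SZ S N).fst = 1 := rfl
omit [Module S N] in
@[simp] theorem snd_one : (1 : SZ S N).snd = 0 := rfl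
omit [Module S N] in
@[simp] theorem fst_add (x y : SZ S N) : (x + y).fst = x.fst + y.fst := rfl
omit [Module S N] in
@[simp] theorem snd_add (x y : SZ S N) : (x + y).snd = x.snd + y.snd := rfl
omit [Module S N] in
@[simp] theorem fst_neg (x : SZ S N) : (-x).fst = -x.fst := rfl
omit [Module S N] in
@[simp] theorem snd_neg (x : SZ S N) : (-x).snd = -x.snd := rfl
@[simp] theorem fst_mul (x y : SZ S N) : (x * y).fst = x.fst * y.fst := rfl
@[simp] theorem snd_mul (x y : SZ S N) : (x * y).snd = x.fst • y.snd + y.fst • x.snd := rfl

instance : CommRing (SZ S N) where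
  add_assoc a b c := by ext <;> simp [add_assoc]
  zero_add a := by ext <;> simp
  add_zero a := by ext <;> simp
  add_comm a b := by ext <;> simp [add_comm]
  neg_add_cancel a := by ext <;> simp
  mul_assoc a b c := by
    ext
    · simp [mul_assoc]
    · simp only [snd_mul, fst_mul]
      module
  one_mul a := by ext <;> simp
  mul_one a := by ext <;> simp
  left_distrib a b c := by
    ext
    · simp [mul_add]
    · simp only [snd_mul, fst_add, snd_add]
      module
  right_distrib a b c := by
    ext
    · simp [add_mul]
    · simp only [snd_mul, fst_add, snd_add]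
      module
  zero_mul a := by ext <;> simp
  mul_zero a := by ext <;> simp
  mul_comm a b := by
    ext
    · simp [mul_comm]
    · simp [add_comm]
  nsmul := nsmulRec
  zsmul := zsmulRec

variable (S N) in
/-- The inclusion `S ⟶ S ⊕ N`. -/
def inlHom : S →+* SZ S N where
  toFun s := ⟨s, 0⟩
  map_one' := rfl
  map_mul' x y := by ext <;> simp
  map_zero' := rfl
  map_add' x y := by ext <;> simp

variable (S N) in
/-- The projection `S ⊕ N ⟶ S`. -/
def fstHom : SZ S N →+* S where
  toFun s := s.fst
  map_one' := rfl
  map_mul' _ _ := rfl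
  map_zero' := rfl
  map_add' _ _ := rfl

@[simp] theorem fstHom_apply (x : SZ S N) : fstHom S N x = x.fst := rfl

end Ring

section Alg

variable {K : Type w} {S : Type u} {N : Type v} [CommRing K] [CommRing S] [AddCommGroup N]
  [Module S N] [Algebra K S]

instance : Algebra K (SZ S N) := ((inlHom S N).comp (algebraMap K S)).toAlgebra

@[simp] theorem fst_algebraMap (x : K) : (algebraMap K (SZ S N) x).fst = algebraMap K S x := rfl
@[simp] theorem snd_algebraMap (x : K) : (algebraMap K (SZ S N) x).snd = 0 := rfl

variable (K S N) in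
/-- The inclusion as a `K`-algebra map. -/
def inl : S →ₐ[K] SZ S N where
  toRingHom := inlHom S N
  commutes' _ := rfl

@[simp] theorem inl_fst (s : S) : (inl K S N s).fst = s := rfl
@[simp] theorem inl_snd (s : S) : (inl K S N s).snd = 0 := rfl

variable (K S N) in
/-- The projection as a `K`-algebra map. -/
def pr : SZ S N →ₐ[K] S where
  toRingHom := fstHom S N
  commutes' _ := rfl

@[simp] theorem pr_apply (x : SZ S N) : pr K S N x = x.fst := rfl

theorem pr_comp_inl : (pr K S N).comp (inl K S N) = AlgHom.id K S := by ext; rfl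

/-- The algebra map attached to a derivation. -/
def ofDer [Module K N] (D : Derivation K S N) : S →ₐ[K] SZ S N where
  toFun s := ⟨s, D s⟩
  map_one' := by ext <;> simp
  map_mul' x y := by ext <;> simp
  map_zero' := by ext <;> simp
  map_add' x y := by ext <;> simp
  commutes' x := by ext <;> simp

@[simp] theorem ofDer_fst [Module K N] (D : Derivation K S N) (s : S) : (ofDer D s).fst = s := rfl
@[simp] theorem ofDer_snd [Module K N] (D : Derivation K S N) (s : S) : (ofDer D s).snd = D s := rfl

theorem pr_comp_ofDer [Module K N] (D : Derivation K S N) :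
    (pr K S N).comp (ofDer D) = AlgHom.id K S := by ext; rfl

theorem ofDer_zero [Module K N] : ofDer (0 : Derivation K S N) = inl K S N := by
  ext <;> simp

/-- The derivation attached to a section of the projection. -/
def toDer [Module K N] [IsScalarTower K S N] (φ : S →ₐ[K] SZ S N) (h : ∀ s, (φ s).fst = s) :
    Derivation K S N :=
  Derivation.mk'
    { toFun := fun s => (φ s).snd
      map_add' := fun x y => by simp
      map_smul' := fun c x => by
        rw [Algebra.smul_def, map_mul, AlgHom.commutes, snd_mul, fst_algebraMap, snd_algebraMap,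
          smul_zero, add_zero, algebraMap_smul, RingHom.id_apply] }
    (fun x y => by
      change (φ (x * y)).snd = x • (φ y).snd + y • (φ x).snd
      rw [map_mul, snd_mul, h, h])

theorem toDer_apply [Module K N] [IsScalarTower K S N] (φ : S →ₐ[K] SZ S N)
    (h : ∀ s, (φ s).fst = s) (s : S) : toDer φ h s = (φ s).snd := rfl

theorem ofDer_toDer [Module K N] [IsScalarTower K S N] (φ : S →ₐ[K] SZ S N)
    (h : ∀ s, (φ s).fst = s) : ofDer (toDer φ h) = φ := by
  ext s
  · exact (h s).symm
  · rfl

/-- The prime spectrum does not change. -/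
theorem comap_pr_surjective :
    Function.Surjective (PrimeSpectrum.comap (pr K S N).toRingHom) := by
  intro P
  have hsurj : Function.Surjective (pr K S N).toRingHom := fun s => ⟨inl K S N s, rfl⟩
  have : P ∈ Set.range (PrimeSpectrum.comap (pr K S N).toRingHom) := by
    rw [range_comap_of_surjective _ _ hsurj]
    intro x hx
    have hx' : x.fst = 0 := hx
    have h2 : x * x = 0 := by ext <;> simp [hx']
    have h3 : x * x ∈ P.asIdeal := by rw [h2]; exact P.asIdeal.zero_mem
    exact (P.isPrime.mem_or_mem h3).elim id id
  exact this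

end Alg

section Map

variable {K : Type*} [CommRing K] {S S' N N' : Type*} [CommRing S] [CommRing S'] [Algebra K S] [Algebra K S']
  [AddCommGroup N] [Module S N] [AddCommGroup N'] [Module S' N']

/-- Functoriality for semilinear maps. -/
def map (f : S →ₐ[K] S') (g : N →+ N') (h : ∀ (s : S) (n : N), g (s • n) = f s • g n) :
    SZ S N →ₐ[K] SZ S' N' where
  toFun x := ⟨f x.fst, g x.snd⟩
  map_one' := by ext <;> simp
  map_mul' x y := by ext <;> simp [h]
  map_zero' := by ext <;> simp
  map_add' x y := by ext <;> simp
  commutes' x := by ext <;> simp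

@[simp] theorem map_fst (f : S →ₐ[K] S') (g : N →+ N')
    (h : ∀ (s : S) (n : N), g (s • n) = f s • g n) (x : SZ S N) : (map f g h x).fst = f x.fst := rfl

@[simp] theorem map_snd (f : S →ₐ[K] S') (g : N →+ N')
    (h : ∀ (s : S) (n : N), g (s • n) = f s • g n) (x : SZ S N) : (map f g h x).snd = g x.snd := rfl

theorem pr_comp_map (f : S →ₐ[K] S') (g : N →+ N')
    (h : ∀ (s : S) (n : N), g (s • n) = f s • g n) :
    (pr K S' N').comp (map f g h) = f.comp (pr K S N) := by ext; rfl

theorem map_comp_inl (f : S →ₐ[K] S') (g : N →+ N')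
    (h : ∀ (s : S) (n : N), g (s • n) = f s • g n) :
    (map f g h).comp (inl K S N) = (inl K S' N').comp f := by ext <;> simp

end Map

end SZ

end Groth.Agent.Sga7.H244
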