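import Groth.Agent.Sga7.H244.OpenLaw

/-!
# Stage 1: translations, inverse and products of minimal charts
-/

set_option autoImplicit false

universe u v

open CategoryTheory CategoryTheory.Limits MonoidalCategory CartesianMonoidalCategory AlgebraicGeometry
  MonObj KaehlerDifferential

namespace Groth.Agent.Sga7.H244

open Index Charts

section WNP

variable {R K : Type u} [CommRing R] [IsLocalRing R] [Field K] [Algebra R K]
  {A : Over (Spec (CommRingCat.of K))}

/-- The weak Néron property of a family of charts, at generic points of special fibres. -/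
def WNP {I : Type v} (Y : I → Chart R K A) : Prop :=
  ∀ (Z : Chart R K A), Smooth Z.x → ∀ (ζ : Z.X), Z.x.base ζ = IsLocalRing.closedPoint R →
    (∀ y : Z.X, y ⤳ ζ → Z.x.base y = IsLocalRing.closedPoint R → y = ζ) →
    ∃ (i : I) (U : Z.X.Opens) (_ : ζ ∈ U) (g : U.toScheme ⟶ (Y i).X),
      g ≫ (Y i).x = U.ι ≫ Z.x ∧
      ∀ (T : Over (Spec (CommRingCat.of K))) (t : T.left ⟶ U.toScheme)
        (h₁ : (t ≫ g) ≫ (Y i).x = T.hom ≫ gen R K)
        (h₂ : (t ≫ U.ι) ≫ Z.x = T.hom ≫ gen R K),
        (Y i).pt (t ≫ g) h₁ = Z.pt (t ≫ U.ι) h₂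

end WNP

section Ring

variable {R K : Type u} [CommRing R] [IsDomain R] [IsDiscreteValuationRing R] [Field K] [Algebra R K]
  {A : Over (Spec (CommRingCat.of K))} {ϖ : R} (hϖ : Irreducible ϖ)

include hϖ in
theorem comap_eq_closedPoint_iff {B : Type u} [CommRing B] [Algebra R B] (y : PrimeSpectrum B) :
    PrimeSpectrum.comap (algebraMap R B) y = IsLocalRing.closedPoint R ↔
      algebraMap R B ϖ ∈ y.asIdeal := by
  rw [PrimeSpectrum.ext_iff]
  change Ideal.comap (algebraMap R B) y.asIdeal = IsLocalRing.maximalIdeal R ↔ _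
  rw [hϖ.maximalIdeal_eq]
  constructor
  · intro h
    have : ϖ ∈ Ideal.comap (algebraMap R B) y.asIdeal := by
      rw [h]; exact Ideal.mem_span_singleton_self _
    exact this
  · intro h
    have hmax : (Ideal.span {ϖ}).IsMaximal := by rw [← hϖ.maximalIdeal_eq]; infer_instance
    refine (hmax.eq_of_le ?_ ?_).symm
    · exact (Ideal.IsPrime.comap (algebraMap R B)).ne_top
    · rw [Ideal.span_singleton_le_iff_mem]; exact h

include hϖ in
/-- Points over the closed point. -/
theorem map_eq_closedPoint_iff {B : Type u} [CommRing B] [Algebra R B]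
    (y : Spec (CommRingCat.of B)) :
    (Spec.map (CommRingCat.ofHom (algebraMap R B))).base y = IsLocalRing.closedPoint R ↔
      algebraMap R B ϖ ∈ y.asIdeal :=
  comap_eq_closedPoint_iff hϖ (B := B) y

theorem exists_basicOpen_le {E : Type u} [CommRing E] (U : (Spec (CommRingCat.of E)).Opens)
    (z : Spec (CommRingCat.of E)) (hz : z ∈ U) :
    ∃ s : E, s ∉ z.asIdeal ∧ ∀ y : Spec (CommRingCat.of E), s ∉ y.asIdeal → y ∈ U := by
  obtain ⟨_, ⟨_, ⟨s, rfl⟩, rfl⟩, hzs, hsU⟩ :=
    (PrimeSpectrum.isBasis_basic_opens (R := E)).exists_subset_of_mem_open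
    (a := z) (u := (U : Set (Spec (CommRingCat.of E)))) hz U.isOpen
  exact ⟨s, hzs, fun y hy => hsU hy⟩

omit [IsDomain R] [IsDiscreteValuationRing R] in
theorem spec_comp {B D : Type u} [CommRing B] [CommRing D] [Algebra R B] [Algebra R D] [Algebra B D]
    [IsScalarTower R B D] :
    Spec.map (CommRingCat.ofHom (algebraMap B D)) ≫ Spec.map (CommRingCat.ofHom (algebraMap R B)) =
      Spec.map (CommRingCat.ofHom (algebraMap R D)) := by
  rw [← Spec.map_comp, ← CommRingCat.ofHom_comp, ← IsScalarTower.algebraMap_eq]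

omit [IsDomain R] [IsDiscreteValuationRing R] in
/-- Morphisms between affine schemes over `R` come from algebra structures. -/
theorem exists_algebra_of_spec {B D : Type u} [CommRing B] [CommRing D] [Algebra R B] [Algebra R D]
    (g : Spec (CommRingCat.of D) ⟶ Spec (CommRingCat.of B))
    (hg : g ≫ Spec.map (CommRingCat.ofHom (algebraMap R B)) =
      Spec.map (CommRingCat.ofHom (algebraMap R D))) :
    ∃ (_ : Algebra B D) (_ : IsScalarTower R B D),
      g = Spec.map (CommRingCat.ofHom (algebraMap B D)) := by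
  let φ : B →+* D := (Spec.preimage g).hom
  have hφ : Spec.map (CommRingCat.ofHom φ) = g := Spec.map_preimage g
  let _ : Algebra B D := φ.toAlgebra
  refine ⟨inferInstance, ?_, hφ.symm⟩
  refine IsScalarTower.of_algebraMap_eq' ?_
  rw [← hφ, ← Spec.map_comp, ← CommRingCat.ofHom_comp] at hg
  exact (congrArg CommRingCat.Hom.hom (Spec.map_injective hg)).symm

include hϖ in
/-- The weak Néron property for rings. -/
theorem WNP.ring {I : Type v} {W : I → RC R K A} (hW : WNP (fun i => ofRing (W i).p))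
    {E : Type u} [CommRing E] [Algebra R E] [Algebra.Smooth R E]
    (f : SpecOver K (G R K E) ⟶ A) (ζ : Ideal E) [hζp : ζ.IsPrime] (hζ : IsGenPt ϖ ζ) :
    ∃ (i : I) (s : E) (_ : s ∉ ζ) (_ : Algebra (W i).B (Localization.Away s))
      (_ : IsScalarTower R (W i).B (Localization.Away s)),
      res (S' := G R K (Localization.Away s)) (W i).p = res (S' := G R K (Localization.Away s)) f := by
  have hsm : Smooth (ofRing f).x := by
    change Smooth (Spec.map (CommRingCat.ofHom (algebraMap R E)))
    rw [HasRingHomProperty.Spec_iff (P := @Smooth)]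
    exact RingHom.smooth_algebraMap.mpr inferInstance
  let z : Spec (CommRingCat.of E) := (⟨ζ, hζp⟩ : PrimeSpectrum E)
  obtain ⟨i, U, hU, g, hg, hpt⟩ := hW (ofRing f) hsm z
    ((map_eq_closedPoint_iff hϖ z).mpr (hζ.1.2 (Ideal.mem_span_singleton_self _)))
    (by
      intro y hy hy'
      have h1 : algebraMap R E ϖ ∈ y.asIdeal := (map_eq_closedPoint_iff hϖ y).mp hy'
      have h2 : y.asIdeal ≤ ζ := (PrimeSpectrum.le_iff_specializes (R := E) y z).mpr hy
      have h3 : ζ ≤ y.asIdeal := hζ.2 ⟨y.isPrime, (Ideal.span_singleton_le_iff_mem _).mpr h1⟩ h2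
      exact PrimeSpectrum.ext (R := E) (le_antisymm h2 h3))
  let U' : (Spec (CommRingCat.of E)).Opens := U
  let g' : U'.toScheme ⟶ Spec (CommRingCat.of (W i).B) := g
  have hg' : g' ≫ Spec.map (CommRingCat.ofHom (algebraMap R (W i).B)) =
    U'.ι ≫ Spec.map (CommRingCat.ofHom (algebraMap R E)) := hg
  obtain ⟨s, hs, hsU⟩ := exists_basicOpen_le (E := E) U' z hU
  let D := Localization.Away s
  let js : Spec (CommRingCat.of D) ⟶ Spec (CommRingCat.of E) :=
    Spec.map (CommRingCat.ofHom (algebraMap E D))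
  have hjsR : js ≫ Spec.map (CommRingCat.ofHom (algebraMap R E)) =
      Spec.map (CommRingCat.ofHom (algebraMap R D)) := spec_comp
  have hjs : Set.range js = {y | s ∉ y.asIdeal} := PrimeSpectrum.localization_away_comap_range D s
  let l : Spec (CommRingCat.of D) ⟶ U'.toScheme := IsOpenImmersion.lift U'.ι js (by
    rw [Scheme.Opens.range_ι]
    rintro _ ⟨y, rfl⟩
    refine hsU _ ?_
    have : js y ∈ Set.range js := ⟨y, rfl⟩
    rw [hjs] at this
    exact this)
  have hl : l ≫ U'.ι = js := IsOpenImmersion.lift_fac _ _ _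
  have hlg : (l ≫ g') ≫ Spec.map (CommRingCat.ofHom (algebraMap R (W i).B)) =
      Spec.map (CommRingCat.ofHom (algebraMap R D)) := by
    rw [Category.assoc, hg', ← Category.assoc, hl, hjsR]
  obtain ⟨alg, tow, hγ⟩ := exists_algebra_of_spec (l ≫ g') hlg
  refine ⟨i, s, hs, alg, tow, ?_⟩
  -- compare over `T = Spec (G D)`
  let T : Over (Spec (CommRingCat.of K)) := SpecOver K (G R K D)
  let a : T.left ⟶ Spec (CommRingCat.of D) := Spec.map (CommRingCat.ofHom (algebraMap D (G R K D)))
  have ha : a ≫ Spec.map (CommRingCat.ofHom (algebraMap R D)) = T.hom ≫ gen R K :=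
    (isPullback_gen D).w
  have hid : liftOver a ha = 𝟙 T := by
    ext1
    change (isPullback_gen D).lift a T.hom ha = 𝟙 _
    apply (isPullback_gen D).hom_ext
    · rw [IsPullback.lift_fst, Category.id_comp]
    · rw [IsPullback.lift_snd, Category.id_comp]
      rfl
  have e1 := pt_ofRing (W i).p a ha (by
    change (a ≫ Spec.map (CommRingCat.ofHom (algebraMap (W i).B D))) ≫
      Spec.map (CommRingCat.ofHom (algebraMap R (W i).B)) = _
    rw [← hγ, Category.assoc, hlg, ha])
  have e2 := pt_ofRing f a ha (by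
    change (a ≫ Spec.map (CommRingCat.ofHom (algebraMap E D))) ≫
      Spec.map (CommRingCat.ofHom (algebraMap R E)) = _
    rw [Category.assoc, spec_comp, ha])
  rw [hid, Category.id_comp] at e1 e2
  rw [← e1, ← e2]
  have hlU : (a ≫ l) ≫ U'.ι = a ≫ js := by rw [Category.assoc, hl]
  have hlg2 : (a ≫ l) ≫ g' = a ≫ Spec.map (CommRingCat.ofHom (algebraMap (W i).B D)) := by
    rw [Category.assoc, hγ]
  have k1 : ((a ≫ l) ≫ g') ≫ Spec.map (CommRingCat.ofHom (algebraMap R (W i).B)) =
      T.hom ≫ gen R K := by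
    rw [Category.assoc a l g', Category.assoc, hlg, ha]
  have k2 : ((a ≫ l) ≫ U'.ι) ≫ Spec.map (CommRingCat.ofHom (algebraMap R E)) =
      T.hom ≫ gen R K := by
    rw [hlU, Category.assoc, hjsR, ha]
  have hpt' := hpt T (a ≫ l) k1 k2
  exact ((pt_congr _ hlg2 _ _).symm.trans hpt').trans (pt_congr _ hlU _ _)

end Ring

end Groth.Agent.Sga7.H244
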