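import Groth.Agent.Sga7.H244.MinChart
import Groth.Agent.Sga7.H244.Laws2

/-!
# Stage 2: relations and laws between minimal charts
-/

set_option autoImplicit false

universe u v

open CategoryTheory CategoryTheory.Limits MonoidalCategory CartesianMonoidalCategory AlgebraicGeometry
  MonObj KaehlerDifferential

namespace Groth.Agent.Sga7.H244

open Index Charts

section Basic

variable {R K : Type u} [CommRing R] [IsDomain R] [IsDiscreteValuationRing R] [Field K] [Algebra R K]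
  {A : Over (Spec (CommRingCat.of K))} [GrpObj A] (T : TanChart A) {ϖ : R} (hϖ : Irreducible ϖ)

omit [IsDomain R] [IsDiscreteValuationRing R] [GrpObj A] in
theorem smooth_ofRing {B : Type u} [CommRing B] [Algebra R B] [Algebra.Smooth R B]
    (p : SpecOver K (G R K B) ⟶ A) : Smooth (ofRing p).x := by
  change Smooth (Spec.map (CommRingCat.ofHom (algebraMap R B)))
  rw [HasRingHomProperty.Spec_iff (P := @Smooth)]
  exact RingHom.smooth_algebraMap.mpr inferInstance

include hϖ in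
theorem IsMC.irr {n₀ : ℤ} {B : Type u} [CommRing B] [Algebra R B] {p : SpecOver K (G R K B) ⟶ A}
    (h : IsMC T ϖ n₀ p) : ∃ ξ, Irr (ofRing p) ξ := by
  obtain ⟨ξ, hξp, hξϖ, hξ⟩ := h.ex
  refine ⟨(⟨ξ, hξp⟩ : PrimeSpectrum B), ?_, ?_⟩
  · exact (map_eq_closedPoint_iff hϖ (B := B) (⟨ξ, hξp⟩ : PrimeSpectrum B)).mpr hξϖ
  · intro y hy
    have h1 := (map_eq_closedPoint_iff hϖ (B := B) y).mp hy
    exact (PrimeSpectrum.le_iff_specializes (R := B) ⟨ξ, hξp⟩ y).mp (hξ _ y.isPrime h1)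

omit [IsDomain R] [IsDiscreteValuationRing R] in
/-- The inverse of a minimal chart. -/
theorem IsMC.inv [IsCommMonObj A] {n₀ : ℤ} {B : Type u} [CommRing B] [Algebra R B]
    {p : SpecOver K (G R K B) ⟶ A} (h : IsMC T ϖ n₀ p) : IsMC T ϖ n₀ p⁻¹ where
  smooth := h.smooth
  openImmersion := by
    have := h.openImmersion
    have e : p⁻¹ = p ≫ GrpObj.inv := rfl
    have : IsIso (GrpObj.inv (X := A)).left :=
      inferInstanceAs (IsIso ((Over.forget _).map (GrpObj.inv (X := A))))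
    rw [e]
    change IsOpenImmersion (p.left ≫ (GrpObj.inv (X := A)).left)
    infer_instance
  ex := h.ex
  idx y _ hy := (h.idx y hy).inv

end Basic

section Rels

variable {R K : Type u} [CommRing R] [IsDomain R] [IsDiscreteValuationRing R] [Field K] [Algebra R K]
  {A : Over (Spec (CommRingCat.of K))} [GrpObj A] {ϖ : R} (hϖ : Irreducible ϖ)

/-- The relation attached to a ring over two charts. -/
noncomputable def relOf {B₁ B₂ D : Type u} [CommRing B₁] [CommRing B₂] [CommRing D] [Algebra R B₁]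
    [Algebra R B₂] [Algebra R D] [Algebra B₁ D] [Algebra B₂ D] [IsScalarTower R B₁ D]
    [IsScalarTower R B₂ D] (p₁ : SpecOver K (G R K B₁) ⟶ A) (p₂ : SpecOver K (G R K B₂) ⟶ A)
    (c : 𝟙_ (Over (Spec (CommRingCat.of K))) ⟶ A)
    (hp : res (S' := G R K D) p₂ = res p₁ * (toUnit _ ≫ c))
    {U : Scheme.{u}} (k : U ⟶ Spec (CommRingCat.of D))
    (h₁ : IsOpenImmersion (k ≫ Spec.map (CommRingCat.ofHom (algebraMap B₁ D))))
    (h₂ : IsOpenImmersion (k ≫ Spec.map (CommRingCat.ofHom (algebraMap B₂ D))))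
    (hz : ∃ z : U, (k ≫ Spec.map (CommRingCat.ofHom (algebraMap R D))) z = IsLocalRing.closedPoint R) :
    Rel (ofRing p₁) (ofRing p₂) (tr c) where
  Z := U
  j₁ := k ≫ Spec.map (CommRingCat.ofHom (algebraMap B₁ D))
  j₂ := k ≫ Spec.map (CommRingCat.ofHom (algebraMap B₂ D))
  open₁ := h₁
  open₂ := h₂
  w := by
    change (k ≫ Spec.map _) ≫ Spec.map _ = (k ≫ Spec.map _) ≫ Spec.map _
    rw [Category.assoc, spec_comp, Category.assoc, spec_comp]
  ex := by
    obtain ⟨z, hz⟩ := hz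
    refine ⟨z, ?_⟩
    rw [← Scheme.Hom.comp_apply]
    change ((k ≫ Spec.map (CommRingCat.ofHom (algebraMap B₁ D))) ≫
      Spec.map (CommRingCat.ofHom (algebraMap R B₁))) z = _
    rw [Category.assoc, spec_comp, hz]
  pt T t h₁ h₂ := by
    have e₁ : (t ≫ k) ≫ Spec.map (CommRingCat.ofHom (algebraMap B₁ D)) =
      t ≫ k ≫ Spec.map (CommRingCat.ofHom (algebraMap B₁ D)) := Category.assoc _ _ _
    have e₂ : (t ≫ k) ≫ Spec.map (CommRingCat.ofHom (algebraMap B₂ D)) =
      t ≫ k ≫ Spec.map (CommRingCat.ofHom (algebraMap B₂ D)) := Category.assoc _ _ _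
    have k₁ : ((t ≫ k) ≫ Spec.map (CommRingCat.ofHom (algebraMap B₁ D))) ≫ (ofRing p₁).x =
      T.hom ≫ gen R K := by rw [e₁]; exact h₁
    have k₂ : ((t ≫ k) ≫ Spec.map (CommRingCat.ofHom (algebraMap B₂ D))) ≫ (ofRing p₂).x =
      T.hom ≫ gen R K := by rw [e₂]; exact h₂
    have k₀ : (t ≫ k) ≫ Spec.map (CommRingCat.ofHom (algebraMap R D)) = T.hom ≫ gen R K := by
      rw [← spec_comp (R := R) (B := B₁) (D := D), ← Category.assoc]
      exact k₁
    have q₁ := pt_ofRing p₁ (t ≫ k) k₀ k₁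
    have q₂ := pt_ofRing p₂ (t ≫ k) k₀ k₂
    refine (pt_congr (ofRing p₂) e₂ k₂ h₂).symm.trans (q₂.trans ?_)
    refine Eq.trans ?_ (congrArg (tr c T) (pt_congr (ofRing p₁) e₁ k₁ h₁))
    refine Eq.trans ?_ (congrArg (tr c T) q₁.symm)
    have e5 : liftOver (t ≫ k) k₀ ≫ toUnit (SpecOver K (G R K D)) ≫ c = toUnit T ≫ c := by
      rw [← Category.assoc, comp_toUnit]
    rw [hp, MonObj.comp_mul, e5]
    rfl

/-- The law attached to a ring over three charts. -/
noncomputable def lawOf {B₁ B₂ B₃ D : Type u} [CommRing B₁] [CommRing B₂] [CommRing B₃] [CommRing D]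
    [Algebra R B₁] [Algebra R B₂] [Algebra R B₃] [Algebra R D] [Algebra B₁ D] [Algebra B₂ D]
    [Algebra B₃ D] [IsScalarTower R B₁ D]
    [IsScalarTower R B₂ D] [IsScalarTower R B₃ D] (p₁ : SpecOver K (G R K B₁) ⟶ A)
    (p₂ : SpecOver K (G R K B₂) ⟶ A) (p₃ : SpecOver K (G R K B₃) ⟶ A)
    (hp : res (S' := G R K D) p₃ = res p₁ * res p₂)
    {U : Scheme.{u}} (k : U ⟶ Spec (CommRingCat.of D))
    (h₁₂ : IsOpenImmersion (k ≫ graph R B₁ B₂ D))
    (h₁₃ : IsOpenImmersion (k ≫ graph R B₁ B₃ D))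
    (h₂₃ : IsOpenImmersion (k ≫ graph R B₂ B₃ D))
    (hz : ∃ z : U, (k ≫ Spec.map (CommRingCat.ofHom (algebraMap R D))) z = IsLocalRing.closedPoint R) :
    Law (ofRing p₁) (ofRing p₂) (ofRing p₃) 1 where
  U := U
  u₁ := k ≫ Spec.map (CommRingCat.ofHom (algebraMap B₁ D))
  u₂ := k ≫ Spec.map (CommRingCat.ofHom (algebraMap B₂ D))
  m := k ≫ Spec.map (CommRingCat.ofHom (algebraMap B₃ D))
  w₁₂ := by
    change (k ≫ Spec.map _) ≫ Spec.map _ = (k ≫ Spec.map _) ≫ Spec.map _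
    rw [Category.assoc, spec_comp, Category.assoc, spec_comp]
  w₁₃ := by
    change (k ≫ Spec.map _) ≫ Spec.map _ = (k ≫ Spec.map _) ≫ Spec.map _
    rw [Category.assoc, spec_comp, Category.assoc, spec_comp]
  w₃₂ := by
    change (k ≫ Spec.map _) ≫ Spec.map _ = (k ≫ Spec.map _) ≫ Spec.map _
    rw [Category.assoc, spec_comp, Category.assoc, spec_comp]
  ex := by
    obtain ⟨z, hz⟩ := hz
    refine ⟨z, ?_⟩
    rw [← Scheme.Hom.comp_apply]
    change ((k ≫ Spec.map (CommRingCat.ofHom (algebraMap B₃ D))) ≫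
      Spec.map (CommRingCat.ofHom (algebraMap R B₃))) z = _
    rw [Category.assoc, spec_comp, hz]
  open₁₂ := by
    have e : pullback.lift (k ≫ Spec.map (CommRingCat.ofHom (algebraMap B₁ D)))
        (k ≫ Spec.map (CommRingCat.ofHom (algebraMap B₂ D))) (by
          rw [Category.assoc, spec_comp, Category.assoc, spec_comp]) = k ≫ graph R B₁ B₂ D :=
      comp_lift_eq _ _ k _ _ _ _ rfl rfl
    rw [← e] at h₁₂
    exact h₁₂
  open₁₃ := by
    have e : pullback.lift (k ≫ Spec.map (CommRingCat.ofHom (algebraMap B₁ D)))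
        (k ≫ Spec.map (CommRingCat.ofHom (algebraMap B₃ D))) (by
          rw [Category.assoc, spec_comp, Category.assoc, spec_comp]) = k ≫ graph R B₁ B₃ D :=
      comp_lift_eq _ _ k _ _ _ _ rfl rfl
    rw [← e] at h₁₃
    exact h₁₃
  open₃₂ := by
    have h := h₂₃
    let s := pullbackSymmetry (Spec.map (CommRingCat.ofHom (algebraMap R B₂)))
      (Spec.map (CommRingCat.ofHom (algebraMap R B₃)))
    have h' : IsOpenImmersion ((k ≫ graph R B₂ B₃ D) ≫ s.hom) := inferInstance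
    have e : pullback.lift (k ≫ Spec.map (CommRingCat.ofHom (algebraMap B₃ D)))
        (k ≫ Spec.map (CommRingCat.ofHom (algebraMap B₂ D))) (by
          rw [Category.assoc, spec_comp, Category.assoc, spec_comp]) =
        (k ≫ graph R B₂ B₃ D) ≫ s.hom := by
      apply pullback.hom_ext
      · rw [pullback.lift_fst, Category.assoc, pullbackSymmetry_hom_comp_fst, Category.assoc, graph,
          pullback.lift_snd]
      · rw [pullback.lift_snd, Category.assoc, pullbackSymmetry_hom_comp_snd, Category.assoc, graph,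
          pullback.lift_fst]
    rw [← e] at h'
    exact h'
  pt T t h₁ h₂ h₃ := by
    have e₁ : (t ≫ k) ≫ Spec.map (CommRingCat.ofHom (algebraMap B₁ D)) =
      t ≫ k ≫ Spec.map (CommRingCat.ofHom (algebraMap B₁ D)) := Category.assoc _ _ _
    have e₂ : (t ≫ k) ≫ Spec.map (CommRingCat.ofHom (algebraMap B₂ D)) =
      t ≫ k ≫ Spec.map (CommRingCat.ofHom (algebraMap B₂ D)) := Category.assoc _ _ _
    have e₃ : (t ≫ k) ≫ Spec.map (CommRingCat.ofHom (algebraMap B₃ D)) =
      t ≫ k ≫ Spec.map (CommRingCat.ofHom (algebraMap B₃ D)) := Category.assoc _ _ _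
    have k₁ : ((t ≫ k) ≫ Spec.map (CommRingCat.ofHom (algebraMap B₁ D))) ≫ (ofRing p₁).x =
      T.hom ≫ gen R K := by rw [e₁]; exact h₁
    have k₂ : ((t ≫ k) ≫ Spec.map (CommRingCat.ofHom (algebraMap B₂ D))) ≫ (ofRing p₂).x =
      T.hom ≫ gen R K := by rw [e₂]; exact h₂
    have k₃ : ((t ≫ k) ≫ Spec.map (CommRingCat.ofHom (algebraMap B₃ D))) ≫ (ofRing p₃).x =
      T.hom ≫ gen R K := by rw [e₃]; exact h₃
    have k₀ : (t ≫ k) ≫ Spec.map (CommRingCat.ofHom (algebraMap R D)) = T.hom ≫ gen R K := by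
      rw [← spec_comp (R := R) (B := B₁) (D := D), ← Category.assoc]
      exact k₁
    have q₁ := pt_ofRing p₁ (t ≫ k) k₀ k₁
    have q₂ := pt_ofRing p₂ (t ≫ k) k₀ k₂
    have q₃ := pt_ofRing p₃ (t ≫ k) k₀ k₃
    refine (pt_congr (ofRing p₃) e₃ k₃ h₃).symm.trans (q₃.trans ?_)
    refine Eq.trans ?_ (congrArg (· * (toUnit T ≫ 1)) (congrArg₂ (· * ·)
      (pt_congr (ofRing p₁) e₁ k₁ h₁) (pt_congr (ofRing p₂) e₂ k₂ h₂)))
    refine Eq.trans ?_ (congrArg (· * (toUnit T ≫ 1)) (congrArg₂ (· * ·) q₁.symm q₂.symm))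
    rw [hp, MonObj.comp_mul, MonObj.comp_one]
    exact (_root_.mul_one _).symm

end Rels

section Shrink

variable {R K : Type u} [CommRing R] [IsDomain R] [IsDiscreteValuationRing R] [Field K] [Algebra R K]
  [IsFractionRing R K] {A : Over (Spec (CommRingCat.of K))} [GrpObj A]
  (T : TanChart A) {ϖ : R} (hϖ : Irreducible ϖ)

omit [IsDomain R] [IsDiscreteValuationRing R] [IsFractionRing R K] [GrpObj A] in
theorem pt_ofRing' {B : Type u} [CommRing B] [Algebra R B] (p : SpecOver K (G R K B) ⟶ A)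
    {T : Over (Spec (CommRingCat.of K))} (g : T.left ⟶ Spec (CommRingCat.of B))
    (h : g ≫ Spec.map (CommRingCat.ofHom (algebraMap R B)) = T.hom ≫ gen R K) :
    (ofRing p).pt g h = liftOver g h ≫ p := rfl

omit [IsDomain R] [IsDiscreteValuationRing R] [IsFractionRing R K] [GrpObj A] in
theorem res_res_G {B D E : Type u} [CommRing B] [CommRing D] [CommRing E] [Algebra R B] [Algebra R D]
    [Algebra R E] [Algebra B D] [Algebra B E] [Algebra D E] [IsScalarTower R B D] [IsScalarTower R B E]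
    [IsScalarTower R D E] [IsScalarTower B D E] (p : SpecOver K (G R K B) ⟶ A) :
    res (S' := G R K E) (res (S' := G R K D) p) = res p := res_res p

theorem spec_self (B : Type u) [CommRing B] :
    Spec.map (CommRingCat.ofHom (algebraMap B B)) = 𝟙 _ := by
  have : CommRingCat.ofHom (algebraMap B B) = 𝟙 (CommRingCat.of B) := rfl
  rw [this, Spec.map_id]

/-- The chart of the inverse. -/
noncomputable def relInv {B : Type u} [CommRing B] [Algebra R B] (p : SpecOver K (G R K B) ⟶ A)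
    (hz : ∃ z : Spec (CommRingCat.of B), Spec.map (CommRingCat.ofHom (algebraMap R B)) z =
      IsLocalRing.closedPoint R) :
    Rel (ofRing p) (ofRing p⁻¹) (iv 1) where
  Z := Spec (CommRingCat.of B)
  j₁ := 𝟙 _
  j₂ := 𝟙 _
  open₁ := inferInstanceAs (IsOpenImmersion (𝟙 (Spec (CommRingCat.of B))))
  open₂ := inferInstanceAs (IsOpenImmersion (𝟙 (Spec (CommRingCat.of B))))
  w := rfl
  ex := hz
  pt T t h₁ h₂ := by
    refine (pt_ofRing' p⁻¹ (t ≫ 𝟙 _) h₂).trans ?_
    refine Eq.trans ?_ (congrArg (iv 1 T) (pt_ofRing' p (t ≫ 𝟙 _) h₁).symm)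
    rw [GrpObj.comp_inv, iv, MonObj.comp_one, _root_.mul_one]

include hϖ in
/-- Shrinking to a minimal chart. -/
theorem exists_shrink {B : Type u} [CommRing B] [Algebra R B] [Algebra.Smooth R B]
    (p : SpecOver K (G R K B) ⟶ A) [IsOpenImmersion p.left] (y : PrimeSpectrum B)
    (hy : algebraMap R B ϖ ∈ y.asIdeal) {n₀ : ℤ} (hn : PIdx T ϖ p y.asIdeal n₀) :
    ∃ (y₀ : PrimeSpectrum B) (_ : y₀ ⤳ y) (_ : algebraMap R B ϖ ∈ y₀.asIdeal) (h : B)
      (_ : IsMC T ϖ n₀ (res (S' := G R K (Localization.Away h)) p))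
      (r : Rel (ofRing p) (ofRing (res (S' := G R K (Localization.Away h)) p)) (tr 1)) (z : r.Z),
      r.j₁ z = (y₀ : Spec (CommRingCat.of B)) := by
  obtain ⟨ξ, hξ, hle⟩ := Ideal.exists_minimalPrimes_le (I := Ideal.span {algebraMap R B ϖ})
    (J := y.asIdeal) ((Ideal.span_singleton_le_iff_mem _).mpr hy)
  have hξp : ξ.IsPrime := hξ.1.1
  have hξϖ : algebraMap R B ϖ ∈ ξ := hξ.1.2 (Ideal.mem_span_singleton_self _)
  have hn' : PIdx T ϖ p ξ n₀ := PIdx.of_le T hle hn
  obtain ⟨h, hh, hmc⟩ := exists_isMC T hϖ p ξ hξ hn'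
  let D := Localization.Away h
  let y₀ : PrimeSpectrum B := ⟨ξ, hξp⟩
  obtain ⟨z, hz⟩ : ∃ z : PrimeSpectrum D, PrimeSpectrum.comap (algebraMap B D) z = y₀ := by
    have h1 := PrimeSpectrum.localization_away_comap_range D h
    have h2 : y₀ ∈ Set.range (PrimeSpectrum.comap (algebraMap B D)) := by rw [h1]; exact hh
    exact h2
  have ho : IsOpenImmersion (Spec.map (CommRingCat.ofHom (algebraMap B D))) :=
    IsOpenImmersion.of_isLocalization h
  have hzc : (𝟙 (Spec (CommRingCat.of D)) ≫ Spec.map (CommRingCat.ofHom (algebraMap R D))) z =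
      IsLocalRing.closedPoint R := by
    rw [Category.id_comp]
    refine (map_eq_closedPoint_iff hϖ (B := D) z).mpr ?_
    have : algebraMap R B ϖ ∈ (PrimeSpectrum.comap (algebraMap B D) z).asIdeal := by
      rw [hz]; exact hξϖ
    change algebraMap B D (algebraMap R B ϖ) ∈ z.asIdeal at this
    rwa [← IsScalarTower.algebraMap_apply] at this
  refine ⟨y₀, (PrimeSpectrum.le_iff_specializes y₀ y).mp hle, hξϖ, h, hmc,
    relOf (D := D) p (res p) 1 ?_ (𝟙 _) ?_ ?_ ⟨z, hzc⟩, z, ?_⟩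
  · rw [MonObj.comp_one, _root_.mul_one]
    exact res_res_G (D := D) (E := D) p
  · rw [Category.id_comp]; exact ho
  · rw [Category.id_comp, spec_self]; infer_instance
  · change (𝟙 (Spec (CommRingCat.of D)) ≫ Spec.map (CommRingCat.ofHom (algebraMap B D))) z = y₀
    rw [Category.id_comp]
    exact hz

end Shrink

end Groth.Agent.Sga7.H244
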