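import Groth.Agent.Sga7.H244.Stage2

/-!
# Stage 3: translations and inverses of minimal charts
-/

set_option autoImplicit false

universe u v

open CategoryTheory CategoryTheory.Limits MonoidalCategory CartesianMonoidalCategory AlgebraicGeometry
  MonObj KaehlerDifferential

namespace Groth.Agent.Sga7.H244

open Index Charts

section Main

variable {R K : Type u} [CommRing R] [IsDomain R] [IsDiscreteValuationRing R] [Field K] [Algebra R K]
  [IsFractionRing R K] {A : Over (Spec (CommRingCat.of K))} [GrpObj A] [IsCommMonObj A]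
  (T : TanChart A) {ϖ : R} (hϖ : Irreducible ϖ) {I : Type v} {W : I → RC R K A}

theorem exists_prime_away {E : Type u} [CommRing E] (s : E) (D : Type u) [CommRing D] [Algebra E D]
    [IsLocalization.Away s D] (ζ : Ideal E) [ζ.IsPrime] (hs : s ∉ ζ) :
    ∃ z : PrimeSpectrum D, PrimeSpectrum.comap (algebraMap E D) z = ⟨ζ, inferInstance⟩ := by
  have h1 := PrimeSpectrum.localization_away_comap_range D s
  have h2 : (⟨ζ, inferInstance⟩ : PrimeSpectrum E) ∈ Set.range (PrimeSpectrum.comap (algebraMap E D)) := by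
    rw [h1]; exact hs
  exact h2

include hϖ in
/-- Translations of a minimal chart. -/
theorem exists_rel_away (hW : WNP (fun i => ofRing (W i).p)) {n₀ : ℤ}
    (hlow : ∀ (i : I) (y : Ideal (W i).B) [y.IsPrime] (_ : algebraMap R (W i).B ϖ ∈ y) (n : ℤ),
        PIdx T ϖ (W i).p y n → n₀ ≤ n)
    {B' : Type u} [CommRing B'] [Algebra R B'] {p' : SpecOver K (G R K B') ⟶ A} (h : IsMC T ϖ n₀ p')
    (c : 𝟙_ (Over (Spec (CommRingCat.of K))) ⟶ A) :
    ∃ (i : I) (r : Rel (ofRing p') (ofRing (W i).p) (tr c)) (z : r.Z) (y : PrimeSpectrum (W i).B),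
      r.j₂ z = (y : Spec (CommRingCat.of (W i).B)) ∧ algebraMap R (W i).B ϖ ∈ y.asIdeal ∧
        PIdx T ϖ (W i).p y.asIdeal n₀ := by
  have := h.smooth
  have := h.openImmersion
  obtain ⟨ξ, hξp, hξϖ, hξ⟩ := h.ex
  have hgen : IsGenPt ϖ ξ := ⟨⟨hξp, (Ideal.span_singleton_le_iff_mem _).mpr hξϖ⟩, fun y hy hle =>
    hξ y hy.1 (hy.2 (Ideal.mem_span_singleton_self _))⟩
  obtain ⟨i, s, hs, alg, tow, hres⟩ := hW.ring hϖ (p' * (toUnit _ ≫ c)) ξ hgen
  let D := Localization.Away s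
  obtain ⟨z, hz⟩ := exists_prime_away s D ξ hs
  have hzϖ : algebraMap R D ϖ ∈ z.asIdeal := by
    have : algebraMap R B' ϖ ∈ (PrimeSpectrum.comap (algebraMap B' D) z).asIdeal := by
      rw [hz]; exact hξϖ
    change algebraMap B' D (algebraMap R B' ϖ) ∈ z.asIdeal at this
    rwa [← IsScalarTower.algebraMap_apply] at this
  have hzp : z.asIdeal.IsPrime := z.isPrime
  have hp1 : res (S' := G R K D) (W i).p = res p' * (toUnit _ ≫ c) := by
    rw [hres, res_mul]
    congr 1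
    change specMap _ ≫ toUnit _ ≫ c = _
    rw [← Category.assoc, comp_toUnit]
  have hp2 : res (S' := G R K D) (W i).p = res p' * res (S := G R K R) (toUnit _ ≫ c) := by
    rw [hp1]
    congr 1
    change _ = specMap _ ≫ toUnit _ ≫ c
    rw [← Category.assoc, comp_toUnit]
  obtain ⟨hidx, U, hU, hopen⟩ := exists_isOpenImmersion_graph T hϖ (Q := R) (B' := B') (B := (W i).B)
    (E := B') (D := D) s z.asIdeal hzϖ (W i).p (toUnit _ ≫ c) p' hp2 n₀
    (fun y _ hy n hn => hlow i y hy n hn) (h.idx _ (by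
      change algebraMap B' D (algebraMap R B' ϖ) ∈ z.asIdeal
      rwa [← IsScalarTower.algebraMap_apply]))
  let k : U.toScheme ⟶ Spec (CommRingCat.of D) := U.ι
  have ho₁ : IsOpenImmersion (k ≫ Spec.map (CommRingCat.ofHom (algebraMap B' D))) := by
    have : IsOpenImmersion (Spec.map (CommRingCat.ofHom (algebraMap B' D))) :=
      IsOpenImmersion.of_isLocalization s
    infer_instance
  have ho₂ : IsOpenImmersion (k ≫ Spec.map (CommRingCat.ofHom (algebraMap (W i).B D))) := by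
    have hiso : IsIso (Spec.map (CommRingCat.ofHom (algebraMap R R))) := by
      rw [spec_self]; infer_instance
    have e : k ≫ Spec.map (CommRingCat.ofHom (algebraMap (W i).B D)) =
        (k ≫ graph R R (W i).B D) ≫ pullback.snd (Spec.map (CommRingCat.ofHom (algebraMap R R)))
          (Spec.map (CommRingCat.ofHom (algebraMap R (W i).B))) := by
      rw [Category.assoc, graph, pullback.lift_snd]
    rw [e]
    have := hopen
    infer_instance
  let z' : U.toScheme := ⟨z, hU⟩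
  have hz' : (k ≫ Spec.map (CommRingCat.ofHom (algebraMap R D))) z' = IsLocalRing.closedPoint R :=
    (map_eq_closedPoint_iff hϖ (B := D) z).mpr hzϖ
  refine ⟨i, relOf (D := D) p' (W i).p c hp1 k ho₁ ho₂ ⟨z', hz'⟩, z',
    PrimeSpectrum.comap (algebraMap (W i).B D) z, rfl, ?_, hidx⟩
  change algebraMap (W i).B D (algebraMap R (W i).B ϖ) ∈ z.asIdeal
  rwa [← IsScalarTower.algebraMap_apply]

/-- Minimal charts. -/
def MinP (ϖ : R) (n₀ : ℤ) (C : Chart R K A) : Prop :=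
  ∃ (B : Type u) (_ : CommRing B) (_ : Algebra R B) (p : SpecOver K (G R K B) ⟶ A),
    IsMC T ϖ n₀ p ∧ C = ofRing p

theorem mem_range_of_specializes {X Y : Scheme.{u}} (f : X ⟶ Y) (hf : IsOpenMap f) {y₀ y : Y}
    (h : y₀ ⤳ y) {x : X} (hx : f x = y) : ∃ x₀ : X, f x₀ = y₀ :=
  h.mem_open hf.isOpen_range ⟨x, hx⟩

include hϖ in
theorem exists_inv (hW : WNP (fun i => ofRing (W i).p)) {n₀ : ℤ}
    (hlow : ∀ (i : I) (y : Ideal (W i).B) [y.IsPrime] (_ : algebraMap R (W i).B ϖ ∈ y) (n : ℤ),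
        PIdx T ϖ (W i).p y n → n₀ ≤ n) (C : Chart R K A) (hC : MinP T ϖ n₀ C) :
    ∃ C', MinP T ϖ n₀ C' ∧ Nonempty (Rel C C' (iv 1)) := by
  obtain ⟨B', _, _, p', h, rfl⟩ := hC
  have h' := h.inv
  obtain ⟨i, r, z, y, hzy, hy, hn⟩ := exists_rel_away T hϖ hW hlow h' 1
  obtain ⟨y₀, hy₀, hy₀ϖ, g, hg, s, z', hz'⟩ := exists_shrink T hϖ (W i).p y hy hn
  obtain ⟨z₀, hz₀⟩ := mem_range_of_specializes r.j₂ r.j₂.isOpenEmbedding.isOpenMap (y₀ := y₀) hy₀ hzy
  obtain ⟨ξ, hξ⟩ := h'.irr T hϖ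
  have t := r.comp s ⟨z₀, z', hz₀.trans hz'.symm, by
    rw [hz₀]
    exact (map_eq_closedPoint_iff hϖ (B := (W i).B) y₀).mpr hy₀ϖ⟩
  have u := (relInv p' ⟨ξ, hξ.1⟩).trans t hξ
  refine ⟨_, ⟨_, inferInstance, inferInstance, _, hg, rfl⟩, ⟨u.congr fun T x => ?_⟩⟩
  change x⁻¹ * (toUnit T ≫ 1) * (toUnit T ≫ 1) * (toUnit T ≫ 1) = x⁻¹ * (toUnit T ≫ 1)
  rw [MonObj.comp_one, _root_.mul_one, _root_.mul_one]

end Main

end Groth.Agent.Sga7.H244
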