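import Groth.Agent.Sga7.H244.Stage3

/-!
# Stage 4: the law between minimal charts
-/

set_option autoImplicit false

universe u v

open CategoryTheory CategoryTheory.Limits MonoidalCategory CartesianMonoidalCategory AlgebraicGeometry
  MonObj KaehlerDifferential

namespace Groth.Agent.Sga7.H244

open Index Charts

section Main

variable {R K : Type u} [CommRing R] [IsDomain R] [IsDiscreteValuationRing R] [Field K] [Algebra R K]
  [IsFractionRing R K] {A : Over (Spec (CommRingCat.of K))} [GrpObj A] [IsCommMonObj A]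
  (T : TanChart A) {ϖ : R} (hϖ : Irreducible ϖ) {I : Type v} {W : I → RC R K A}

theorem graph_tensor {R : Type u} [CommRing R] {B₁ B₂ E D : Type u} [CommRing B₁] [CommRing B₂]
    [CommRing E] [CommRing D] [Algebra R B₁]
    [Algebra R B₂] [Algebra R E] [Algebra B₁ E] [Algebra B₂ E] [IsScalarTower R B₁ E]
    [IsScalarTower R B₂ E] [Algebra.IsPushout R B₁ B₂ E] [Algebra R D] [Algebra B₁ D] [Algebra B₂ D]
    [Algebra E D] [IsScalarTower R B₁ D]
    [IsScalarTower R B₂ D] [IsScalarTower B₁ E D] [IsScalarTower B₂ E D] (s : E)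
    [IsLocalization.Away s D] : IsOpenImmersion (graph R B₁ B₂ D) := by
  have hpb := isPullback_SpecMap_of_isPushout _ _ _ _
    (CommRingCat.isPushout_of_isPushout R B₁ B₂ E)
  have ho : IsOpenImmersion (Spec.map (CommRingCat.ofHom (algebraMap E D))) :=
    IsOpenImmersion.of_isLocalization s
  have e : graph R B₁ B₂ D = Spec.map (CommRingCat.ofHom (algebraMap E D)) ≫ hpb.isoPullback.hom := by
    apply pullback.hom_ext
    · rw [graph, pullback.lift_fst, Category.assoc, IsPullback.isoPullback_hom_fst, ← Spec.map_comp,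
        ← CommRingCat.ofHom_comp, ← IsScalarTower.algebraMap_eq]
    · rw [graph, pullback.lift_snd, Category.assoc, IsPullback.isoPullback_hom_snd, ← Spec.map_comp,
        ← CommRingCat.ofHom_comp, ← IsScalarTower.algebraMap_eq]
  rw [e]
  infer_instance

include hϖ in
theorem exists_prime_tensor {B₁ B₂ : Type u} [CommRing B₁] [CommRing B₂] [Algebra R B₁] [Algebra R B₂]
    (y₁ : PrimeSpectrum B₁) (y₂ : PrimeSpectrum B₂) (h₁ : algebraMap R B₁ ϖ ∈ y₁.asIdeal)
    (h₂ : algebraMap R B₂ ϖ ∈ y₂.asIdeal) :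
    ∃ P : Ideal (TensorProduct R B₁ B₂), P.IsPrime ∧ algebraMap R (TensorProduct R B₁ B₂) ϖ ∈ P := by
  have e₁ := (map_eq_closedPoint_iff hϖ (B := B₁) y₁).mpr h₁
  have e₂ := (map_eq_closedPoint_iff hϖ (B := B₂) y₂).mpr h₂
  obtain ⟨w, hw, -⟩ := Scheme.Pullback.exists_preimage_pullback
    (f := Spec.map (CommRingCat.ofHom (algebraMap R B₁)))
    (g := Spec.map (CommRingCat.ofHom (algebraMap R B₂))) y₁ y₂ (e₁.trans e₂.symm)
  let P : Spec (CommRingCat.of (TensorProduct R B₁ B₂)) := (pullbackSpecIso R B₁ B₂).hom w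
  refine ⟨P.asIdeal, P.isPrime, (map_eq_closedPoint_iff hϖ (B := TensorProduct R B₁ B₂) P).mp ?_⟩
  have e3 : (pullbackSpecIso R B₁ B₂).hom ≫
      Spec.map (CommRingCat.ofHom (algebraMap R (TensorProduct R B₁ B₂))) =
      pullback.fst (Spec.map (CommRingCat.ofHom (algebraMap R B₁)))
        (Spec.map (CommRingCat.ofHom (algebraMap R B₂))) ≫
        Spec.map (CommRingCat.ofHom (algebraMap R B₁)) := by
    rw [← spec_comp (R := R) (B := B₁) (D := TensorProduct R B₁ B₂), ← Category.assoc]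
    congr 1
    exact pullbackSpecIso_hom_fst R B₁ B₂
  change Spec.map (CommRingCat.ofHom (algebraMap R (TensorProduct R B₁ B₂)))
    ((pullbackSpecIso R B₁ B₂).hom w) = _
  rw [← Scheme.Hom.comp_apply, e3, Scheme.Hom.comp_apply, hw]
  exact e₁

include hϖ in
theorem exists_law (hW : WNP (fun i => ofRing (W i).p)) {n₀ : ℤ}
    (hlow : ∀ (i : I) (y : Ideal (W i).B) [y.IsPrime] (_ : algebraMap R (W i).B ϖ ∈ y) (n : ℤ),
        PIdx T ϖ (W i).p y n → n₀ ≤ n) (C' C'' : Chart R K A) (hC' : MinP T ϖ n₀ C')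
    (hC'' : MinP T ϖ n₀ C'') :
    ∃ C, MinP T ϖ n₀ C ∧ Nonempty (Law C' C'' C 1) := by
  obtain ⟨B₁, _, _, p₁, m₁, rfl⟩ := hC'
  obtain ⟨B₂, _, _, p₂, m₂, rfl⟩ := hC''
  have := m₁.smooth
  have := m₁.openImmersion
  have := m₂.smooth
  have := m₂.openImmersion
  obtain ⟨ξ₁, hξ₁p, hξ₁ϖ, -⟩ := m₁.ex
  obtain ⟨ξ₂, hξ₂p, hξ₂ϖ, -⟩ := m₂.ex
  obtain ⟨P, hPp, hPϖ⟩ := exists_prime_tensor hϖ ⟨ξ₁, hξ₁p⟩ ⟨ξ₂, hξ₂p⟩ hξ₁ϖ hξ₂ϖ
  let E := TensorProduct R B₁ B₂
  let _ : Algebra B₂ E := Algebra.TensorProduct.rightAlgebra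
  have hEsm' : Algebra.Smooth R E := Algebra.Smooth.comp R B₁ E
  obtain ⟨ζ, hζ, hζP⟩ := Ideal.exists_minimalPrimes_le (I := Ideal.span {algebraMap R E ϖ})
    (J := P) ((Ideal.span_singleton_le_iff_mem _).mpr hPϖ)
  have hζp : ζ.IsPrime := hζ.1.1
  have hζϖ : algebraMap R E ϖ ∈ ζ := hζ.1.2 (Ideal.mem_span_singleton_self _)
  obtain ⟨i, s, hs, alg, tow, hres⟩ := hW.ring hϖ
    (res (S' := G R K E) p₁ * res (S' := G R K E) p₂) ζ hζ
  let D := Localization.Away s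
  obtain ⟨z, hz⟩ := exists_prime_away s D ζ hs
  have hzϖ : algebraMap R D ϖ ∈ z.asIdeal := by
    have : algebraMap R E ϖ ∈ (PrimeSpectrum.comap (algebraMap E D) z).asIdeal := by
      rw [hz]; exact hζϖ
    change algebraMap E D (algebraMap R E ϖ) ∈ z.asIdeal at this
    rwa [← IsScalarTower.algebraMap_apply] at this
  have hzp : z.asIdeal.IsPrime := z.isPrime
  have t₁ : IsScalarTower B₁ E D := inferInstance
  have t₂ : IsScalarTower B₂ E D := inferInstance
  have t₃ : IsScalarTower R B₁ D := inferInstance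
  have t₄ : IsScalarTower R B₂ D := IsScalarTower.of_algebraMap_eq fun x => by
    rw [IsScalarTower.algebraMap_apply B₂ E D, ← IsScalarTower.algebraMap_apply R B₂ E,
      ← IsScalarTower.algebraMap_apply R E D]
  have hpush : Algebra.IsPushout R B₁ B₂ E := inferInstance
  have hpush' : Algebra.IsPushout R B₂ B₁ E := hpush.symm
  have hp₁₂ : res (S' := G R K D) (W i).p = res p₁ * res p₂ := by
    rw [hres, res_mul, res_res_G (D := E) (E := D) p₁, res_res_G (D := E) (E := D) p₂]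
  have hp₂₁ : res (S' := G R K D) (W i).p = res p₂ * res p₁ := by rw [hp₁₂, _root_.mul_comm]
  obtain ⟨hidx, U₁, hU₁, hopen₁⟩ := exists_isOpenImmersion_graph T hϖ (Q := B₁) (B' := B₂)
    (B := (W i).B) (E := E) (D := D) s z.asIdeal hzϖ (W i).p p₁ p₂ hp₂₁ n₀
    (fun y _ hy n hn => hlow i y hy n hn) (m₂.idx _ (by
      change algebraMap B₂ D (algebraMap R B₂ ϖ) ∈ z.asIdeal
      rwa [← IsScalarTower.algebraMap_apply]))
  obtain ⟨-, U₂, hU₂, hopen₂⟩ := exists_isOpenImmersion_graph T hϖ (Q := B₂) (B' := B₁)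
    (B := (W i).B) (E := E) (D := D) s z.asIdeal hzϖ (W i).p p₂ p₁ hp₁₂ n₀
    (fun y _ hy n hn => hlow i y hy n hn) (m₁.idx _ (by
      change algebraMap B₁ D (algebraMap R B₁ ϖ) ∈ z.asIdeal
      rwa [← IsScalarTower.algebraMap_apply]))
  let U : (Spec (CommRingCat.of D)).Opens := U₁ ⊓ U₂
  let k : U.toScheme ⟶ Spec (CommRingCat.of D) := U.ι
  have hk₁ : (Spec (CommRingCat.of D)).homOfLE (inf_le_left : U ≤ U₁) ≫ U₁.ι = k :=
    Scheme.homOfLE_ι _ _
  have hk₂ : (Spec (CommRingCat.of D)).homOfLE (inf_le_right : U ≤ U₂) ≫ U₂.ι = k :=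
    Scheme.homOfLE_ι _ _
  have h₁₃ : IsOpenImmersion (k ≫ graph R B₁ (W i).B D) := by
    rw [← hk₁, Category.assoc]
    infer_instance
  have h₂₃ : IsOpenImmersion (k ≫ graph R B₂ (W i).B D) := by
    rw [← hk₂, Category.assoc]
    infer_instance
  have h₁₂ : IsOpenImmersion (k ≫ graph R B₁ B₂ D) := by
    have := graph_tensor (R := R) (B₁ := B₁) (B₂ := B₂) (E := E) (D := D) s
    infer_instance
  let z' : U.toScheme := ⟨z, hU₁, hU₂⟩
  have hz' : (k ≫ Spec.map (CommRingCat.ofHom (algebraMap R D))) z' = IsLocalRing.closedPoint R :=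
    (map_eq_closedPoint_iff hϖ (B := D) z).mpr hzϖ
  let L : Law (ofRing p₁) (ofRing p₂) (ofRing (W i).p) 1 :=
    lawOf (D := D) p₁ p₂ (W i).p hp₁₂ k h₁₂ h₁₃ h₂₃ ⟨z', hz'⟩
  let y : PrimeSpectrum (W i).B := PrimeSpectrum.comap (algebraMap (W i).B D) z
  have hy : algebraMap R (W i).B ϖ ∈ y.asIdeal := by
    change algebraMap (W i).B D (algebraMap R (W i).B ϖ) ∈ z.asIdeal
    rwa [← IsScalarTower.algebraMap_apply]
  obtain ⟨y₀, hy₀, hy₀ϖ, g, hg, r, z'', hz''⟩ := exists_shrink T hϖ (W i).p y hy hidx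
  have hsm₁ : Smooth (ofRing p₁).x := smooth_ofRing p₁
  have hsm₂ := L.smooth_m
  obtain ⟨z₀, hz₀⟩ := mem_range_of_specializes L.m L.m.isOpenMap (y₀ := y₀) hy₀ (x := z') rfl
  have L' := L.target r ⟨z₀, z'', hz₀.trans hz''.symm, by
    rw [hz₀]
    exact (map_eq_closedPoint_iff hϖ (B := (W i).B) y₀).mpr hy₀ϖ⟩
  rw [_root_.mul_one] at L'
  exact ⟨_, ⟨_, inferInstance, inferInstance, _, hg, rfl⟩, ⟨L'⟩⟩

end Main

end Groth.Agent.Sga7.H244
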